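import Mathlib
import Cfsg.Agent.Lib.Forms.Elusive.SympPieces
import Cfsg.Agent.Lib.Forms.Elusive.LagrangianPairs

/-!
# Invariant totally isotropic subspaces of isometries of an alternating form
-/

set_option autoImplicit false
set_option linter.unusedSectionVars false

namespace Cfsg.Agent.Classical.IsoInvariant

open Module Polynomial
open Cfsg.Agent.Forms.Elusive Cfsg.Agent.Forms.Elusive.Pieces

variable {F : Type*} [Field F] {V : Type*} [AddCommGroup V] [Module F V] [FiniteDimensional F V]
  {B : LinearMap.BilinForm F V} {g : V →ₗ[F] V}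

theorem ndOn_top (hnd : B.Nondegenerate) : NdOn B (⊤ : Submodule F V) := fun v _ hv => by
  by_contra hcon
  push Not at hcon
  exact hv (hnd.1 v fun u => hcon u trivial)

/-- exact dimension of the orthogonal inside a nondegenerate subspace -/
theorem perp_dim (halt : B.IsAlt) {D T : Submodule F V} (hD : NdOn B D) (hT : T ≤ D) :
    finrank F ↥(D ⊓ B.orthogonal T) + finrank F T = finrank F D := by
  have hnd : (B.restrict D).Nondegenerate := by
    refine ⟨fun x hx => ?_, fun y hy => ?_⟩
    · by_contra h0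
      obtain ⟨u, hu, hxu⟩ := hD x x.2 fun e => h0 (Subtype.ext e)
      exact hxu (hx ⟨u, hu⟩)
    · by_contra h0
      obtain ⟨u, hu, hyu⟩ := hD y y.2 fun e => h0 (Subtype.ext e)
      refine hyu ?_
      rw [← LinearMap.IsAlt.neg halt u (y : V)]
      exact neg_eq_zero.2 (hy ⟨u, hu⟩)
  have h := LinearMap.BilinForm.finrank_orthogonal hnd (T.comap D.subtype)
  have e1 : (B.restrict D).orthogonal (T.comap D.subtype) = (D ⊓ B.orthogonal T).comap D.subtype := by
    ext x
    refine ⟨fun hx => ⟨x.2, fun t ht => hx ⟨t, hT ht⟩ ht⟩, fun hx n hn => hx.2 n hn⟩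
  rw [e1, (Submodule.comapSubtypeEquivOfLe (inf_le_left : D ⊓ B.orthogonal T ≤ D)).finrank_eq,
    (Submodule.comapSubtypeEquivOfLe hT).finrank_eq] at h
  have := Submodule.finrank_mono hT
  omega

theorem two_le_of_iso (halt : B.IsAlt) {D U : Submodule F V} (hD : NdOn B D) (hU : U ≤ D) (hI : IsoOn B U) :
    2 * finrank F U ≤ finrank F D := by
  have h1 := perp_dim halt hD hU
  have h2 := Submodule.finrank_mono
    (show U ≤ D ⊓ B.orthogonal U from fun u hu => mem_perp.2 ⟨hU hu, fun p hp => hI p hp u hu⟩)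
  omega

/-- the middle part of a totally isotropic invariant subspace -/
theorem exists_middle (halt : B.IsAlt) (hiso : ∀ u v, B (g u) (g v) = B u v) (hinj : Function.Injective g)
    (hss : Module.End.IsSemisimple g) {D U : Submodule F V} (hD : NdOn B D) (hDi : D.map g ≤ D)
    (hUD : U ≤ D) (hUi : U.map g ≤ U) (hI : IsoOn B U) :
    ∃ R : Submodule F V, R ≤ D ∧ NdOn B R ∧ R.map g ≤ R ∧ OrthTo B U R ∧ Disjoint U R ∧
      finrank F R + 2 * finrank F U = finrank F D := by
  have hUU' : U ≤ D ⊓ B.orthogonal U := fun u hu => mem_perp.2 ⟨hUD hu, fun p hp => hI p hp u hu⟩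
  obtain ⟨R, hR, hRU', hd, hsup, hsum⟩ := exists_compl hss hUi (perp_inv' hiso hinj hDi hUi) hUU'
  have hort : OrthTo B U R := fun u hu x hx => (mem_perp.1 (hRU' hx)).2 u hu
  have h1 := perp_dim halt hD hUD
  refine ⟨R, hRU'.trans inf_le_left, fun v hv hv0 => ?_, hR, hort, hd, by omega⟩
  by_contra hcon
  push Not at hcon
  have hT : U ⊔ F ∙ v ≤ D := sup_le hUD ((Submodule.span_singleton_le_iff_mem _ _).2 (hRU' hv).1)
  have h2 := perp_dim halt hD hT
  have hle : D ⊓ B.orthogonal U ≤ D ⊓ B.orthogonal (U ⊔ F ∙ v) := by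
    intro x hx
    refine mem_perp.2 ⟨hx.1, fun y hy => ?_⟩
    obtain ⟨u, hu, w, hw, rfl⟩ := Submodule.mem_sup.1 hy
    obtain ⟨c, rfl⟩ := Submodule.mem_span_singleton.1 hw
    rw [map_add, LinearMap.add_apply, (mem_perp.1 hx).2 u hu, zero_add, map_smul, LinearMap.smul_apply]
    have hsupx : x ∈ U ⊔ R := by rw [hsup]; exact hx
    obtain ⟨a, ha, b, hb, rfl⟩ := Submodule.mem_sup.1 hsupx
    rw [map_add, (hort.symm halt) v hv a ha, hcon b hb, add_zero, smul_zero]
  have h3 := Submodule.finrank_mono hle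
  have h4 : U = U ⊔ F ∙ v := Submodule.eq_of_le_of_finrank_le le_sup_left (by omega)
  refine hv0 (Submodule.disjoint_def.1 hd v ?_ hv)
  rw [h4]
  exact Submodule.mem_sup_right (Submodule.mem_span_singleton_self v)

theorem iso_sup (halt : B.IsAlt) {U W : Submodule F V} (hU : IsoOn B U) (hW : IsoOn B W)
    (h : OrthTo B U W) : IsoOn B (U ⊔ W) := by
  intro x hx y hy
  obtain ⟨a, ha, b, hb, rfl⟩ := Submodule.mem_sup.1 hx
  obtain ⟨c, hc, e, he, rfl⟩ := Submodule.mem_sup.1 hy
  simp [map_add, hU a ha c hc, hW b hb e he, h a ha e he, (h.symm halt) b hb c hc]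

/-- repeated extraction of isotropic invariant subspaces of dimension `i` -/
theorem exists_iso_multi (halt : B.IsAlt) (hiso : ∀ u v, B (g u) (g v) = B u v) (hinj : Function.Injective g)
    (hss : Module.End.IsSemisimple g) {i L : ℕ} :
    ∀ (j : ℕ) {D : Submodule F V}, NdOn B D → D.map g ≤ D →
      (∀ W : Submodule F V, W ≤ D → NdOn B W → W.map g ≤ W → L ≤ finrank F W →
        ∃ U : Submodule F V, U ≤ W ∧ U.map g ≤ U ∧ IsoOn B U ∧ finrank F U = i) →
      (j = 0 ∨ L + 2 * (i * j) ≤ finrank F D + 2 * i) →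
      ∃ U : Submodule F V, U ≤ D ∧ U.map g ≤ U ∧ IsoOn B U ∧ finrank F U = i * j := by
  intro j
  induction j with
  | zero => exact fun _ _ _ _ => ⟨⊥, bot_le, by simp, fun u hu => by simp [(Submodule.mem_bot F).1 hu], by simp⟩
  | succ j ih =>
    intro D hD hDi hex hj
    rw [Nat.mul_succ] at hj ⊢
    obtain ⟨U, hUD, hUi, hI, hUd⟩ := hex D le_rfl hD hDi (by omega)
    obtain ⟨R, hRD, hR, hRi, hort, hd, hsum⟩ := exists_middle halt hiso hinj hss hD hDi hUD hUi hI
    obtain ⟨U', hU'R, hU'i, hI', hU'd⟩ := ih hR hRi (fun W hW => hex W (hW.trans hRD)) (by omega)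
    refine ⟨U ⊔ U', sup_le hUD (hU'R.trans hRD), inv_sup hUi hU'i,
      iso_sup halt hI hI' fun u hu w hw => hort u hu w (hU'R hw), ?_⟩
    rw [finrank_sup_of_disjoint (hd.mono_right hU'R), hUd, hU'd, add_comm]

/-- totally isotropic subspaces of every possible dimension -/
theorem exists_iso (halt : B.IsAlt) {D : Submodule F V} (hD : NdOn B D) {j : ℕ} (hj : 2 * j ≤ finrank F D) :
    ∃ U : Submodule F V, U ≤ D ∧ IsoOn B U ∧ finrank F U = j := by
  have hss : Module.End.IsSemisimple (1 : V →ₗ[F] V) :=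
    isSemisimple_of_pow (r := 1) (c := 1) (fun v => by simp) (by simp) one_ne_zero
  obtain ⟨U, hU, -, hI, hd⟩ := exists_iso_multi (g := (1 : V →ₗ[F] V)) halt (fun u v => rfl)
    Function.injective_id hss (i := 1) (L := 2) j hD (by rintro _ ⟨v, hv, rfl⟩; exact hv)
    (fun W _ _ _ hL => by
      obtain ⟨v, hv, hv0⟩ := Submodule.exists_mem_ne_zero_of_ne_bot
        (show W ≠ ⊥ from fun e => by rw [e, finrank_bot] at hL; omega)
      refine ⟨F ∙ v, (Submodule.span_singleton_le_iff_mem _ _).2 hv, by rintro _ ⟨x, hx, rfl⟩; exact hx,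
        fun a ha b hb => ?_, finrank_span_singleton hv0⟩
      obtain ⟨c, rfl⟩ := Submodule.mem_span_singleton.1 ha
      obtain ⟨e, rfl⟩ := Submodule.mem_span_singleton.1 hb
      simp [halt v]) (Or.inr (by omega))
  exact ⟨U, hU, hI, by omega⟩

variable [Fintype F]

/-- quadratic forms in more than twice their number of variables have a common zero -/
theorem exists_common_zero {K : Submodule F V} {h : ℕ} (Φ : Fin h → LinearMap.BilinForm F V)
    (hK : 2 * h < finrank F K) : ∃ v ∈ K, v ≠ 0 ∧ ∀ l, Φ l v v = 0 := by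
  classical
  set n := finrank F K with hn
  obtain ⟨p, hp⟩ := CharP.exists F
  have : Fact p.Prime := ⟨CharP.char_is_prime F p⟩
  set b := Module.finBasis F K with hb
  let f : Fin h → MvPolynomial (Fin n) F := fun l =>
    ∑ a, ∑ c, MvPolynomial.C (Φ l (b a : V) (b c : V)) * MvPolynomial.X a * MvPolynomial.X c
  have hev : ∀ l (x : Fin n → F), MvPolynomial.eval x (f l) =
      Φ l (b.equivFun.symm x : V) (b.equivFun.symm x : V) := by
    intro l x
    simp only [f, map_sum, map_mul, MvPolynomial.eval_C, MvPolynomial.eval_X, Basis.equivFun_symm_apply,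
      Submodule.coe_sum, Submodule.coe_smul, LinearMap.sum_apply, map_smul, LinearMap.smul_apply, smul_eq_mul,
      Finset.mul_sum]
    rw [Finset.sum_comm]
    exact Finset.sum_congr rfl fun a _ => Finset.sum_congr rfl fun c _ => by ring
  have hdeg : ∑ l ∈ (Finset.univ : Finset (Fin h)), (f l).totalDegree < Fintype.card (Fin n) := by
    refine lt_of_le_of_lt (Finset.sum_le_card_nsmul _ _ 2 fun l _ => ?_) ?_
    · refine MvPolynomial.totalDegree_finsetSum_le fun a _ => MvPolynomial.totalDegree_finsetSum_le fun c _ => ?_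
      refine (MvPolynomial.totalDegree_mul _ _).trans ?_
      have h1 := MvPolynomial.totalDegree_mul (MvPolynomial.C (Φ l (b a : V) (b c : V))) (MvPolynomial.X a)
      rw [MvPolynomial.totalDegree_C, MvPolynomial.totalDegree_X] at h1
      rw [MvPolynomial.totalDegree_X]
      omega
    · rw [Finset.card_univ, Fintype.card_fin, Fintype.card_fin, smul_eq_mul]; omega
  have hdvd := char_dvd_card_solutions_of_sum_lt p hdeg
  let z : {x : Fin n → F // ∀ i ∈ (Finset.univ : Finset (Fin h)), MvPolynomial.eval x (f i) = 0} :=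
    ⟨0, fun l _ => by rw [hev]; simp⟩
  have : Nontrivial {x : Fin n → F // ∀ i ∈ (Finset.univ : Finset (Fin h)), MvPolynomial.eval x (f i) = 0} := by
    rw [← Fintype.one_lt_card_iff_nontrivial]
    exact lt_of_lt_of_le (Fact.out : p.Prime).one_lt (Nat.le_of_dvd (Fintype.card_pos_iff.2 ⟨z⟩) (by convert hdvd))
  obtain ⟨x, hx⟩ := exists_ne z
  refine ⟨b.equivFun.symm x.1, (b.equivFun.symm x.1).2, fun e => hx (Subtype.ext ?_),
    fun l => by rw [← hev]; exact x.2 l (Finset.mem_univ _)⟩
  show x.1 = 0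
  exact b.equivFun.symm.map_eq_zero_iff.1 (Subtype.ext e)

/-- an isotropic cyclic subspace -/
theorem exists_cyclic (halt : B.IsAlt) (hiso : ∀ u v, B (g u) (g v) = B u v) {N h : ℕ}
    (hh : h < N) (hg : g ^ N = 1) {P : F[X]} (hPm : P.Monic) (hPd : P.natDegree = 2 * h)
    {K : Submodule F V} (hKi : K.map g ≤ K) (hK : ∀ v ∈ K, aeval g P v = 0) (hdim : 2 * h < finrank F K) :
    ∃ S : Submodule F V, S ≤ K ∧ S.map g ≤ S ∧ IsoOn B S ∧ S ≠ ⊥ ∧ finrank F S ≤ 2 * h := by
  obtain ⟨v, hvK, hv0, hzero⟩ := exists_common_zero (K := K)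
    (fun l : Fin h => B.compRight (g ^ ((l : ℕ) + 1))) hdim
  have hiso' : ∀ (k : ℕ) u w, B ((g ^ k) u) ((g ^ k) w) = B u w := fun k => by
    induction k with
    | zero => simp
    | succ k ih => intro u w; rw [pow_succ', Module.End.mul_apply, Module.End.mul_apply, hiso, ih]
  have hper : ∀ l, (g ^ (l + N)) v = (g ^ l) v := fun l => by rw [pow_add, hg, mul_one]
  set i := 2 * h with hidef
  have hrec : ∀ l, (g ^ (l + i)) v = - ∑ k ∈ Finset.range i, P.coeff k • (g ^ (l + k)) v := by
    intro l
    have h1 : aeval g P v = 0 := hK v hvK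
    rw [aeval_eq_sum_range, LinearMap.sum_apply, hPd, Finset.sum_range_succ] at h1
    have hc : P.coeff i = 1 := by rw [← hPd]; exact hPm.coeff_natDegree
    rw [hc, one_smul] at h1
    have h2 := congrArg (g ^ l) h1
    rw [map_add, map_sum, map_zero] at h2
    have h3 : ∀ k, (g ^ l) ((g ^ k) v) = (g ^ (l + k)) v := fun k => by rw [pow_add, Module.End.mul_apply]
    simp only [LinearMap.smul_apply, map_smul, h3] at h2
    exact eq_neg_of_add_eq_zero_right h2
  let a : ℕ → F := fun l => B v ((g ^ l) v)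
  have hlow : ∀ l, 1 ≤ l → l ≤ h → a l = 0 := fun l h1 h2 => by
    have := hzero ⟨l - 1, by omega⟩
    rwa [LinearMap.BilinForm.compRight_apply, show l - 1 + 1 = l by omega] at this
  have hsym : ∀ l, l ≤ N → a l = - a (N - l) := fun l hl => by
    show B v ((g ^ l) v) = - B v ((g ^ (N - l)) v)
    rw [← hiso' (N - l) v ((g ^ l) v), ← Module.End.mul_apply, ← pow_add, Nat.sub_add_cancel hl, hg,
      Module.End.one_apply, ← LinearMap.IsAlt.neg halt]
  have hwin : ∀ k, k < i → a (N - h + 1 + k) = 0 := by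
    intro k hk
    by_cases h1 : N - h + 1 + k < N
    · rw [hsym _ h1.le, hlow _ (by omega) (by omega), neg_zero]
    · show B v ((g ^ (N - h + 1 + k)) v) = 0
      rw [show N - h + 1 + k = N - h + 1 + k - N + N by omega, hper]
      rcases Nat.eq_zero_or_pos (N - h + 1 + k - N) with h2 | h2
      · rw [h2, pow_zero, Module.End.one_apply, halt v]
      · exact hlow _ h2 (by omega)
  have hall' : ∀ k, a (N - h + 1 + k) = 0 := by
    intro k
    induction k using Nat.strong_induction_on with
    | _ k ih =>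
      by_cases hk : k < i
      · exact hwin k hk
      · show B v ((g ^ (N - h + 1 + k)) v) = 0
        rw [show N - h + 1 + k = N - h + 1 + (k - i) + i by omega, hrec, map_neg, map_sum]
        refine neg_eq_zero.2 (Finset.sum_eq_zero fun e he => ?_)
        have he' := Finset.mem_range.1 he
        have h5 : a (N - h + 1 + (k - i + e)) = 0 := ih (k - i + e) (by omega)
        rw [map_smul, add_assoc]
        exact smul_eq_zero_of_right _ h5
  have hperiod : ∀ n l, (g ^ (l + N * n)) v = (g ^ l) v := fun n => by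
    induction n with
    | zero => simp
    | succ n ih => intro l; rw [Nat.mul_succ, ← add_assoc, hper, ih]
  have hall : ∀ l, B v ((g ^ l) v) = 0 := fun l => by
    have h1 := hall' (l + N * (N - h + 1) - (N - h + 1))
    have h2 : (N - h + 1) ≤ N * (N - h + 1) := Nat.le_mul_of_pos_left _ (by omega)
    rw [Nat.add_sub_cancel' (by omega)] at h1
    rwa [← hperiod (N - h + 1) l]
  set S := Submodule.span F (Set.range fun l : ℕ => (g ^ l) v) with hS
  have hmemK : ∀ l, (g ^ l) v ∈ K := fun l => by
    induction l with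
    | zero => simpa using hvK
    | succ l ih => rw [pow_succ', Module.End.mul_apply]; exact hKi ⟨_, ih, rfl⟩
  have hpair : ∀ x y, B ((g ^ x) v) ((g ^ y) v) = 0 := by
    intro x y
    have h2 : x ≤ N * x := Nat.le_mul_of_pos_left _ (by omega)
    rw [← hperiod x y, show y + N * x = x + (y + N * x - x) by omega, pow_add, Module.End.mul_apply, hiso']
    exact hall _
  refine ⟨S, Submodule.span_le.2 (by rintro _ ⟨l, rfl⟩; exact hmemK l), ?_, ?_, ?_, ?_⟩
  · rw [hS, Submodule.map_span, Submodule.span_le]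
    rintro _ ⟨_, ⟨l, rfl⟩, rfl⟩
    exact Submodule.subset_span ⟨l + 1, by simp [pow_succ', Module.End.mul_apply]⟩
  · intro x hx y hy
    induction hx using Submodule.span_induction with
    | mem x hx =>
      obtain ⟨l, rfl⟩ := hx
      induction hy using Submodule.span_induction with
      | mem y hy => obtain ⟨l', rfl⟩ := hy; exact hpair l l'
      | zero => simp
      | add y z _ _ h1 h2 => simp [h1, h2]
      | smul c y _ h1 => simp [h1]
    | zero => simp
    | add x z _ _ h1 h2 => simp [h1, h2]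
    | smul c x _ h1 => simp [h1]
  · exact fun e => hv0 ((Submodule.mem_bot F).1 (e ▸ Submodule.subset_span ⟨0, by simp⟩))
  · set T := Submodule.span F (Set.range fun l : Fin i => (g ^ (l : ℕ)) v) with hT
    have hST : S ≤ T := Submodule.span_le.2 (by
      rintro _ ⟨l, rfl⟩
      show (g ^ l) v ∈ T
      induction l using Nat.strong_induction_on with
      | _ l ih =>
        by_cases hl : l < i
        · exact Submodule.subset_span ⟨⟨l, hl⟩, rfl⟩
        · rw [show l = l - i + i by omega, hrec]
          refine T.neg_mem (T.sum_mem fun e he => T.smul_mem _ (ih _ ?_))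
          have := Finset.mem_range.1 he
          omega)
    refine (Submodule.finrank_mono hST).trans ((finrank_range_le_card _).trans ?_)
    rw [Fintype.card_fin]

end Cfsg.Agent.Classical.IsoInvariant
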