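import Mathlib
import Cfsg.Agent.Lib.Classical.OrthPrimeClasses

/-!
# The choice of elements that fix no totally isotropic `m`-space: the arithmetic
-/

set_option autoImplicit false
set_option linter.unusedSectionVars false

namespace Cfsg.Agent.Classical.IsoInvariant.Choice

open Polynomial
open Cfsg.Agent.Classical.StarFactor (Fac)

variable {F : Type*} [Field F] [Fintype F] {r i c : ℕ} [hr : Fact r.Prime]

theorem selfdual (hS : OrthPrimeClasses.Setting F r i) (hev : Even i) (s : Multiset F[X])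
    (hs : ∀ p ∈ s, Fac r p) : s.map (StarFactor.star r) = s := by
  conv_rhs => rw [← Multiset.map_id s]
  exact Multiset.map_congr rfl fun p hp => ((hs p hp).star_eq_iff hS.cast_ne hS.ne_two hS.deg).2 hev

theorem pairs (hS : OrthPrimeClasses.Setting F r i) {p : F[X]} (hp : Fac r p) (n : ℕ) :
    (n • ({p, StarFactor.star r p} : Multiset F[X])).map (StarFactor.star r) =
      n • ({p, StarFactor.star r p} : Multiset F[X]) := by
  rw [Multiset.map_nsmul]
  congr 1
  simp only [Multiset.insert_eq_cons, Multiset.map_cons, Multiset.map_singleton,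
    (hp.star_fac hS.cast_ne hS.deg).2]
  rw [← Multiset.cons_zero, ← Multiset.cons_zero, Multiset.cons_swap]

/-- necessity from the behaviour of realised elements -/
theorem necessary (hS : OrthPrimeClasses.Setting F r i) (P : Finset F[X]) (hPcard : P.card = (r - 1) / i)
    (hP : ∀ x, x ∈ P ↔ Fac r x) (hti : i ∣ r - 1) (hc : c = if Even i then i else 2 * i)
    {d m j₀ : ℕ} (hj₀ : j₀ < m) (hmd : m ≤ d) (hdvd : i ∣ 2 * (d - j₀))
    (key : ∀ (s : Multiset F[X]) (f : ℕ), (∀ q ∈ s, Fac r q) → s.map (StarFactor.star r) = s → Even f →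
      Multiset.card s * i + f = 2 * d → 0 < Multiset.card s →
      ∃ l j, m = l + i * j ∧ 2 * l ≤ f ∧ (Even i → ∀ T T' : Multiset F[X], s = T + T' → T.Nodup →
        (∀ q ∈ T, q ∉ T') → 2 * (i * j) + f + Multiset.card T * i ≤ 2 * d)) :
    i ≤ m ∧ 2 * (m % i) ≤ (2 * d) % c ∧ (Odd i ∨ (r - 1) / i + 2 * (m / i) ≤ (2 * d) / i) := by
  classical
  have hr0 := hS.cast_ne
  have hi0 := OrthPrimeClasses.ne_of_pos hS
  have ht0 : 0 < (r - 1) / i :=
    Nat.div_pos (Nat.le_of_dvd (by have := hr.out.two_le; omega) hti) hi0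
  obtain ⟨p₀, hp₀⟩ := Finset.card_pos.1 (hPcard.symm ▸ ht0)
  have hp₀f : Fac r p₀ := (hP p₀).1 hp₀
  have hc0 : 0 < c := by rw [hc]; split_ifs <;> omega
  have hk0 : Even ((2 * d) % c) := by
    have : Even c := by rw [hc]; split_ifs with h; exacts [h, even_two_mul i]
    rw [Nat.even_iff] at this ⊢
    rw [Nat.mod_mod_of_dvd _ (Nat.dvd_of_mod_eq_zero this)]
    omega
  have hcj : c ∣ 2 * (d - j₀) := by
    rw [hc]
    split_ifs with h
    · exact hdvd
    · exact Nat.mul_dvd_mul_left 2 ((Nat.Coprime.dvd_mul_left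
        (Nat.coprime_two_right.2 (Nat.not_even_iff_odd.1 h))).1 hdvd)
  have hcle : c ≤ 2 * d := (Nat.le_of_dvd (by omega) hcj).trans (by omega)
  have h1 := Nat.div_add_mod (2 * d) c
  have hN : 0 < (2 * d) / c := Nat.div_pos hcle hc0
  -- the element with fewest fixed points
  obtain ⟨l, j, hsum, hl, -⟩ : ∃ l j, m = l + i * j ∧ 2 * l ≤ (2 * d) % c ∧ True := by
    by_cases hev : Even i
    · rw [if_pos hev] at hc
      subst c
      have hs : ∀ q ∈ Multiset.replicate ((2 * d) / i) p₀, Fac r q := fun q hq => by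
        rw [Multiset.eq_of_mem_replicate hq]; exact hp₀f
      obtain ⟨l, j, a, b, -⟩ := key _ ((2 * d) % i) hs (selfdual hS hev _ hs) hk0
        (by rw [Multiset.card_replicate, mul_comm]; exact h1) (by rw [Multiset.card_replicate]; exact hN)
      exact ⟨l, j, a, b, trivial⟩
    · rw [if_neg hev] at hc
      subst c
      obtain ⟨hsf, -⟩ := hp₀f.star_fac hr0 hS.deg
      have hs : ∀ q ∈ ((2 * d) / (2 * i)) • ({p₀, StarFactor.star r p₀} : Multiset F[X]), Fac r q := by
        intro q hq
        have := Multiset.mem_of_mem_nsmul hq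
        simp only [Multiset.insert_eq_cons, Multiset.mem_cons, Multiset.mem_singleton] at this
        rcases this with rfl | rfl
        exacts [hp₀f, hsf]
      have hcard : Multiset.card (((2 * d) / (2 * i)) • ({p₀, StarFactor.star r p₀} : Multiset F[X])) =
          2 * ((2 * d) / (2 * i)) := by
        rw [Multiset.card_nsmul, Multiset.insert_eq_cons, Multiset.card_cons, Multiset.card_singleton, mul_comm]
      obtain ⟨l, j, a, b, -⟩ := key _ ((2 * d) % (2 * i)) hs (pairs hS hp₀f _) hk0
        (by rw [hcard]; linear_combination h1) (by rw [hcard]; omega)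
      exact ⟨l, j, a, b, trivial⟩
  have hlt : (2 * d) % c < c := Nat.mod_lt _ hc0
  have hli : l < i := by
    have : c ≤ 2 * i := by rw [hc]; split_ifs <;> omega
    omega
  have hlm : m % i = l := by rw [hsum, Nat.add_mul_mod_self_left, Nat.mod_eq_of_lt hli]
  have him : i ≤ m := by
    by_contra hcon
    rw [Nat.mod_eq_of_lt (by omega)] at hlm
    obtain ⟨u, hu⟩ := hcj
    have hk : (2 * d) % c = 2 * j₀ := by
      rw [show 2 * d = 2 * j₀ + c * u by omega, Nat.add_mul_mod_self_left, Nat.mod_eq_of_lt (by omega)]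
    omega
  refine ⟨him, by rw [hlm]; exact hl, ?_⟩
  by_cases hev : Even i
  swap
  · exact Or.inl (Nat.not_even_iff_odd.1 hev)
  refine Or.inr ?_
  by_contra hcon
  rw [if_pos hev] at hc
  subst c
  set N := (2 * d) / i with hNdef
  set t := (r - 1) / i with htdef
  set o := min N t with hodef
  have ho : 0 < o := lt_min hN ht0
  obtain ⟨T, hTP, hTc⟩ := Finset.exists_subset_card_eq (show o ≤ P.card by rw [hPcard]; exact min_le_right _ _)
  obtain ⟨q₀, hq₀⟩ := Finset.card_pos.1 (hTc.symm ▸ ho)
  set S := o + 2 * ((N - o) / 2) with hSdef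
  set T' := Multiset.replicate (S - o + 1) q₀ with hT'
  have hs : ∀ q ∈ (T.erase q₀).val + T', Fac r q := fun q hq => by
    rcases Multiset.mem_add.1 hq with h | h
    · exact (hP q).1 (hTP (Finset.mem_of_mem_erase h))
    · rw [Multiset.eq_of_mem_replicate h]; exact (hP q₀).1 (hTP hq₀)
  have hcard : Multiset.card ((T.erase q₀).val + T') = S := by
    rw [Multiset.card_add, Finset.card_val, Finset.card_erase_of_mem hq₀, hTc, Multiset.card_replicate]
    omega
  have hSN : S ≤ N := by omega
  have h4 : i * S ≤ i * N := Nat.mul_le_mul_left i hSN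
  have hfeven : Even (2 * d - i * S) := by
    rw [Nat.even_sub (by omega)]
    exact ⟨fun _ => hev.mul_right S, fun _ => even_two_mul d⟩
  obtain ⟨l', j', a, b, hb⟩ := key _ (2 * d - i * S) hs (selfdual hS hev _ hs) hfeven
    (by rw [hcard, mul_comm S i]; omega) (by rw [hcard]; omega)
  have hb' := hb hev _ T' rfl (T.erase q₀).nodup fun q hq h => by
    rw [Multiset.eq_of_mem_replicate h] at hq
    exact Finset.notMem_erase q₀ T hq
  rw [Finset.card_val, Finset.card_erase_of_mem hq₀, hTc] at hb'
  have h5 : i * (2 * j' + (o - 1)) ≤ i * S := by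
    rw [mul_add, ← mul_assoc, mul_comm i 2, mul_assoc, mul_comm i (o - 1)]; omega
  have h6 : 2 * j' + (o - 1) ≤ S := Nat.le_of_mul_le_mul_left h5 hi0
  have h7 : j' + 1 ≤ m / i := by
    have h8 : 1 ≤ m / i := Nat.div_pos him hi0
    omega
  have h9 : i * (j' + 1) ≤ m := (Nat.mul_le_mul_left i h7).trans (Nat.mul_div_le m i)
  have h10 : i * N ≤ i * (S + 1) := Nat.mul_le_mul_left i (by omega)
  rw [mul_add, mul_one] at h9 h10
  omega

end Cfsg.Agent.Classical.IsoInvariant.Choice
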