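import Mathlib

/-!
# Counting totally isotropic subspaces of an alternating form, up to divisibility
-/

set_option autoImplicit false
set_option linter.unusedSectionVars false

namespace Cfsg.Agent.Classical.IsoInvariant

open Module

variable {F : Type*} [Field F] [Fintype F] {V : Type*} [AddCommGroup V] [Module F V] [FiniteDimensional F V]
  {B : LinearMap.BilinForm F V}

/-- linearly independent pairwise orthogonal tuples -/
def Frames (B : LinearMap.BilinForm F V) (m : ℕ) :=
  {v : Fin m → V // LinearIndependent F v ∧ ∀ a b, B (v a) (v b) = 0}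

theorem iso_span {m : ℕ} {v : Fin m → V} (h : ∀ a b, B (v a) (v b) = 0) :
    ∀ x ∈ Submodule.span F (Set.range v), ∀ y ∈ Submodule.span F (Set.range v), B x y = 0 := by
  intro x hx y hy
  obtain ⟨c, rfl⟩ := (Submodule.mem_span_range_iff_exists_fun F).1 hx
  obtain ⟨e, rfl⟩ := (Submodule.mem_span_range_iff_exists_fun F).1 hy
  simp [map_sum, h]

theorem natCard_frames (hnd : B.Nondegenerate) (halt : B.IsAlt) {d : ℕ} (hV : finrank F V = 2 * d) :
    ∀ m : ℕ, m ≤ d → Nat.card (Frames B m) =
      ∏ j ∈ Finset.range m, (Fintype.card F ^ (2 * d - j) - Fintype.card F ^ j) := by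
  classical
  have : Finite V := Module.finite_of_finite F
  intro m
  induction m with
  | zero =>
    intro _
    have : Unique (Frames B 0) :=
      { default := ⟨Fin.elim0, linearIndependent_empty_type, fun a => a.elim0⟩
        uniq := fun v => Subtype.ext (funext fun a => a.elim0) }
    rw [Nat.card_unique, Finset.range_zero, Finset.prod_empty]
  | succ m ih =>
    intro hm
    let S : Frames B m → Submodule F V := fun v => Submodule.span F (Set.range v.1)
    let e : Frames B (m + 1) ≃ Σ v : Frames B m, {x : V // x ∈ B.orthogonal (S v) ∧ x ∉ S v} :=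
      { toFun := fun w => ⟨⟨Fin.tail w.1, w.2.1.comp _ (Fin.succ_injective _), fun a b => w.2.2 _ _⟩, w.1 0, by
          refine ⟨fun y hy => ?_, ?_⟩
          · obtain ⟨c, rfl⟩ := (Submodule.mem_span_range_iff_exists_fun F).1 hy
            simp [map_sum, w.2.2, Fin.tail]
          · have h := w.2.1
            rw [← Fin.cons_self_tail w.1, linearIndependent_finCons] at h
            exact h.2⟩
        invFun := fun p => ⟨Fin.cons p.2.1 p.1.1, linearIndependent_finCons.2 ⟨p.1.2.1, p.2.2.2⟩, by
          have h1 : ∀ a, B (p.1.1 a) p.2.1 = 0 := fun a => p.2.2.1 _ (Submodule.subset_span ⟨a, rfl⟩)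
          refine Fin.cases (Fin.cases ?_ fun b => ?_) fun a => Fin.cases ?_ fun b => ?_
          · simp [halt p.2.1]
          · simp only [Fin.cons_zero, Fin.cons_succ]
            rw [← LinearMap.IsAlt.neg halt, h1, neg_zero]
          · simp [h1]
          · simp [p.1.2.2]⟩
        left_inv := fun w => Subtype.ext (Fin.cons_self_tail w.1)
        right_inv := fun p => by
          obtain ⟨⟨v, hv⟩, x, hx⟩ := p
          rfl }
    have : Finite (Frames B m) := Subtype.finite
    have : Fintype (Frames B m) := Fintype.ofFinite _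
    have hfib : ∀ v : Frames B m, Nat.card {x : V // x ∈ B.orthogonal (S v) ∧ x ∉ S v} =
        Fintype.card F ^ (2 * d - m) - Fintype.card F ^ m := by
      intro v
      have h1 : finrank F (S v) = m := by rw [finrank_span_eq_card v.2.1, Fintype.card_fin]
      have h2 : finrank F (B.orthogonal (S v)) = 2 * d - m := by
        rw [LinearMap.BilinForm.finrank_orthogonal hnd, hV, h1]
      have hle : (S v : Set V) ⊆ (B.orthogonal (S v) : Set V) := fun x hx y hy => iso_span v.2.2 y hy x hx
      have h3 : Nat.card {x : V // x ∈ B.orthogonal (S v) ∧ x ∉ S v} =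
          ((B.orthogonal (S v) : Set V) \ (S v : Set V)).ncard := (Nat.card_coe_set_eq _)
      rw [h3, Set.ncard_sdiff hle, ← Nat.card_coe_set_eq, ← Nat.card_coe_set_eq, SetLike.coe_sort_coe,
        SetLike.coe_sort_coe]
      rw [Module.natCard_eq_pow_finrank (K := F) (V := B.orthogonal (S v)),
        Module.natCard_eq_pow_finrank (K := F) (V := S v), h1, h2, Nat.card_eq_fintype_card]
    rw [Nat.card_congr e, Nat.card_sigma, Finset.sum_congr rfl (fun v _ => hfib v), Finset.sum_const,
      Finset.card_univ, smul_eq_mul, ← Nat.card_eq_fintype_card, ih (by omega), Finset.prod_range_succ]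

theorem natCard_iso_mul {d m : ℕ} (hm : m ≤ d)
    (hfr : Nat.card (Frames B m) =
      ∏ j ∈ Finset.range m, (Fintype.card F ^ (2 * d - j) - Fintype.card F ^ j)) :
    Nat.card {W : Submodule F V // finrank F W = m ∧ ∀ u ∈ W, ∀ v ∈ W, B u v = 0} *
        ∏ j ∈ Finset.range m, (Fintype.card F ^ (m - j) - 1) =
      ∏ j ∈ Finset.range m, (Fintype.card F ^ (2 * (d - j)) - 1) := by
  classical
  have : Finite V := Module.finite_of_finite F
  have : Finite (Frames B m) := Subtype.finite
  let Ω := {W : Submodule F V // finrank F W = m ∧ ∀ u ∈ W, ∀ v ∈ W, B u v = 0}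
  let f : Frames B m → Ω := fun v => ⟨Submodule.span F (Set.range v.1),
    by rw [finrank_span_eq_card v.2.1, Fintype.card_fin], iso_span v.2.2⟩
  let e : ∀ W : Ω, {v : Frames B m // f v = W} ≃ {s : Fin m → W.1 // LinearIndependent F s} := fun W =>
    { toFun := fun v => ⟨fun a => ⟨v.1.1 a, by
          rw [← congrArg Subtype.val v.2]; exact Submodule.subset_span ⟨a, rfl⟩⟩,
        (LinearMap.linearIndependent_iff W.1.subtype (Submodule.ker_subtype _)).1 v.1.2.1⟩
      invFun := fun s => ⟨⟨fun a => (s.1 a : V),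
          s.2.map' W.1.subtype (Submodule.ker_subtype _), fun a b => W.2.2 _ (s.1 a).2 _ (s.1 b).2⟩,
        Subtype.ext (Submodule.eq_of_le_of_finrank_eq
          (Submodule.span_le.2 (by rintro _ ⟨a, rfl⟩; exact (s.1 a).2)) (by
            show finrank F (Submodule.span F (Set.range (W.1.subtype ∘ s.1))) = finrank F W.1
            exact (finrank_span_eq_card (s.2.map' W.1.subtype (Submodule.ker_subtype _))).trans
              ((Fintype.card_fin m).trans W.2.1.symm)))⟩
      left_inv := fun v => rfl
      right_inv := fun s => rfl }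
  have : Fintype Ω := Fintype.ofFinite _
  have h1 : Nat.card (Frames B m) =
      Nat.card Ω * ∏ j ∈ Finset.range m, (Fintype.card F ^ m - Fintype.card F ^ j) := by
    rw [← Nat.card_congr (Equiv.sigmaFiberEquiv f), Nat.card_sigma,
      Finset.sum_congr rfl fun W _ => Nat.card_congr (e W), Finset.sum_congr rfl fun W _ => ?_,
      Finset.sum_const, Finset.card_univ, smul_eq_mul, ← Nat.card_eq_fintype_card]
    rw [card_linearIndependent (K := F) (V := W.1) (le_of_eq W.2.1.symm), W.2.1,
      Fin.prod_univ_eq_prod_range (fun j => Fintype.card F ^ m - Fintype.card F ^ j)]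
  have hfac : ∀ a : ℕ → ℕ, (∀ j ∈ Finset.range m, j ≤ a j) →
      ∏ j ∈ Finset.range m, (Fintype.card F ^ a j - Fintype.card F ^ j) =
        (∏ j ∈ Finset.range m, Fintype.card F ^ j) * ∏ j ∈ Finset.range m, (Fintype.card F ^ (a j - j) - 1) := by
    intro a ha
    rw [← Finset.prod_mul_distrib]
    refine Finset.prod_congr rfl fun j hj => ?_
    rw [Nat.mul_sub, mul_one, ← pow_add, Nat.add_sub_cancel' (ha j hj)]
  rw [hfr, hfac (fun j => 2 * d - j) (fun j hj => by
      have := Finset.mem_range.1 hj; omega),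
    hfac (fun _ => m) (fun j hj => (Finset.mem_range.1 hj).le), mul_left_comm] at h1
  have h2 := Nat.eq_of_mul_eq_mul_left (Finset.prod_pos fun j _ => Nat.pow_pos Fintype.card_pos) h1
  rw [← h2]
  exact Finset.prod_congr rfl fun j _ => by rw [show 2 * d - j - j = 2 * (d - j) by omega]

/-- a prime dividing the number of totally isotropic `m`-spaces -/
theorem index_of_frames {d m : ℕ} (p : ℕ) [Fact p.Prime] [CharP F p] {r : ℕ} [hr : Fact r.Prime]
    (hm : m ≤ d) (hfr : Nat.card (Frames B m) =
      ∏ j ∈ Finset.range m, (Fintype.card F ^ (2 * d - j) - Fintype.card F ^ j))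
    (h : r ∣ Nat.card {W : Submodule F V // finrank F W = m ∧ ∀ u ∈ W, ∀ v ∈ W, B u v = 0}) :
    r ≠ p ∧ ∃ j < m, orderOf (Fintype.card F : ZMod r) ∣ 2 * (d - j) := by
  have h1 : r ∣ ∏ j ∈ Finset.range m, (Fintype.card F ^ (2 * (d - j)) - 1) := by
    rw [← natCard_iso_mul hm hfr]
    exact h.mul_right _
  obtain ⟨j, hj, hd⟩ := (hr.out.prime.dvd_finsetProd_iff _).1 h1
  have hj' := Finset.mem_range.1 hj
  have hpos : 1 ≤ Fintype.card F ^ (2 * (d - j)) := Nat.one_le_pow _ _ Fintype.card_pos
  refine ⟨fun e => ?_, j, hj', ?_⟩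
  · obtain ⟨n, -, hn⟩ := FiniteField.card F p
    have h3 : r ∣ Fintype.card F ^ (2 * (d - j)) := by
      refine dvd_trans ?_ (dvd_pow_self _ (by omega : 2 * (d - j) ≠ 0))
      rw [hn, e]
      exact dvd_pow_self _ n.pos.ne'
    have h4 := Nat.dvd_sub h3 hd
    rw [Nat.sub_sub_self hpos] at h4
    exact hr.out.not_dvd_one h4
  · rw [orderOf_dvd_iff_pow_eq_one, ← Nat.cast_pow, ← Nat.cast_one, ZMod.natCast_eq_natCast_iff]
    exact ((Nat.modEq_iff_dvd' hpos).2 hd).symm

/-- a prime dividing the number of totally isotropic `m`-spaces of an alternating form -/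
theorem exists_index_of_dvd (hnd : B.Nondegenerate) (halt : B.IsAlt) {d : ℕ} (hV : finrank F V = 2 * d)
    {m : ℕ} (hm : m ≤ d) (p : ℕ) [Fact p.Prime] [CharP F p] {r : ℕ} [hr : Fact r.Prime]
    (h : r ∣ Nat.card {W : Submodule F V // finrank F W = m ∧ ∀ u ∈ W, ∀ v ∈ W, B u v = 0}) :
    r ≠ p ∧ ∃ j < m, orderOf (Fintype.card F : ZMod r) ∣ 2 * (d - j) :=
  index_of_frames p hm (natCard_frames hnd halt hV m hm) h

end Cfsg.Agent.Classical.IsoInvariant
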