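import Mathlib
import Cfsg.Agent.Lib.Classical.IsoInvariant.Basic
import Cfsg.Agent.Lib.Classical.SemisimpleConj
import Cfsg.Agent.Lib.Classical.SpectrumTools

/-!
# Kernels of polynomials in an isometry of odd prime order
-/

set_option autoImplicit false
set_option linter.unusedSectionVars false

namespace Cfsg.Agent.Classical.IsoInvariant

open Module Polynomial
open Cfsg.Agent.Forms.Elusive Cfsg.Agent.Forms.Elusive.Pieces

universe u v

variable {F : Type u} [Field F] [Fintype F] {V : Type v} [AddCommGroup V] [Module F V] [FiniteDimensional F V]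
  {B : LinearMap.BilinForm F V} {g : V →ₗ[F] V} {r i : ℕ}

theorem comm_aeval (P : F[X]) (v : V) : aeval g P (g v) = g (aeval g P v) := by
  have h : Commute (aeval g P) (aeval g (X : F[X])) := (Commute.all P X).map _
  rw [aeval_X] at h
  exact congrArg (fun T : Module.End F V => T v) h.eq

theorem ker_inv (P : F[X]) : (LinearMap.ker (aeval g P)).map g ≤ LinearMap.ker (aeval g P) := by
  rintro _ ⟨v, hv, rfl⟩
  exact LinearMap.mem_ker.2 (by rw [comm_aeval, LinearMap.mem_ker.1 hv, map_zero])

theorem range_inv (P : F[X]) : (LinearMap.range (aeval g P)).map g ≤ LinearMap.range (aeval g P) := by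
  rintro _ ⟨_, ⟨w, rfl⟩, rfl⟩
  exact ⟨g w, comm_aeval P w⟩

variable [hr : Fact r.Prime]

theorem order_pos (hr0 : (r : F) ≠ 0) (hi : i = orderOf ((Fintype.card F : ℕ) : ZMod r)) : 0 < i := by
  rw [hi]
  refine orderOf_pos_iff.2 (IsUnit.isOfFinOrder (isUnit_iff_ne_zero.2 fun h => hr0 ?_))
  obtain ⟨f, hp, hpf⟩ := FiniteField.card F (ringChar F)
  rw [ZMod.natCast_eq_zero_iff, hpf] at h
  have := (Nat.prime_dvd_prime_iff_eq hr.out hp).1 (hr.out.dvd_of_dvd_pow h)
  exact (CharP.cast_eq_zero_iff F (ringChar F) r).2 (dvd_of_eq this.symm)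

/-- `M(g)` is diagonalisable over the closure: kernel and image are complementary -/
theorem isCompl_ker_range (hr0 : (r : F) ≠ 0) (hi : i = orderOf ((Fintype.card F : ℕ) : ZMod r))
    (hg : g ^ r = 1) (P : F[X]) : IsCompl (LinearMap.ker (aeval g P)) (LinearMap.range (aeval g P)) := by
  set T := aeval g P with hT
  have hqi : ((Fintype.card F ^ i : ℕ) : ZMod r) = ((1 : ℕ) : ZMod r) := by
    rw [Nat.cast_pow, Nat.cast_one, hi, pow_orderOf_eq_one]
  have hTi : T ^ (Fintype.card F ^ i) = T := by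
    rw [hT, ← aeval_pow_card, pow_eq_of_modEq hg hqi, pow_one]
  have hdis : Disjoint (LinearMap.ker T) (LinearMap.range T) := by
    rw [Submodule.disjoint_def]
    rintro _ hv ⟨u, rfl⟩
    rw [LinearMap.mem_ker] at hv
    have h2 : 2 ≤ Fintype.card F ^ i :=
      le_trans Fintype.one_lt_card (Nat.le_self_pow (order_pos hr0 hi).ne' _)
    rw [← hTi, show Fintype.card F ^ i = Fintype.card F ^ i - 2 + 1 + 1 by omega, pow_succ, pow_succ,
      Module.End.mul_apply, Module.End.mul_apply, hv, map_zero]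
  refine ⟨hdis, codisjoint_iff.2 (Submodule.eq_top_of_finrank_eq ?_)⟩
  rw [finrank_sup_of_disjoint hdis, add_comm, LinearMap.finrank_range_add_finrank_ker]

/-- kernels are orthogonal to images for an even order of `q` -/
theorem ker_perp_range (hiso : ∀ u v, B (g u) (g v) = B u v) (hi : i = orderOf ((Fintype.card F : ℕ) : ZMod r))
    (hi0 : 0 < i) (hev : Even i) (hg : g ^ r = 1) {P : F[X]} {u : V} (hu : aeval g P u = 0) (w : V) :
    B u (aeval g P w) = 0 := by
  obtain ⟨h, hh⟩ := hev
  set q := Fintype.card F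
  have hqh : ((q ^ h : ℕ) : ZMod r) = ((r - 1 : ℕ) : ZMod r) := by
    rw [Nat.cast_pow, Nat.cast_sub hr.out.one_lt.le, ZMod.natCast_self, Nat.cast_one, zero_sub]
    have h2 : ((q : ZMod r) ^ h) ^ 2 = 1 := by
      rw [← pow_mul, show h * 2 = i by omega, hi, pow_orderOf_eq_one]
    rcases sq_eq_one_iff.1 h2 with h3 | h3
    · exfalso
      have h4 := Nat.le_of_dvd (by omega) (orderOf_dvd_of_pow_eq_one h3)
      omega
    · exact h3
  rw [adjoint_aeval hiso hr.out.pos hg, ← pow_eq_of_modEq hg hqh, aeval_pow_card]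
  have hpos : 0 < q ^ h := Nat.pow_pos Fintype.card_pos
  rw [show q ^ h = q ^ h - 1 + 1 by omega, pow_succ, Module.End.mul_apply, hu, map_zero, map_zero,
    LinearMap.zero_apply]

/-- the kernel belonging to a part of the characteristic polynomial -/
theorem finrank_ker_part (hr0 : (r : F) ≠ 0) (hi : i = orderOf ((Fintype.card F : ℕ) : ZMod r))
    (hg : g ^ r = 1) (s₁ s₂ : Multiset F[X]) (hm : ∀ x ∈ s₁ + s₂, x.Monic ∧ Irreducible x)
    (hd : ∀ x ∈ s₁, x ∉ s₂) (hc : g.charpoly = (s₁ + s₂).prod) (M : F[X]) (hM : ∀ x ∈ s₁, x ∣ M)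
    (hMd : M ∣ s₁.prod) :
    finrank F (LinearMap.ker (aeval g M)) = (s₁.map natDegree).sum := by
  classical
  have hm1 : ∀ x ∈ s₁, x.Monic ∧ Irreducible x := fun x hx => hm x (Multiset.mem_add.2 (Or.inl hx))
  have hm2 : ∀ x ∈ s₂, x.Monic ∧ Irreducible x := fun x hx => hm x (Multiset.mem_add.2 (Or.inr hx))
  have hmon1 : s₁.prod.Monic := by
    simpa using monic_multiset_prod_of_monic s₁ id fun x hx => (hm1 x hx).1
  have hne : ∀ x : F[X], Irreducible x → x ∣ s₁.prod → x ∣ s₂.prod → False := by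
    intro x hx h1 h2
    obtain ⟨a, ha, hxa⟩ := hx.prime.exists_mem_multiset_dvd h1
    obtain ⟨b, hb, hxb⟩ := hx.prime.exists_mem_multiset_dvd h2
    have e := eq_of_monic_of_associated (hm1 a ha).1 (hm2 b hb).1
      (((hx.associated_of_dvd (hm1 a ha).2 hxa).symm.trans (hx.associated_of_dvd (hm2 b hb).2 hxb)))
    exact hd a ha (e ▸ hb)
  have hcop : IsCoprime s₁.prod s₂.prod :=
    isCoprime_of_irreducible_dvd (fun h => hmon1.ne_zero h.1) hne
  set K := LinearMap.ker (aeval g M) with hK
  set R := LinearMap.range (aeval g M) with hR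
  have hKR := isCompl_ker_range hr0 hi hg M
  have hKi : ∀ x ∈ K, g x ∈ K := fun x hx => ker_inv M ⟨x, hx, rfl⟩
  have hRi : ∀ x ∈ R, g x ∈ R := fun x hx => range_inv M ⟨x, hx, rfl⟩
  have hsplit := SpectrumTools.charpoly_of_compl g hKR hKi hRi
  have hgr : g ^ r = 1 := hg
  have hkill : ∀ (W : Submodule F V) (hW : ∀ x ∈ W, g x ∈ W) (x : F[X]), Irreducible x →
      x ∣ (g.restrict hW).charpoly → ∃ u ∈ W, u ≠ 0 ∧ aeval g x u = 0 := by
    intro W hW x hx hdvd
    obtain ⟨u, hu0, hu⟩ := SemisimpleConj.exists_kills_of_dvd_charpoly _ (g.restrict hW) rfl hr0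
      (SemisimpleConj.restrict_pow_eq_one hgr hW) hx hdvd
    refine ⟨u, u.2, fun e => hu0 (Subtype.ext e), ?_⟩
    rw [← SemisimpleConj.coe_aeval_restrict g hW, hu]
    rfl
  have hR1 : IsCoprime s₁.prod (g.restrict hRi).charpoly :=
    isCoprime_of_irreducible_dvd (fun h => hmon1.ne_zero h.1) fun x hx h1 h2 => by
      obtain ⟨u, huR, hu0, hu⟩ := hkill R hRi x hx h2
      obtain ⟨a, ha, hxa⟩ := hx.prime.exists_mem_multiset_dvd h1
      obtain ⟨w, hw⟩ := (hxa.trans (hM a ha) : x ∣ M)
      refine hu0 (Submodule.disjoint_def.1 hKR.disjoint u (LinearMap.mem_ker.2 ?_) huR)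
      rw [hw, mul_comm, map_mul, Module.End.mul_apply, hu, map_zero]
  have hK2 : IsCoprime (g.restrict hKi).charpoly s₂.prod :=
    isCoprime_of_irreducible_dvd (fun h => (LinearMap.charpoly_monic _).ne_zero h.1) fun x hx h1 h2 => by
      obtain ⟨u, huK, hu0, hu⟩ := hkill K hKi x hx h1
      by_cases hxM : x ∣ M
      · exact hne x hx (hxM.trans hMd) h2
      · obtain ⟨a, b, hab⟩ := hx.coprime_iff_not_dvd.2 hxM
        have e := congrArg (fun P => aeval g P u) hab
        simp only [map_add, map_mul, map_one, LinearMap.add_apply, Module.End.mul_apply, Module.End.one_apply,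
          hu, LinearMap.mem_ker.1 huK, map_zero, add_zero] at e
        exact hu0 e.symm
  have e1 : (g.restrict hKi).charpoly * (g.restrict hRi).charpoly = s₁.prod * s₂.prod := by
    rw [← hsplit, hc, Multiset.prod_add]
  have hd1 : s₁.prod ∣ (g.restrict hKi).charpoly := hR1.dvd_of_dvd_mul_right (e1 ▸ dvd_mul_right _ _)
  have hd2 : (g.restrict hKi).charpoly ∣ s₁.prod := hK2.dvd_of_dvd_mul_right (e1 ▸ dvd_mul_right _ _)
  have e2 : (g.restrict hKi).charpoly = s₁.prod :=
    eq_of_monic_of_associated (LinearMap.charpoly_monic _) hmon1 (associated_of_dvd_dvd hd2 hd1)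
  rw [← natDegree_multiset_prod_of_monic s₁ (fun x hx => (hm1 x hx).1), ← e2, LinearMap.charpoly_natDegree]

omit hr in
theorem fixSp_eq_ker (g : V →ₗ[F] V) : fixSp g = LinearMap.ker (aeval g (X - C (1 : F))) := by
  rw [fixSp, map_sub, aeval_X, map_one, map_one]

omit hr in
/-- a product of `t` factors killing `W`: one of the kernels is large -/
theorem exists_big_kernel {W : Submodule F V} (hW : W.map g ≤ W) {a : ℕ} :
    ∀ gs : List F[X], (∀ v ∈ W, aeval g gs.prod v = 0) → gs.length * a < finrank F W →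
      ∃ P ∈ gs, a < finrank F ↥(W ⊓ LinearMap.ker (aeval g P)) := by
  intro gs
  induction gs generalizing W with
  | nil =>
    intro h hlt
    have : W = ⊥ := (Submodule.eq_bot_iff _).2 fun v hv => by simpa using h v hv
    rw [this, finrank_bot] at hlt
    omega
  | cons P gs ih =>
    intro h hlt
    by_cases hP : a < finrank F ↥(W ⊓ LinearMap.ker (aeval g P))
    · exact ⟨P, List.mem_cons_self, hP⟩
    set T : W →ₗ[F] W := (aeval g P).restrict fun v hv => aeval_mem hW P hv
    have hker : finrank F (LinearMap.ker T) = finrank F ↥(W ⊓ LinearMap.ker (aeval g P)) := by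
      rw [← Submodule.finrank_map_subtype_eq]
      congr 2 <;> ext v
      all_goals constructor
      all_goals first
        | (rintro ⟨⟨w, hw⟩, hk, rfl⟩
           exact ⟨hw, LinearMap.mem_ker.2 (congrArg Subtype.val (LinearMap.mem_ker.1 hk))⟩)
        | (rintro ⟨hv, hk⟩
           exact ⟨⟨v, hv⟩, LinearMap.mem_ker.2 (Subtype.ext (LinearMap.mem_ker.1 hk)), rfl⟩)
    set W' := (LinearMap.range T).map W.subtype with hW'
    have hW'W : W' ≤ W := Submodule.map_subtype_le _ _
    have hsum := LinearMap.finrank_range_add_finrank_ker T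
    have hW'd : finrank F W' = finrank F (LinearMap.range T) := Submodule.finrank_map_subtype_eq _ _
    have hW'i : W'.map g ≤ W' := by
      rintro _ ⟨_, ⟨_, ⟨⟨x, hx⟩, rfl⟩, rfl⟩, rfl⟩
      exact ⟨T ⟨g x, hW ⟨x, hx, rfl⟩⟩, ⟨_, rfl⟩, comm_aeval P x⟩
    obtain ⟨Q, hQ, hbig⟩ := ih hW'i (fun v hv => by
      obtain ⟨_, ⟨⟨x, hx⟩, rfl⟩, rfl⟩ := hv
      show aeval g gs.prod (aeval g P x) = 0
      rw [← Module.End.mul_apply, ← map_mul, mul_comm, ← List.prod_cons]
      exact h x hx) (by rw [List.length_cons, Nat.succ_mul] at hlt; omega)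
    exact ⟨Q, List.mem_cons_of_mem _ hQ,
      hbig.trans_le (Submodule.finrank_mono (inf_le_inf_right _ hW'W))⟩

/-- a fixed-point-free invariant subspace is killed by the cyclotomic factors -/
theorem exists_killing_list (hr0 : (r : F) ≠ 0) (hi : i = orderOf ((Fintype.card F : ℕ) : ZMod r))
    (hg : g ^ r = 1) :
    ∃ gs : List F[X], gs.length = (r - 1) / i ∧ (∀ P ∈ gs, P.Monic ∧ P.natDegree = i ∧ Irreducible P) ∧
      ∀ W : Submodule F V, W.map g ≤ W → (∀ v ∈ W, g v = v → v = 0) → ∀ v ∈ W, aeval g gs.prod v = 0 := by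
  classical
  obtain ⟨p, hp⟩ := CharP.exists F
  have := hp
  have hpp : Fact p.Prime := ⟨CharP.char_is_prime F p⟩
  obtain ⟨k, -, hk⟩ := FiniteField.card F p
  have hpr : p ≠ r := fun e => hr0 (e ▸ CharP.cast_eq_zero F p)
  have hcop : p.Coprime r := (Nat.coprime_primes Fact.out hr.out).2 hpr
  have hu : i = orderOf (ZMod.unitOfCoprime _ (hcop.pow_left (k : ℕ))) := by
    rw [hi, ← orderOf_units, ZMod.coe_unitOfCoprime, hk]
  refine ⟨(UniqueFactorizationMonoid.normalizedFactors (cyclotomic r F)).toList, ?_, fun P hP => ?_,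
    fun W hW hfree v hv => ?_⟩
  · have : NeZero (r : F) := ⟨hr0⟩
    rw [Multiset.length_toList, ← Multiset.toFinset_card_of_nodup
        ((UniqueFactorizationMonoid.squarefree_iff_nodup_normalizedFactors (cyclotomic_ne_zero r F)).1
          (separable_cyclotomic r F).squarefree),
      Polynomial.normalizedFactors_cyclotomic_card hk hcop, ← hu, Nat.totient_prime hr.out]
  · rw [Multiset.mem_toList] at hP
    refine ⟨?_, ?_, UniqueFactorizationMonoid.irreducible_of_normalized_factor P hP⟩
    · have hne := (UniqueFactorizationMonoid.irreducible_of_normalized_factor P hP).ne_zero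
      exact UniqueFactorizationMonoid.normalize_normalized_factor P hP ▸ monic_normalize hne
    · rw [hu]
      exact natDegree_of_mem_normalizedFactors_cyclotomic hk hcop hP
  · rw [Multiset.prod_toList]
    obtain ⟨w, hw⟩ := UniqueFactorizationMonoid.prod_normalizedFactors (cyclotomic_ne_zero r F)
    have e1 : g (aeval g (cyclotomic r F) v) = aeval g (cyclotomic r F) v := by
      have e := congrArg (fun P => aeval g P v) (cyclotomic_prime_mul_X_sub_one F r)
      simp only [map_mul, map_sub, map_one, aeval_X, aeval_X_pow, Module.End.mul_apply,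
        LinearMap.sub_apply, Module.End.one_apply, hg, sub_self, comm_aeval] at e
      exact sub_eq_zero.1 e
    have h0 := hfree _ (aeval_mem hW _ hv) e1
    rw [← hw, mul_comm, map_mul, Module.End.mul_apply] at h0
    have := congrArg (aeval g (↑w⁻¹ : F[X])) h0
    rwa [map_zero, ← Module.End.mul_apply, ← map_mul, Units.inv_mul, map_one, Module.End.one_apply] at this

end Cfsg.Agent.Classical.IsoInvariant
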