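import Mathlib
import Cfsg.Agent.Lib.Classical.IsoInvariant.Kernels
import Cfsg.Agent.Lib.Classical.StarFactor
import Cfsg.Agent.Lib.Forms.Elusive.Models
import Cfsg.Agent.Lib.Classical.SpectrumFactors

/-!
# Invariant totally isotropic subspaces for reflexive and symmetric forms
-/

set_option autoImplicit false
set_option linter.unusedSectionVars false

namespace Cfsg.Agent.Classical.IsoInvariant.Refl

open Module Polynomial
open Cfsg.Agent.Forms.Elusive Cfsg.Agent.Forms.Elusive.Pieces

universe u v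

variable {F : Type u} [Field F] {V : Type v} [AddCommGroup V] [Module F V] [FiniteDimensional F V]
  {B : LinearMap.BilinForm F V} {g : V →ₗ[F] V}

theorem orthTo_symm (hB : B.IsRefl) {U W : Submodule F V} (h : OrthTo B U W) : OrthTo B W U :=
  fun w hw u hu => hB u w (h u hu w hw)

theorem perp_dim (hB : B.IsRefl) {D T : Submodule F V} (hD : NdOn B D) (hT : T ≤ D) :
    finrank F ↥(D ⊓ B.orthogonal T) + finrank F T = finrank F D := by
  have hnd : (B.restrict D).Nondegenerate := by
    refine ⟨fun x hx => ?_, fun y hy => ?_⟩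
    · by_contra h0
      obtain ⟨u, hu, hxu⟩ := hD x x.2 fun e => h0 (Subtype.ext e)
      exact hxu (hx ⟨u, hu⟩)
    · by_contra h0
      obtain ⟨u, hu, hyu⟩ := hD y y.2 fun e => h0 (Subtype.ext e)
      exact hyu (hB u y (hy ⟨u, hu⟩))
  have h := LinearMap.BilinForm.finrank_orthogonal hnd (T.comap D.subtype)
  have e1 : (B.restrict D).orthogonal (T.comap D.subtype) = (D ⊓ B.orthogonal T).comap D.subtype := by
    ext x
    refine ⟨fun hx => ⟨x.2, fun t ht => hx ⟨t, hT ht⟩ ht⟩, fun hx n hn => hx.2 n hn⟩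
  rw [e1, (Submodule.comapSubtypeEquivOfLe (inf_le_left : D ⊓ B.orthogonal T ≤ D)).finrank_eq,
    (Submodule.comapSubtypeEquivOfLe hT).finrank_eq] at h
  have := Submodule.finrank_mono hT
  omega

theorem two_le_of_iso (hB : B.IsRefl) {D U : Submodule F V} (hD : NdOn B D) (hU : U ≤ D) (hI : IsoOn B U) :
    2 * finrank F U ≤ finrank F D := by
  have h1 := perp_dim hB hD hU
  have h2 := Submodule.finrank_mono
    (show U ≤ D ⊓ B.orthogonal U from fun u hu => mem_perp.2 ⟨hU hu, fun p hp => hI p hp u hu⟩)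
  omega

theorem exists_middle (hB : B.IsRefl) (hiso : ∀ u v, B (g u) (g v) = B u v) (hinj : Function.Injective g)
    (hss : Module.End.IsSemisimple g) {D U : Submodule F V} (hD : NdOn B D) (hDi : D.map g ≤ D)
    (hUD : U ≤ D) (hUi : U.map g ≤ U) (hI : IsoOn B U) :
    ∃ R : Submodule F V, R ≤ D ∧ NdOn B R ∧ R.map g ≤ R ∧ OrthTo B U R ∧ Disjoint U R ∧
      finrank F R + 2 * finrank F U = finrank F D := by
  have hUU' : U ≤ D ⊓ B.orthogonal U := fun u hu => mem_perp.2 ⟨hUD hu, fun p hp => hI p hp u hu⟩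
  obtain ⟨R, hR, hRU', hd, hsup, hsum⟩ := exists_compl hss hUi (perp_inv' hiso hinj hDi hUi) hUU'
  have hort : OrthTo B U R := fun u hu x hx => (mem_perp.1 (hRU' hx)).2 u hu
  have h1 := perp_dim hB hD hUD
  refine ⟨R, hRU'.trans inf_le_left, fun v hv hv0 => ?_, hR, hort, hd, by omega⟩
  by_contra hcon
  push Not at hcon
  have hT : U ⊔ F ∙ v ≤ D := sup_le hUD ((Submodule.span_singleton_le_iff_mem _ _).2 (hRU' hv).1)
  have h2 := perp_dim hB hD hT
  have hle : D ⊓ B.orthogonal U ≤ D ⊓ B.orthogonal (U ⊔ F ∙ v) := by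
    intro x hx
    refine mem_perp.2 ⟨hx.1, fun y hy => ?_⟩
    obtain ⟨u, hu, w, hw, rfl⟩ := Submodule.mem_sup.1 hy
    obtain ⟨c, rfl⟩ := Submodule.mem_span_singleton.1 hw
    rw [map_add, LinearMap.add_apply, (mem_perp.1 hx).2 u hu, zero_add, map_smul, LinearMap.smul_apply]
    have hsupx : x ∈ U ⊔ R := by rw [hsup]; exact hx
    obtain ⟨a, ha, b, hb, rfl⟩ := Submodule.mem_sup.1 hsupx
    rw [map_add, orthTo_symm hB hort v hv a ha, hcon b hb, add_zero, smul_zero]
  have h3 := Submodule.finrank_mono hle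
  have h4 : U = U ⊔ F ∙ v := Submodule.eq_of_le_of_finrank_le le_sup_left (by omega)
  refine hv0 (Submodule.disjoint_def.1 hd v ?_ hv)
  rw [h4]
  exact Submodule.mem_sup_right (Submodule.mem_span_singleton_self v)

theorem iso_sup (hB : B.IsRefl) {U W : Submodule F V} (hU : IsoOn B U) (hW : IsoOn B W)
    (h : OrthTo B U W) : IsoOn B (U ⊔ W) := by
  intro x hx y hy
  obtain ⟨a, ha, b, hb, rfl⟩ := Submodule.mem_sup.1 hx
  obtain ⟨c, hc, e, he, rfl⟩ := Submodule.mem_sup.1 hy
  simp [map_add, hU a ha c hc, hW b hb e he, h a ha e he, orthTo_symm hB h b hb c hc]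

theorem exists_iso_multi (hB : B.IsRefl) (hiso : ∀ u v, B (g u) (g v) = B u v) (hinj : Function.Injective g)
    (hss : Module.End.IsSemisimple g) {i L : ℕ} :
    ∀ (j : ℕ) {D : Submodule F V}, NdOn B D → D.map g ≤ D →
      (∀ W : Submodule F V, W ≤ D → NdOn B W → W.map g ≤ W → L ≤ finrank F W →
        ∃ U : Submodule F V, U ≤ W ∧ U.map g ≤ U ∧ IsoOn B U ∧ finrank F U = i) →
      (j = 0 ∨ L + 2 * (i * j) ≤ finrank F D + 2 * i) →
      ∃ U : Submodule F V, U ≤ D ∧ U.map g ≤ U ∧ IsoOn B U ∧ finrank F U = i * j := by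
  intro j
  induction j with
  | zero => exact fun _ _ _ _ => ⟨⊥, bot_le, by simp, fun u hu => by simp [(Submodule.mem_bot F).1 hu], by simp⟩
  | succ j ih =>
    intro D hD hDi hex hj
    rw [Nat.mul_succ] at hj ⊢
    obtain ⟨U, hUD, hUi, hI, hUd⟩ := hex D le_rfl hD hDi (by omega)
    obtain ⟨R, hRD, hR, hRi, hort, hd, hsum⟩ := exists_middle hB hiso hinj hss hD hDi hUD hUi hI
    obtain ⟨U', hU'R, hU'i, hI', hU'd⟩ := ih hR hRi (fun W hW => hex W (hW.trans hRD)) (by omega)
    refine ⟨U ⊔ U', sup_le hUD (hU'R.trans hRD), inv_sup hUi hU'i,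
      iso_sup hB hI hI' fun u hu w hw => hort u hu w (hU'R hw), ?_⟩
    rw [finrank_sup_of_disjoint (hd.mono_right hU'R), hUd, hU'd, add_comm]

variable [Fintype F]

/-- a symmetric form has totally isotropic subspaces almost up to half the dimension -/
theorem exists_iso (hS : B.IsSymm) {D : Submodule F V} (hD : NdOn B D) {j : ℕ}
    (hj : j = 0 ∨ 2 * j + 1 ≤ finrank F D) :
    ∃ U : Submodule F V, U ≤ D ∧ IsoOn B U ∧ finrank F U = j := by
  have hB : B.IsRefl := fun x y h => by rw [hS.eq, h]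
  have hss : Module.End.IsSemisimple (1 : V →ₗ[F] V) :=
    isSemisimple_of_pow (r := 1) (c := 1) (fun v => by simp) (by simp) one_ne_zero
  obtain ⟨U, hU, -, hI, hd⟩ := exists_iso_multi (g := (1 : V →ₗ[F] V)) hB (fun u v => rfl)
    Function.injective_id hss (i := 1) (L := 3) j hD (by rintro _ ⟨v, hv, rfl⟩; exact hv)
    (fun W _ _ _ hL => by
      obtain ⟨v, hv, hv0, hq⟩ := exists_common_zero (K := W) (fun _ : Fin 1 => B) (by omega)
      refine ⟨F ∙ v, (Submodule.span_singleton_le_iff_mem _ _).2 hv, by rintro _ ⟨x, hx, rfl⟩; exact hx,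
        fun a ha b hb => ?_, finrank_span_singleton hv0⟩
      obtain ⟨c, rfl⟩ := Submodule.mem_span_singleton.1 ha
      obtain ⟨e, rfl⟩ := Submodule.mem_span_singleton.1 hb
      simp [hq 0]) (hj.imp_right fun h => by omega)
  exact ⟨U, hU, hI, by omega⟩

/-- an isotropic cyclic subspace of a symmetric form -/
theorem exists_cyclic (hS : B.IsSymm) (h2 : (2 : F) ≠ 0) (hiso : ∀ u v, B (g u) (g v) = B u v) {N h : ℕ}
    (h0 : 0 < h) (hh : 2 * h ≤ N) (hg : g ^ N = 1) {P : F[X]} (hPm : P.Monic) (hPd : P.natDegree = 2 * h)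
    (hP0 : P.coeff 0 = 1) {K : Submodule F V} (hKi : K.map g ≤ K) (hK : ∀ v ∈ K, aeval g P v = 0)
    (hdim : 2 * h < finrank F K) :
    ∃ S : Submodule F V, S ≤ K ∧ S.map g ≤ S ∧ IsoOn B S ∧ S ≠ ⊥ ∧ finrank F S ≤ 2 * h := by
  obtain ⟨v, hvK, hv0, hzero⟩ := exists_common_zero (K := K)
    (fun l : Fin h => B.compRight (g ^ (l : ℕ))) hdim
  have hiso' : ∀ (k : ℕ) u w, B ((g ^ k) u) ((g ^ k) w) = B u w := fun k => by
    induction k with
    | zero => simp
    | succ k ih => intro u w; rw [pow_succ', Module.End.mul_apply, Module.End.mul_apply, hiso, ih]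
  have hper : ∀ l, (g ^ (l + N)) v = (g ^ l) v := fun l => by rw [pow_add, hg, mul_one]
  set i := 2 * h with hidef
  have hrec : ∀ l, (g ^ (l + i)) v = - ∑ k ∈ Finset.range i, P.coeff k • (g ^ (l + k)) v := by
    intro l
    have h1 : aeval g P v = 0 := hK v hvK
    rw [aeval_eq_sum_range, LinearMap.sum_apply, hPd, Finset.sum_range_succ] at h1
    have hc : P.coeff i = 1 := by rw [← hPd]; exact hPm.coeff_natDegree
    rw [hc, one_smul] at h1
    have h2 := congrArg (g ^ l) h1
    rw [map_add, map_sum, map_zero] at h2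
    have h3 : ∀ k, (g ^ l) ((g ^ k) v) = (g ^ (l + k)) v := fun k => by rw [pow_add, Module.End.mul_apply]
    simp only [LinearMap.smul_apply, map_smul, h3] at h2
    exact eq_neg_of_add_eq_zero_right h2
  let a : ℕ → F := fun l => B v ((g ^ l) v)
  have hlow : ∀ l, l < h → a l = 0 := fun l hl => by
    have := hzero ⟨l, hl⟩
    rwa [LinearMap.BilinForm.compRight_apply] at this
  have hper' : ∀ l, a (l + N) = a l := fun l => by simp only [a, hper]
  have hsym : ∀ l, l ≤ N → a (N - l) = a l := fun l hl => by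
    show B v ((g ^ (N - l)) v) = B v ((g ^ l) v)
    conv_rhs => rw [← hiso' (N - l) v ((g ^ l) v), ← Module.End.mul_apply, ← pow_add, Nat.sub_add_cancel hl, hg,
      Module.End.one_apply, hS.eq]
  have hwin : ∀ k, N - h < k → k < N + h → a k = 0 := by
    intro k hk1 hk2
    by_cases h1 : k < N
    · rw [show k = N - (N - k) by omega, hsym _ (by omega)]
      exact hlow _ (by omega)
    · rw [show k = k - N + N by omega, hper']
      exact hlow _ (by omega)
  have hrecA : ∀ l, a (l + i) = - ∑ k ∈ Finset.range i, P.coeff k * a (l + k) := fun l => by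
    show B v ((g ^ (l + i)) v) = _
    rw [hrec, map_neg, map_sum]
    simp only [map_smul, smul_eq_mul, a]
  have hh0 : a h = 0 := by
    have h1 := hrecA (N - h)
    rw [show N - h + i = h + N by omega, hper', Finset.sum_eq_single 0, hP0, one_mul, add_zero,
      hsym h (by omega)] at h1
    · exact (mul_eq_zero.1 (show (2 : F) * a h = 0 by linear_combination h1)).resolve_left h2
    · intro k hk hk0
      rw [hwin _ (by omega) (by have := Finset.mem_range.1 hk; omega), mul_zero]
    · intro h3; exact absurd (Finset.mem_range.2 (by omega)) h3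
  have hall' : ∀ k, a (N - h + 1 + k) = 0 := by
    intro k
    induction k using Nat.strong_induction_on with
    | _ k ih =>
      by_cases hk : k < i
      · by_cases hk' : k + 1 = i
        · rw [show N - h + 1 + k = h + N by omega, hper', hh0]
        · exact hwin _ (by omega) (by omega)
      · rw [show N - h + 1 + k = N - h + 1 + (k - i) + i by omega, hrecA, neg_eq_zero]
        refine Finset.sum_eq_zero fun e he => ?_
        have he' := Finset.mem_range.1 he
        rw [add_assoc, ih (k - i + e) (by omega), mul_zero]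
  have hperiod : ∀ n l, (g ^ (l + N * n)) v = (g ^ l) v := fun n => by
    induction n with
    | zero => simp
    | succ n ih => intro l; rw [Nat.mul_succ, ← add_assoc, hper, ih]
  have hall : ∀ l, B v ((g ^ l) v) = 0 := fun l => by
    have h1 := hall' (l + N * (N - h + 1) - (N - h + 1))
    have h2 : (N - h + 1) ≤ N * (N - h + 1) := Nat.le_mul_of_pos_left _ (by omega)
    rw [Nat.add_sub_cancel' (by omega)] at h1
    rwa [← hperiod (N - h + 1) l]
  set S := Submodule.span F (Set.range fun l : ℕ => (g ^ l) v) with hSdef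
  have hmemK : ∀ l, (g ^ l) v ∈ K := fun l => by
    induction l with
    | zero => simpa using hvK
    | succ l ih => rw [pow_succ', Module.End.mul_apply]; exact hKi ⟨_, ih, rfl⟩
  have hpair : ∀ x y, B ((g ^ x) v) ((g ^ y) v) = 0 := by
    intro x y
    have h2 : x ≤ N * x := Nat.le_mul_of_pos_left _ (by omega)
    rw [← hperiod x y, show y + N * x = x + (y + N * x - x) by omega, pow_add, Module.End.mul_apply, hiso']
    exact hall _
  refine ⟨S, Submodule.span_le.2 (by rintro _ ⟨l, rfl⟩; exact hmemK l), ?_, ?_, ?_, ?_⟩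
  · rw [hSdef, Submodule.map_span, Submodule.span_le]
    rintro _ ⟨_, ⟨l, rfl⟩, rfl⟩
    exact Submodule.subset_span ⟨l + 1, by simp [pow_succ', Module.End.mul_apply]⟩
  · intro x hx y hy
    induction hx using Submodule.span_induction with
    | mem x hx =>
      obtain ⟨l, rfl⟩ := hx
      induction hy using Submodule.span_induction with
      | mem y hy => obtain ⟨l', rfl⟩ := hy; exact hpair l l'
      | zero => simp
      | add y z _ _ h1 h2 => simp [h1, h2]
      | smul c y _ h1 => simp [h1]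
    | zero => simp
    | add x z _ _ h1 h2 => simp [h1, h2]
    | smul c x _ h1 => simp [h1]
  · exact fun e => hv0 ((Submodule.mem_bot F).1 (e ▸ Submodule.subset_span ⟨0, by simp⟩))
  · set T := Submodule.span F (Set.range fun l : Fin i => (g ^ (l : ℕ)) v) with hT
    have hST : S ≤ T := Submodule.span_le.2 (by
      rintro _ ⟨l, rfl⟩
      show (g ^ l) v ∈ T
      induction l using Nat.strong_induction_on with
      | _ l ih =>
        by_cases hl : l < i
        · exact Submodule.subset_span ⟨⟨l, hl⟩, rfl⟩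
        · rw [show l = l - i + i by omega, hrec]
          refine T.neg_mem (T.sum_mem fun e he => T.smul_mem _ (ih _ ?_))
          have := Finset.mem_range.1 he
          omega)
    refine (Submodule.finrank_mono hST).trans ((finrank_range_le_card _).trans ?_)
    rw [Fintype.card_fin]

variable {r i : ℕ} [hr : Fact r.Prime]

/-- fixed and moved parts of an isometry -/
theorem fix_free (hnd : B.Nondegenerate) (hB : B.IsRefl) (hiso : ∀ u v, B (g u) (g v) = B u v)
    (hr0 : (r : F) ≠ 0) (hi : i = orderOf ((Fintype.card F : ℕ) : ZMod r)) (hg : g ^ r = 1) :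
    NdOn B (fixSp g) ∧ ∃ D : Submodule F V, NdOn B D ∧ D.map g ≤ D ∧ OrthTo B (fixSp g) D ∧
      Disjoint (fixSp g) D ∧ (∀ v ∈ D, g v = v → v = 0) ∧
      finrank F (fixSp g) + finrank F D = finrank F V := by
  have hc := isCompl_ker_range hr0 hi hg (X - C (1 : F))
  rw [← fixSp_eq_ker] at hc
  set D := LinearMap.range (aeval g (X - C (1 : F))) with hD
  have hort : OrthTo B (fixSp g) D := by
    rintro u hu _ ⟨w, rfl⟩
    rw [map_sub, aeval_X, map_one, map_one, LinearMap.sub_apply, Module.End.one_apply, map_sub]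
    conv_lhs => arg 2; rw [← hiso u w, mem_fixSp.1 hu]
    rw [sub_self]
  have hnd' : ∀ v, (∀ a ∈ fixSp g, B v a = 0) → (∀ b ∈ D, B v b = 0) → v = 0 := fun v h1 h2 => by
    refine hnd.1 v fun y => ?_
    obtain ⟨a, ha, b, hb, rfl⟩ := Submodule.mem_sup.1 (hc.sup_eq_top.symm ▸ Submodule.mem_top : y ∈ fixSp g ⊔ D)
    rw [map_add, h1 a ha, h2 b hb, add_zero]
  refine ⟨fun v hv hv0 => ?_, D, fun v hv hv0 => ?_, range_inv _, hort, hc.disjoint,
    fun v hv hgv => Submodule.disjoint_def.1 hc.disjoint v (mem_fixSp.2 hgv) hv,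
    Submodule.finrank_add_eq_of_isCompl hc⟩
  · by_contra hcon
    push Not at hcon
    exact hv0 (hnd' v hcon fun b hb => hort v hv b hb)
  · by_contra hcon
    push Not at hcon
    exact hv0 (hnd' v (fun a ha => hB a v (hort a ha v hv)) hcon)

/-- for an odd order of `q` minimal moved subspaces are totally isotropic -/
theorem iso_of_odd (hB : B.IsRefl) (hiso : ∀ u v, B (g u) (g v) = B u v) (hr2 : r ≠ 2)
    (hr0 : (r : F) ≠ 0) (hi : i = orderOf ((Fintype.card F : ℕ) : ZMod r)) (hodd : Odd i) (hg : g ^ r = 1)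
    {U : Submodule F V} (hU : U.map g ≤ U) (hfree : ∀ v ∈ U, g v = v → v = 0) (hUd : finrank F U = i) :
    IsoOn B U := by
  have hgr : ∀ v, (g ^ r) v = v := fun v => by rw [hg]; rfl
  have hinj : Function.Injective g := fun u v e => by
    have := congrArg (g ^ (r - 1)) e
    rwa [← Module.End.mul_apply, ← Module.End.mul_apply, ← pow_succ, Nat.sub_add_cancel hr.out.one_lt.le,
      hgr, hgr] at this
  have hH : Homog g i U := by rw [hi]; exact homog_of_free hr0 hU (fun v _ => hgr v) hfree
  have hi0 := hH.pos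
  by_cases hrad : U ⊓ B.orthogonal U = ⊥
  swap
  · have h1 : finrank F ↥(U ⊓ B.orthogonal U) ≠ 0 := fun e => hrad (Submodule.finrank_eq_zero.1 e)
    have hle := Nat.le_of_dvd (Nat.pos_of_ne_zero h1)
      (hH.dvd _ (perp_inv' hiso hinj hU hU) inf_le_left)
    have hall : U ⊓ B.orthogonal U = U := Submodule.eq_of_le_of_finrank_le inf_le_left (by omega)
    intro u hu v hv
    rw [← hall] at hv
    exact (mem_perp.1 hv).2 u hu
  exfalso
  obtain ⟨gs, -, hgs, hkill⟩ := exists_killing_list (g := g) hr0 hi hg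
  have hfac : ∀ P : F[X], Irreducible P → P.Monic → P.natDegree = i →
      ∀ u ∈ U, u ≠ 0 → aeval g P u = 0 → False := by
    intro P hPi hPm hPd u hu hu0 hPu
    have hUK : U ≤ LinearMap.ker (aeval g P) := by
      have hne : U ⊓ LinearMap.ker (aeval g P) ≠ ⊥ := fun e =>
        hu0 ((Submodule.mem_bot F).1 (e ▸ ⟨hu, LinearMap.mem_ker.2 hPu⟩))
      have hle := Nat.le_of_dvd (Nat.pos_of_ne_zero fun e => hne (Submodule.finrank_eq_zero.1 e))
        (hH.dvd _ (inv_inf hU (ker_inv P)) inf_le_left)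
      have hall : U ⊓ LinearMap.ker (aeval g P) = U := Submodule.eq_of_le_of_finrank_le inf_le_left (by omega)
      exact fun x hx => (hall.symm.le hx).2
    have hstar : ∀ w ∈ U, aeval (g ^ (r - 1)) P w = 0 := by
      intro w hw
      by_contra h0
      have hmem : aeval (g ^ (r - 1)) P w ∈ U := by
        rw [show g ^ (r - 1) = aeval g ((X : F[X]) ^ (r - 1)) by rw [map_pow, aeval_X], ← aeval_comp]
        exact aeval_mem hU _ hw
      refine h0 ((Submodule.mem_bot F).1 (hrad ▸ mem_perp.2 ⟨hmem, fun y hy => hB _ _ ?_⟩))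
      rw [← adjoint_aeval hiso hr.out.pos hg P w y, LinearMap.mem_ker.1 (hUK hy), map_zero]
    have hdiv : P ∣ P.comp (X ^ (r - 1)) := by
      by_contra hnd
      obtain ⟨a, b, hab⟩ := hPi.coprime_iff_not_dvd.2 hnd
      have e := congrArg (fun Q => aeval g Q u) hab
      have hcomp : aeval g (P.comp (X ^ (r - 1))) u = 0 := by
        rw [aeval_comp, map_pow, aeval_X]
        exact hstar u hu
      simp only [map_add, map_mul, map_one, LinearMap.add_apply, Module.End.mul_apply, Module.End.one_apply,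
        hPu, hcomp, map_zero, add_zero] at e
      exact hu0 e.symm
    have hPne : P ≠ X - C 1 := fun e => hu0 (hfree u hu (by
      rw [e, map_sub, aeval_X, map_one, map_one, LinearMap.sub_apply, Module.End.one_apply, sub_eq_zero] at hPu
      exact hPu))
    have hPdvd : P ∣ X ^ r - C 1 := by
      by_contra hnd
      obtain ⟨a, b, hab⟩ := hPi.coprime_iff_not_dvd.2 hnd
      have e := congrArg (fun Q => aeval g Q u) hab
      simp only [map_add, map_mul, map_one, map_sub, aeval_X_pow, LinearMap.add_apply, Module.End.mul_apply,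
        Module.End.one_apply, LinearMap.sub_apply, hPu, hgr, sub_self, map_zero, add_zero] at e
      exact hu0 e.symm
    have hF : StarFactor.Fac r P := ⟨hPm, hPi, hPdvd, hPne⟩
    have hdeg : ∀ x : F[X], StarFactor.Fac r x → x.natDegree = i := fun x hx => by
      rw [hi]; exact SpectrumFactors.fac_degree hr.out hr0 hx.monic hx.irr hx.dvd hx.ne
    have : Fact (Irreducible P) := ⟨hPi⟩
    have h1 := StarFactor.aeval_star (r := r) hPm.ne_zero
    have h2 : aeval (AdjoinRoot.root P ^ (r - 1)) P = 0 := by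
      have h3 : aeval (AdjoinRoot.root P) (P.comp (X ^ (r - 1))) = 0 := by
        obtain ⟨w, hw⟩ := hdiv
        rw [hw, map_mul, AdjoinRoot.aeval_eq, AdjoinRoot.mk_self, zero_mul]
      rwa [aeval_comp, map_pow, aeval_X] at h3
    have hsF := (hF.star_fac hr0 hdeg).1
    have e1 := minpoly.eq_of_irreducible_of_monic hsF.irr h1 hsF.monic
    have e2 := minpoly.eq_of_irreducible_of_monic hPi h2 hPm
    have hev : Even i := (hF.star_eq_iff hr0 hr2 hdeg).1 (e1.trans e2.symm)
    exact Nat.not_even_iff_odd.2 hodd hev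
  have hne : U ≠ ⊥ := fun e => by rw [e, finrank_bot] at hUd; omega
  obtain ⟨u, hu, hu0⟩ := Submodule.exists_mem_ne_zero_of_ne_bot hne
  have hk := hkill U hU hfree u hu
  clear hkill
  induction gs generalizing u with
  | nil => simp at hk; exact hu0 hk
  | cons P gs ih =>
    by_cases hin : aeval g gs.prod u = 0
    · exact ih (fun Q hQ => hgs Q (List.mem_cons_of_mem _ hQ)) u hu hu0 hin
    rw [List.prod_cons, map_mul, Module.End.mul_apply] at hk
    obtain ⟨hPm, hPd, hPi⟩ := hgs P List.mem_cons_self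
    exact hfac P hPi hPm hPd _ (aeval_mem hU _ hu) hin hk

omit [FiniteDimensional F V] in
/-- the factors of even degree have constant term one -/
theorem coeff_zero_eq_one (hr0 : (r : F) ≠ 0) (hi : i = orderOf ((Fintype.card F : ℕ) : ZMod r)) (hev : Even i)
    {P : F[X]} (hm : P.Monic) (hd : P ∣ X ^ r - C 1) (hdeg : P.natDegree = i) : P.coeff 0 = 1 := by
  have hi0 := order_pos hr0 hi
  have hnd : ¬ r ∣ Fintype.card F - 1 := fun h => by
    have h1 : (Fintype.card F : ZMod r) = ((1 : ℕ) : ZMod r) :=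
      (ZMod.natCast_eq_natCast_iff _ _ _).2 ((Nat.modEq_iff_dvd' Fintype.card_pos).2 h).symm
    rw [hi, h1, Nat.cast_one, orderOf_one] at hev
    exact absurd hev (by decide)
  have h := Matrix.det_eq_sign_charpoly_coeff (StarFactor.comp P hm.ne_zero)
  have hdim : Even (AdjoinRoot.powerBasis hm.ne_zero).dim := by rw [AdjoinRoot.powerBasis_dim, hdeg]; exact hev
  rw [StarFactor.charpoly_comp P hm, Fintype.card_fin, hdim.neg_one_pow, one_mul] at h
  rw [← h]
  refine Cfsg.Agent.Forms.Elusive.eq_one_of_pow_eq_one (r := r) hnd ?_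
  rw [← Matrix.det_pow, StarFactor.comp_pow r hm.ne_zero hd, Matrix.det_one]

theorem split_invariant (hnd : B.Nondegenerate) (hB : B.IsRefl) (hiso : ∀ u v, B (g u) (g v) = B u v)
    (hr0 : (r : F) ≠ 0) (hg : g ^ r = 1) (hi : i = orderOf ((Fintype.card F : ℕ) : ZMod r))
    {W : Submodule F V} (hWi : W.map g ≤ W) (hI : IsoOn B W) :
    ∃ (D : Submodule F V) (l j : ℕ), D ≤ W ∧ Disjoint (fixSp g) D ∧ Homog g i D ∧ finrank F D = i * j ∧
      finrank F W = l + i * j ∧ 2 * l ≤ finrank F (fixSp g) := by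
  have hgr : ∀ v, (g ^ r) v = v := fun v => by rw [hg]; rfl
  obtain ⟨D, hDW, -, hd', hD, hsum⟩ := exists_free_part hr0 hgr hWi
  rw [← hi] at hD
  obtain ⟨j, hj⟩ := hD.dvd D hD.inv le_rfl
  obtain ⟨hF0, -⟩ := fix_free hnd hB hiso hr0 hi hg
  refine ⟨D, _, j, hDW, hd', hD, hj, by rw [← hsum, hj], ?_⟩
  exact two_le_of_iso hB hF0 inf_le_left fun u hu v hv => hI u hu.2 v hv.2

/-- isotropic invariant subspaces avoid the simple self-dual factors -/
theorem bound_invariant (hnd : B.Nondegenerate) (hB : B.IsRefl) (hiso : ∀ u v, B (g u) (g v) = B u v)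
    (hr0 : (r : F) ≠ 0) (hg : g ^ r = 1) (hi : i = orderOf ((Fintype.card F : ℕ) : ZMod r)) (hev : Even i)
    {W D : Submodule F V} (hI : IsoOn B W) (hDW : D ≤ W) (hD : Homog g i D) (hd : Disjoint (fixSp g) D)
    (T : Multiset F[X]) (hT : ∀ P ∈ T, finrank F (LinearMap.ker (aeval g P)) ≤ i) (hT1 : T.prod.eval 1 ≠ 0) :
    2 * finrank F D + finrank F (fixSp g) + finrank F (LinearMap.ker (aeval g T.prod)) ≤ finrank F V := by
  classical
  have hi0 := hD.pos
  have hsingle : ∀ P ∈ T, ∀ v ∈ D, aeval g P v = 0 → v = 0 := by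
    intro P hP v hv hPv
    by_contra hv0
    set K := LinearMap.ker (aeval g P)
    have hne : D ⊓ K ≠ ⊥ := fun e => hv0 ((Submodule.mem_bot F).1 (e ▸ ⟨hv, LinearMap.mem_ker.2 hPv⟩))
    have h1 := Nat.le_of_dvd (Nat.pos_of_ne_zero fun e => hne (Submodule.finrank_eq_zero.1 e))
      (hD.dvd _ (inv_inf hD.inv (ker_inv P)) inf_le_left)
    have hall : D ⊓ K = K := Submodule.eq_of_le_of_finrank_le inf_le_right ((hT P hP).trans h1)
    have hKW : K ≤ W := fun x hx => hDW (hall.symm.le hx).1
    refine hv0 (hnd.1 v fun y => ?_)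
    obtain ⟨a, ha, b, hb, rfl⟩ := Submodule.mem_sup.1
      ((isCompl_ker_range hr0 hi hg P).sup_eq_top.symm ▸ Submodule.mem_top : y ∈ K ⊔ LinearMap.range (aeval g P))
    obtain ⟨w, rfl⟩ := hb
    rw [map_add, hI v (hDW hv) a (hKW ha), ker_perp_range hiso hi hi0 hev hg hPv w, add_zero]
  have hinjM : ∀ v ∈ D, aeval g T.prod v = 0 → v = 0 := by
    clear hT1
    induction T using Multiset.induction with
    | empty => intro v _ h; simpa using h
    | cons P T ih =>
      intro v hv h
      rw [Multiset.prod_cons, map_mul, Module.End.mul_apply] at h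
      exact ih (fun Q hQ => hT Q (Multiset.mem_cons_of_mem hQ))
        (fun Q hQ => hsingle Q (Multiset.mem_cons_of_mem hQ)) v hv
        (hsingle P (Multiset.mem_cons_self _ _) _ (aeval_mem hD.inv _ hv) h)
  have hinj1 : ∀ v ∈ D, aeval g (X - C (1 : F)) v = 0 → v = 0 := fun v hv h =>
    Submodule.disjoint_def.1 hd v (by rw [fixSp_eq_ker]; exact LinearMap.mem_ker.2 h) hv
  have horth : ∀ (P : F[X]), (∀ v ∈ D, aeval g P v = 0 → v = 0) → ∀ u, aeval g P u = 0 →
      ∀ w ∈ D, B u w = 0 := by
    intro P hP u hu w hw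
    let φ : D →ₗ[F] D := (aeval g P).restrict fun x hx => aeval_mem hD.inv P hx
    have hφ : Function.Injective φ := (injective_iff_map_eq_zero φ).2 fun x hx =>
      Subtype.ext (hP x x.2 (congrArg Subtype.val hx :))
    obtain ⟨⟨y, hy⟩, e⟩ := LinearMap.injective_iff_surjective.1 hφ ⟨w, hw⟩
    have e2 : aeval g P y = w := congrArg Subtype.val e
    rw [← e2]
    exact ker_perp_range hiso hi hi0 hev hg hu y
  set K := LinearMap.ker (aeval g T.prod) with hK
  have hcop : IsCoprime (X - C (1 : F)) T.prod :=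
    (irreducible_X_sub_C (1 : F)).coprime_iff_not_dvd.2 fun h => hT1 (dvd_iff_isRoot.1 h)
  have hdFK : Disjoint (fixSp g) K := by
    rw [fixSp_eq_ker]; exact disjoint_ker_aeval_of_isCoprime g hcop
  have hdD : Disjoint D (fixSp g ⊔ K) := by
    rw [fixSp_eq_ker, hK, sup_ker_aeval_eq_ker_aeval_mul_of_coprime g hcop, Submodule.disjoint_def]
    intro v hv hv'
    rw [LinearMap.mem_ker, map_mul, Module.End.mul_apply] at hv'
    exact hinjM v hv (hinj1 _ (aeval_mem hD.inv _ hv) hv')
  have hle : D ⊔ (fixSp g ⊔ K) ≤ B.orthogonal D := by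
    refine sup_le (fun x hx y hy => hI y (hDW hy) x (hDW hx)) (sup_le (fun x hx y hy => ?_) fun x hx y hy => ?_)
    · rw [fixSp_eq_ker, LinearMap.mem_ker] at hx
      exact hB _ _ (horth _ hinj1 x hx y hy)
    · exact hB _ _ (horth _ hinjM x (LinearMap.mem_ker.1 hx) y hy)
  have h1 := Submodule.finrank_mono hle
  rw [finrank_sup_of_disjoint hdD, finrank_sup_of_disjoint hdFK, LinearMap.BilinForm.finrank_orthogonal hnd] at h1
  have := Submodule.finrank_le D
  omega

end Cfsg.Agent.Classical.IsoInvariant.Refl
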