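import Mathlib
import Cfsg.Agent.Lib.Classical.IsoInvariant.Refl
import Cfsg.Agent.Lib.Forms.Disc

/-!
# Nondegenerate subspaces of a symmetric form with a prescribed type
-/

set_option autoImplicit false
set_option linter.unusedSectionVars false

namespace Cfsg.Agent.Classical.IsoInvariant.NdType

open Module
open Cfsg.Agent.Forms
open Cfsg.Agent.Forms.Elusive Cfsg.Agent.Forms.Elusive.Pieces

variable {F : Type*} [Field F] [Fintype F] {V : Type*} [AddCommGroup V] [Module F V] [FiniteDimensional F V]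
  {B : LinearMap.BilinForm F V}

/-- a totally isotropic subspace of half the dimension -/
def Plus (B : LinearMap.BilinForm F V) (W : Submodule F V) : Prop :=
  ∃ U : Submodule F V, U ≤ W ∧ IsoOn B U ∧ 2 * finrank F U = finrank F W

theorem nondegOn {W : Submodule F V} (h : ∀ v ∈ W, v ≠ 0 → ∃ u ∈ W, B v u ≠ 0) :
    Bases.NondegOn B W := fun w hw hz => by
  by_contra h0
  obtain ⟨u, hu, hne⟩ := h w hw h0
  exact hne (hz u hu)

theorem ndOn {W : Submodule F V} (h : Bases.NondegOn B W) : NdOn B W := fun v hv hv0 => by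
  by_contra hcon
  push Not at hcon
  exact hv0 (h v hv hcon)

theorem disjoint_of_orth (hB : B.IsRefl) {U W : Submodule F V} (hU : NdOn B U) (h : OrthTo B U W) :
    Disjoint U W := by
  rw [Submodule.disjoint_def]
  intro v hv hv'
  by_contra h0
  obtain ⟨u, hu, huv⟩ := hU v hv h0
  exact huv (hB _ _ (h u hu v hv'))

theorem nd_sup (hB : B.IsRefl) {U W : Submodule F V} (hU : NdOn B U) (hW : NdOn B W) (h : OrthTo B U W) :
    NdOn B (U ⊔ W) := by
  intro v hv hv0
  obtain ⟨a, ha, b, hb, rfl⟩ := Submodule.mem_sup.1 hv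
  by_cases ha0 : a = 0
  · subst ha0
    rw [zero_add] at hv0 ⊢
    obtain ⟨u, hu, hbu⟩ := hW b hb hv0
    exact ⟨u, Submodule.mem_sup_right hu, hbu⟩
  · obtain ⟨u, hu, hau⟩ := hU a ha ha0
    refine ⟨u, Submodule.mem_sup_left hu, ?_⟩
    rw [map_add, LinearMap.add_apply, hB _ _ (h u hu b hb), add_zero]
    exact hau

theorem nd_right (hB : B.IsRefl) {U W : Submodule F V} (hsum : NdOn B (U ⊔ W)) (h : OrthTo B U W) :
    NdOn B W := by
  intro v hv hv0
  obtain ⟨u, hu, hvu⟩ := hsum v (Submodule.mem_sup_right hv) hv0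
  obtain ⟨a, ha, b, hb, rfl⟩ := Submodule.mem_sup.1 hu
  refine ⟨b, hb, ?_⟩
  rwa [map_add, hB _ _ (h a ha v hv), zero_add] at hvu

theorem perp_nd (hB : B.IsRefl) {D T : Submodule F V} (hD : NdOn B D) (hT : NdOn B T) (hTD : T ≤ D) :
    NdOn B (D ⊓ B.orthogonal T) ∧ OrthTo B T (D ⊓ B.orthogonal T) ∧ T ⊔ (D ⊓ B.orthogonal T) = D ∧
      finrank F T + finrank F ↥(D ⊓ B.orthogonal T) = finrank F D := by
  have ho : OrthTo B T (D ⊓ B.orthogonal T) := fun p hp y hy => (mem_perp.1 hy).2 p hp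
  have h1 := Refl.perp_dim hB hD hTD
  have hd := disjoint_of_orth hB hT ho
  have hsup : T ⊔ (D ⊓ B.orthogonal T) = D := Submodule.eq_of_le_of_finrank_le (sup_le hTD inf_le_left)
    (by rw [finrank_sup_of_disjoint hd]; omega)
  exact ⟨nd_right hB (hsup.symm ▸ hD) ho, ho, hsup, by omega⟩

/-! ### Discriminants -/

/-- an orthogonal basis with the given product of values -/
def HasDisc (B : LinearMap.BilinForm F V) (W : Submodule F V) (δ : F) : Prop :=
  ∃ (n : ℕ) (b : Fin n → V), Submodule.span F (Set.range b) = W ∧ (∀ a a', a ≠ a' → B (b a) (b a') = 0) ∧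
    (∀ a, B (b a) (b a) ≠ 0) ∧ ∏ a, B (b a) (b a) = δ

theorem HasDisc.ne_zero {W : Submodule F V} {δ : F} (h : HasDisc B W δ) : δ ≠ 0 := by
  obtain ⟨n, b, -, -, h1, rfl⟩ := h
  exact Finset.prod_ne_zero_iff.2 fun a _ => h1 a

theorem HasDisc.sup (hB : B.IsRefl) {U W : Submodule F V} {δ ε : F} (hU : HasDisc B U δ) (hW : HasDisc B W ε)
    (h : OrthTo B U W) : HasDisc B (U ⊔ W) (δ * ε) := by
  obtain ⟨n, b, hbs, hbo, hb0, rfl⟩ := hU
  obtain ⟨l, b', hbs', hbo', hb0', rfl⟩ := hW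
  have hmem : ∀ a a', B (b a) (b' a') = 0 := fun a a' =>
    h _ (hbs.le (Submodule.subset_span ⟨a, rfl⟩)) _ (hbs'.le (Submodule.subset_span ⟨a', rfl⟩))
  refine ⟨n + l, Fin.append b b', ?_, ?_, ?_, ?_⟩
  · rw [← hbs, ← hbs', ← Submodule.span_union]
    congr 1
    ext x
    simp only [Set.mem_range, Set.mem_union]
    refine ⟨?_, ?_⟩
    · rintro ⟨a, rfl⟩
      refine Fin.addCases (fun a => ?_) (fun a => ?_) a
      · exact Or.inl ⟨a, (Fin.append_left b b' a).symm⟩
      · exact Or.inr ⟨a, (Fin.append_right b b' a).symm⟩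
    · rintro (⟨a, rfl⟩ | ⟨a, rfl⟩)
      · exact ⟨_, Fin.append_left b b' a⟩
      · exact ⟨_, Fin.append_right b b' a⟩
  · intro a a'
    refine Fin.addCases (fun a => ?_) (fun a => ?_) a <;> refine Fin.addCases (fun a' => ?_) (fun a' => ?_) a' <;>
      intro hne <;> simp only [Fin.append_left, Fin.append_right]
    · exact hbo a a' fun e => hne (by rw [e])
    · exact hmem a a'
    · exact hB _ _ (hmem a' a)
    · exact hbo' a a' fun e => hne (by rw [e])
  · intro a
    refine Fin.addCases (fun a => ?_) (fun a => ?_) a <;> simp only [Fin.append_left, Fin.append_right]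
    · exact hb0 a
    · exact hb0' a
  · rw [Fin.prod_univ_add]
    simp only [Fin.append_left, Fin.append_right]

theorem exists_hasDisc (h2 : (2 : F) ≠ 0) (hS : B.IsSymm) {W : Submodule F V} (hW : NdOn B W) :
    ∃ δ, HasDisc B W δ := by
  rcases Nat.eq_zero_or_pos (finrank F W) with h0 | hpos
  · refine ⟨1, 0, Fin.elim0, ?_, fun a => a.elim0, fun a => a.elim0, by simp⟩
    rw [Submodule.finrank_eq_zero.1 h0]
    simp [Set.range_eq_empty]
  obtain ⟨n, hn⟩ : ∃ n, finrank F W = n + 1 := ⟨finrank F W - 1, by omega⟩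
  obtain ⟨α, hα⟩ := FiniteField.exists_nonsquare (F := F) (fun h => h2 (by
    have : CharP F 2 := h ▸ ringChar.charP F
    exact CharTwo.two_eq_zero))
  have hα0 : α ≠ 0 := fun h => hα (h ▸ ⟨0, by simp⟩)
  obtain ⟨v, hv, hvo, hv1, hvl⟩ := Bases.exists_symm_normal h2 B hS α hα W (nondegOn hW) hn
  have hne : ∀ a, B (v a) (v a) ≠ 0 := fun a => by
    by_cases ha : a = Fin.last n
    · rcases hvl with h | h <;> rw [ha, h]
      exacts [one_ne_zero, hα0]
    · rw [hv1 a ha]; exact one_ne_zero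
  refine ⟨_, n + 1, v, ?_, hvo, hne, rfl⟩
  refine Submodule.eq_of_le_of_finrank_eq (Submodule.span_le.2 (by rintro _ ⟨a, rfl⟩; exact hv a)) ?_
  rw [finrank_span_eq_card (Bases.linearIndependent_of_orth hvo hne), Fintype.card_fin, hn]

theorem plus_iff (h2 : (2 : F) ≠ 0) (hS : B.IsSymm) {W : Submodule F V} (hW : NdOn B W) {δ : F}
    (h : HasDisc B W δ) {k : ℕ} (hk : finrank F W = 2 * k) :
    Plus B W ↔ IsSquare ((-1 : F) ^ k * δ) := by
  classical
  obtain ⟨n, b, hbs, hbo, hb0, rfl⟩ := h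
  have hmem : ∀ a, b a ∈ W := fun a => hbs.le (Submodule.subset_span ⟨a, rfl⟩)
  let b' : Fin n → W := fun a => ⟨b a, hmem a⟩
  set C := B.restrict W with hCdef
  have hC : ∀ x y : W, C x y = B (x : V) (y : V) := fun x y => rfl
  have hli : LinearIndependent F b' := LinearIndependent.of_comp W.subtype
    (Bases.linearIndependent_of_orth hbo hb0)
  have hspan : ⊤ ≤ Submodule.span F (Set.range b') := by
    intro x _
    have hx : (x : V) ∈ Submodule.span F (Set.range (W.subtype ∘ b')) := hbs.ge x.2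
    rw [Set.range_comp, Submodule.span_image] at hx
    obtain ⟨y, hy, hyx⟩ := hx
    exact Subtype.ext hyx ▸ hy
  let c : Basis (Fin n) F W := Basis.mk hli hspan
  have hg : Disc.gram C c = Matrix.diagonal fun a => B (b a) (b a) := by
    ext a a'
    rcases eq_or_ne a a' with rfl | hne
    · simp [Disc.gram, c, hC, b']
    · simp [Disc.gram, c, hC, b', hne, hbo a a' hne]
  have hCS : C.IsSymm := ⟨fun x y => by rw [hC, hC, hS.eq]⟩
  have key : ∀ x, (∀ y, C x y = 0) → x = 0 := fun x hx => by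
    by_contra h0
    obtain ⟨u, hu, hne⟩ := hW x x.2 fun e => h0 (Subtype.ext e)
    exact hne (hx ⟨u, hu⟩)
  have hCnd : C.Nondegenerate := ⟨key, fun y hy => key y fun x => by rw [hCS.eq]; exact hy x⟩
  have h1 := Disc.exists_lagrangian_iff h2 C hCS hCnd hk c
  rw [hg, Matrix.det_diagonal] at h1
  rw [← h1]
  constructor
  · rintro ⟨U, hU, hI, hd⟩
    refine ⟨U.comap W.subtype, ?_, fun x hx y hy => hI _ hx _ hy⟩
    rw [(Submodule.comapSubtypeEquivOfLe hU).finrank_eq]
    omega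
  · rintro ⟨X, hX, hXX⟩
    refine ⟨X.map W.subtype, Submodule.map_subtype_le W X, ?_, ?_⟩
    · rintro _ ⟨x, hx, rfl⟩ _ ⟨y, hy, rfl⟩
      exact hXX x hx y hy
    · rw [Submodule.finrank_map_subtype_eq, hX, hk]

theorem exists_family (h2 : (2 : F) ≠ 0) (hS : B.IsSymm) {c : F} (hc : c ≠ 0) :
    ∀ (l : ℕ) {E : Submodule F V}, NdOn B E → l + 1 < finrank F E →
      ∃ L, L ≤ E ∧ NdOn B L ∧ finrank F L = l + 1 ∧ HasDisc B L c := by
  have hB : B.IsRefl := fun x y h => by rw [hS.eq, h]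
  have hline : ∀ (u : V) (a : F), B u u = a → a ≠ 0 →
      NdOn B (F ∙ u) ∧ finrank F (F ∙ u) = 1 ∧ HasDisc B (F ∙ u) a := by
    intro u a hu ha
    have hu0 : u ≠ 0 := fun e => ha (by rw [← hu, e]; simp)
    refine ⟨fun v hv hv0 => ?_, finrank_span_singleton hu0, 1, fun _ => u, ?_,
      fun a a' h => absurd (Subsingleton.elim a a') h, fun _ => by rw [hu]; exact ha, by simp [hu]⟩
    · obtain ⟨t, rfl⟩ := Submodule.mem_span_singleton.1 hv
      refine ⟨u, Submodule.mem_span_singleton_self u, ?_⟩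
      rw [map_smul, LinearMap.smul_apply, hu, smul_eq_mul]
      exact mul_ne_zero (fun e => hv0 (by rw [e, zero_smul])) ha
    · congr 1
      ext x
      simp [eq_comm]
  intro l
  induction l with
  | zero =>
    intro E hE hd
    obtain ⟨u, hu, huc, -⟩ := Bases.exists_symm_unit h2 B hS E (nondegOn hE) (by omega) c hc
    obtain ⟨h1, h3, h4⟩ := hline u c huc hc
    exact ⟨F ∙ u, (Submodule.span_singleton_le_iff_mem _ _).2 hu, h1, h3, h4⟩
  | succ l ih =>
    intro E hE hd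
    obtain ⟨u, hu, hu1, -⟩ := Bases.exists_symm_unit h2 B hS E (nondegOn hE) (by omega) 1 one_ne_zero
    obtain ⟨h1, h3, h4⟩ := hline u 1 hu1 one_ne_zero
    have hle : (F ∙ u) ≤ E := (Submodule.span_singleton_le_iff_mem _ _).2 hu
    obtain ⟨hE', ho, -, hdim⟩ := perp_nd hB hE h1 hle
    obtain ⟨L, hL, hLnd, hLd, hLdisc⟩ := ih hE' (by omega)
    have ho' : OrthTo B (F ∙ u) L := fun x hx y hy => ho x hx y (hL hy)
    refine ⟨(F ∙ u) ⊔ L, sup_le hle (hL.trans inf_le_left), nd_sup hB h1 hLnd ho', ?_, ?_⟩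
    · rw [finrank_sup_of_disjoint (disjoint_of_orth hB h1 ho'), h3, hLd]; omega
    · simpa using h4.sup hB hLdisc ho'

/-- completing a nondegenerate subspace to one of either type -/
theorem exists_sum_type (h2 : (2 : F) ≠ 0) (hS : B.IsSymm) {E U : Submodule F V} (hE : NdOn B E) (hU : NdOn B U)
    (ho : OrthTo B E U) {l k : ℕ} (hl0 : 0 < l) (hl : l < finrank F E) (hk : l + finrank F U = 2 * k)
    (want : Prop) :
    ∃ L, L ≤ E ∧ NdOn B (L ⊔ U) ∧ finrank F ↥(L ⊔ U) = 2 * k ∧ (Plus B (L ⊔ U) ↔ want) := by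
  classical
  have hB : B.IsRefl := fun x y h => by rw [hS.eq, h]
  obtain ⟨ε, hε⟩ := exists_hasDisc h2 hS hU
  have hε0 := hε.ne_zero
  obtain ⟨α, hα⟩ := FiniteField.exists_nonsquare (F := F) (fun h => h2 (by
    have : CharP F 2 := h ▸ ringChar.charP F
    exact CharTwo.two_eq_zero))
  have hα0 : α ≠ 0 := fun h => hα (h ▸ ⟨0, by simp⟩)
  set t : F := if want then 1 else α with ht
  have ht0 : t ≠ 0 := by rw [ht]; split_ifs <;> first | exact one_ne_zero | exact hα0
  have hs0 : (-1 : F) ^ k ≠ 0 := pow_ne_zero _ (neg_ne_zero.2 one_ne_zero)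
  set c : F := t * ((-1 : F) ^ k * ε)⁻¹ with hcdef
  obtain ⟨L, hL, hLnd, hLd, hLdisc⟩ := exists_family h2 hS (c := c)
    (mul_ne_zero ht0 (inv_ne_zero (mul_ne_zero hs0 hε0))) (l - 1) hE (by omega)
  have ho' : OrthTo B L U := fun x hx y hy => ho x (hL hx) y hy
  have hnd := nd_sup hB hLnd hU ho'
  have hd : finrank F ↥(L ⊔ U) = 2 * k := by
    rw [finrank_sup_of_disjoint (disjoint_of_orth hB hLnd ho'), hLd]; omega
  refine ⟨L, hL, hnd, hd, (plus_iff h2 hS hnd (hLdisc.sup hB hε ho') hd).trans ?_⟩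
  have e : (-1 : F) ^ k * (c * ε) = t := by
    rw [hcdef]; field_simp
  rw [e, ht]
  split_ifs with hw
  · exact iff_of_true ⟨1, by simp⟩ hw
  · exact iff_of_false hα hw

end Cfsg.Agent.Classical.IsoInvariant.NdType
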