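import Mathlib
import Cfsg.Prelude.Def_GeometricClasses
import Cfsg.Agent.Lib.Classical.IsoInvariant.NdType
import Cfsg.Agent.Lib.Classical.OrthPrimeClasses
import Cfsg.Agent.Lib.Forms.Reflections
import Cfsg.Agent.Lib.Forms.Witt
import Cfsg.Agent.Lib.Forms.Elusive.Count

/-!
# Nondegenerate subspaces of an orthogonal space: isometry, orbits, divisibility of their number
-/

set_option autoImplicit false
set_option linter.unusedSectionVars false

namespace Cfsg.Agent.Classical.IsoInvariant.EvenDim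

open Module
open Cfsg.Agent.Forms
open Cfsg.Agent.Forms.Elusive Cfsg.Agent.Forms.Elusive.Pieces
open Cfsg.Agent.Forms.Reflections (act act_mul act_one act_apply act_map act_polar)
open Cfsg.Agent.Forms.QuadStd (isoOfEquiv isoOfEquiv_mulVec iso_ext)
open Cfsg.Agent.Classical.IsoInvariant.NdType

variable {F : Type*} [Field F] [Fintype F] {ι : Type} [Fintype ι] [DecidableEq ι]
  {Q : QuadraticForm F (ι → F)}

/-- the polar form -/
noncomputable abbrev pB (Q : QuadraticForm F (ι → F)) : LinearMap.BilinForm F (ι → F) :=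
  QuadraticMap.polarBilin Q

theorem pB_symm (Q : QuadraticForm F (ι → F)) : (pB Q).IsSymm :=
  ⟨fun u v => QuadraticMap.polar_comm _ u v⟩

theorem pB_refl (Q : QuadraticForm F (ι → F)) : (pB Q).IsRefl := fun x y h => by rw [(pB_symm Q).eq, h]

theorem pB_self (v : ι → F) : pB Q v v = 2 * Q v := by
  rw [QuadraticMap.polarBilin_apply_apply, QuadraticMap.polar_self, nsmul_eq_mul, Nat.cast_ofNat]

theorem nd_iff (W : Submodule F (ι → F)) :
    Cfsg.Geo.IsNondegenerateOn (QuadraticMap.polar ⇑Q) W ↔ NdOn (pB Q) W := by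
  refine ⟨fun h v hv hv0 => (h v hv hv0).2, fun h v hv hv0 => ?_⟩
  obtain ⟨u, hu, huv⟩ := h v hv hv0
  refine ⟨⟨u, hu, ?_⟩, u, hu, huv⟩
  rw [QuadraticMap.polar_comm]
  exact huv

theorem iso_iff (h2 : (2 : F) ≠ 0) (W : Submodule F (ι → F)) : IsoOn (pB Q) W ↔ ∀ w ∈ W, Q w = 0 := by
  refine ⟨fun h w hw => ?_, fun h u hu v hv => ?_⟩
  · have h1 := h w hw w hw
    rw [pB_self] at h1
    exact (mul_eq_zero.1 h1).resolve_left h2
  · rw [QuadraticMap.polarBilin_apply_apply, QuadraticMap.polar, h _ (W.add_mem hu hv), h u hu, h v hv, sub_zero,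
      sub_zero]

theorem type_iff (h2 : (2 : F) ≠ 0) (W : Submodule F (ι → F)) :
    Cfsg.Geo.IsPlusTypeOn ⇑Q W ↔ Plus (pB Q) W :=
  exists_congr fun U => and_congr_right fun _ => and_congr_left fun _ => (iso_iff h2 U).symm

/-- subspaces with the same dimension and discriminant class are isometric -/
theorem isometric_of_disc (h2 : (2 : F) ≠ 0) {W W' : Submodule F (ι → F)} (hW : NdOn (pB Q) W)
    (hW' : NdOn (pB Q) W') (hd : finrank F W = finrank F W') {δ δ' : F} (h : HasDisc (pB Q) W δ)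
    (h' : HasDisc (pB Q) W' δ') (hsq : IsSquare (δ * δ')) : Cfsg.Geo.AreIsometricFor ⇑Q W W' := by
  classical
  have hS := pB_symm Q
  have mk : ∀ {U : Submodule F (ι → F)}, NdOn (pB Q) U → ∀ {ε : F}, HasDisc (pB Q) U ε →
      ((pB Q).restrict U).IsSymm ∧ ((pB Q).restrict U).Nondegenerate ∧
        ∃ (n : ℕ) (b : Basis (Fin n) F U), (Disc.gram ((pB Q).restrict U) b).det = ε := by
    intro U hU ε hε
    obtain ⟨n, b, hbs, hbo, hb0, rfl⟩ := hε
    set C := (pB Q).restrict U with hCdef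
    have hC : ∀ x y : U, C x y = pB Q (x : ι → F) (y : ι → F) := fun x y => rfl
    have hCS : C.IsSymm := ⟨fun x y => by rw [hC, hC, hS.eq]⟩
    have key : ∀ x, (∀ y, C x y = 0) → x = 0 := fun x hx => by
      by_contra h0
      obtain ⟨u, hu, hne⟩ := hU x x.2 fun e => h0 (Subtype.ext e)
      exact hne (hx ⟨u, hu⟩)
    refine ⟨hCS, ⟨key, fun y hy => key y fun x => by rw [hCS.eq]; exact hy x⟩, ?_⟩
    let b' : Fin n → U := fun a => ⟨b a, hbs.le (Submodule.subset_span ⟨a, rfl⟩)⟩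
    have hli : LinearIndependent F b' := LinearIndependent.of_comp U.subtype
      (Bases.linearIndependent_of_orth hbo hb0)
    have hspan : ⊤ ≤ Submodule.span F (Set.range b') := by
      intro x _
      have hx : (x : ι → F) ∈ Submodule.span F (Set.range (U.subtype ∘ b')) := hbs.ge x.2
      rw [Set.range_comp, Submodule.span_image] at hx
      obtain ⟨y, hy, hyx⟩ := hx
      exact Subtype.ext hyx ▸ hy
    refine ⟨n, Basis.mk hli hspan, ?_⟩
    have hg : Disc.gram C (Basis.mk hli hspan) = Matrix.diagonal fun a => pB Q (b a) (b a) := by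
      ext a a'
      rcases eq_or_ne a a' with rfl | hne
      · simp [Disc.gram, hC, b']
      · simpa [Disc.gram, hC, b', hne] using hbo a a' hne
    rw [hg, Matrix.det_diagonal]
  obtain ⟨hS1, hn1, n, b, hb⟩ := mk hW h
  obtain ⟨hS2, hn2, n', b', hb'⟩ := mk hW' h'
  obtain ⟨e, he⟩ := Disc.exists_isometry h2 _ hS1 hn1 _ hS2 hn2 hd b b' (by rw [hb, hb']; exact hsq)
  refine ⟨e, fun w => ?_⟩
  have h1 : pB Q (e w : ι → F) (e w : ι → F) = pB Q (w : ι → F) (w : ι → F) := he w w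
  rw [pB_self, pB_self] at h1
  exact mul_left_cancel₀ h2 h1

/-- the subgroup of isometries fixing a subspace -/
def stab (W : Submodule F (ι → F)) : Subgroup (Cfsg.isometryGroup F ⇑Q) where
  carrier := {g | W.map (act g) = W}
  mul_mem' := fun {g h} hg hh => by
    have e : act (g * h) = act g ∘ₗ act h := LinearMap.ext fun x => act_mul g h x
    show W.map (act (g * h)) = W
    rw [e, Submodule.map_comp, hh, hg]
  one_mem' := by
    have e : act (1 : Cfsg.isometryGroup F ⇑Q) = LinearMap.id := LinearMap.ext fun x => act_one x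
    show W.map (act 1) = W
    rw [e, Submodule.map_id]
  inv_mem' := fun {g} hg => by
    have e : act g⁻¹ ∘ₗ act g = LinearMap.id := LinearMap.ext fun x => by
      rw [LinearMap.comp_apply, ← act_mul, inv_mul_cancel, act_one, LinearMap.id_apply]
    show W.map (act g⁻¹) = W
    conv_lhs => rw [← (hg : W.map (act g) = W)]
    rw [← Submodule.map_comp, e, Submodule.map_id]

theorem act_inj (g : Cfsg.isometryGroup F ⇑Q) : Function.Injective (act g) := fun u v e => by
  have h := congrArg (act g⁻¹) e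
  rwa [← act_mul, ← act_mul, inv_mul_cancel, act_one, act_one] at h

theorem finrank_image (g : Cfsg.isometryGroup F ⇑Q) (U : Submodule F (ι → F)) :
    finrank F (U.map (act g)) = finrank F U :=
  (Submodule.equivMapOfInjective _ (act_inj g) U).finrank_eq.symm

theorem isometric_image (g : Cfsg.isometryGroup F ⇑Q) {W W₀ : Submodule F (ι → F)}
    (h : Cfsg.Geo.AreIsometricFor ⇑Q W W₀) : Cfsg.Geo.AreIsometricFor ⇑Q (W.map (act g)) W₀ := by
  obtain ⟨e, he⟩ := h
  let f := Submodule.equivMapOfInjective _ (act_inj g) W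
  refine ⟨f.symm.trans e, fun w => ?_⟩
  obtain ⟨v, rfl⟩ := f.surjective w
  rw [LinearEquiv.trans_apply, f.symm_apply_apply, he]
  exact (act_map g (v : ι → F)).symm

theorem nd_image (g : Cfsg.isometryGroup F ⇑Q) {W : Submodule F (ι → F)} (h : NdOn (pB Q) W) :
    NdOn (pB Q) (W.map (act g)) := by
  rintro _ ⟨v, hv, rfl⟩ hv0
  obtain ⟨u, hu, huv⟩ := h v hv fun e => hv0 (by rw [e, map_zero])
  exact ⟨act g u, ⟨u, hu, rfl⟩, by
    show QuadraticMap.polar Q (act g v) (act g u) ≠ 0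
    rwa [act_polar]⟩

theorem natCard_mul_stab (hQ : (QuadraticMap.polarBilin Q).Nondegenerate) {W₀ : Submodule F (ι → F)}
    (hW₀ : NdOn (pB Q) W₀) {m : ℕ} (hm : finrank F W₀ = m) :
    Nat.card {W : Submodule F (ι → F) // finrank F W = m ∧ NdOn (pB Q) W ∧ Cfsg.Geo.AreIsometricFor ⇑Q W W₀} *
      Nat.card (stab (Q := Q) W₀) = Nat.card (Cfsg.isometryGroup F ⇑Q) := by
  classical
  let Ω := {W : Submodule F (ι → F) // finrank F W = m ∧ NdOn (pB Q) W ∧ Cfsg.Geo.AreIsometricFor ⇑Q W W₀}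
  have hex : ∀ W : Ω, ∃ g : Cfsg.isometryGroup F ⇑Q, W₀.map (act g) = W.1 := by
    intro W
    obtain ⟨e, he⟩ := W.2.2.2
    obtain ⟨f, hf, hfW⟩ := Witt.witt_quad Q hQ W₀ (W.1.subtype ∘ₗ e.symm.toLinearMap)
      (W.1.subtype_injective.comp e.symm.injective) fun x => by
        show Q ((e.symm x : W.1) : ι → F) = _
        rw [← he, e.apply_symm_apply]
    refine ⟨isoOfEquiv _ f hf, Submodule.eq_of_le_of_finrank_eq ?_ (by rw [finrank_image, hm, W.2.1])⟩
    rintro _ ⟨w, hw, rfl⟩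
    rw [act_apply, isoOfEquiv_mulVec, hfW ⟨w, hw⟩]
    exact (e.symm ⟨w, hw⟩).2
  choose γ hγ using hex
  rw [← Nat.card_prod]
  refine Nat.card_eq_of_bijective (fun p : Ω × stab (Q := Q) W₀ => γ p.1 * (p.2 : Cfsg.isometryGroup F ⇑Q)) ⟨?_, ?_⟩
  · have himg : ∀ p : Ω × stab (Q := Q) W₀, W₀.map (act (γ p.1 * (p.2 : Cfsg.isometryGroup F ⇑Q))) = p.1.1 := by
      intro p
      have e : act (γ p.1 * (p.2 : Cfsg.isometryGroup F ⇑Q)) =
          act (γ p.1) ∘ₗ act (p.2 : Cfsg.isometryGroup F ⇑Q) := LinearMap.ext fun x => act_mul _ _ x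
      rw [e, Submodule.map_comp, (p.2.2 : W₀.map (act (p.2 : Cfsg.isometryGroup F ⇑Q)) = W₀), hγ]
    intro p q h
    have h1 : p.1 = q.1 := Subtype.ext (by rw [← himg p, ← himg q]; exact congrArg (fun g => W₀.map (act g)) h)
    refine Prod.ext h1 (Subtype.ext ?_)
    simp only [h1] at h
    exact mul_left_cancel h
  · intro g
    have hrefl : Cfsg.Geo.AreIsometricFor ⇑Q W₀ W₀ := ⟨LinearEquiv.refl F W₀, fun w => rfl⟩
    have hW : finrank F (W₀.map (act g)) = m ∧ NdOn (pB Q) (W₀.map (act g)) ∧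
        Cfsg.Geo.AreIsometricFor ⇑Q (W₀.map (act g)) W₀ :=
      ⟨by rw [finrank_image, hm], nd_image g hW₀, isometric_image g hrefl⟩
    refine ⟨(⟨_, hW⟩, ⟨(γ ⟨_, hW⟩)⁻¹ * g, ?_⟩), mul_inv_cancel_left _ _⟩
    have hg : W₀.map (act (γ ⟨_, hW⟩)) = W₀.map (act g) := hγ ⟨_, hW⟩
    show W₀.map (act ((γ ⟨_, hW⟩)⁻¹ * g)) = W₀
    generalize γ ⟨_, hW⟩ = γ₀ at hg ⊢
    have e : act (γ₀⁻¹ * g) = act γ₀⁻¹ ∘ₗ act g := LinearMap.ext fun x => act_mul _ _ x
    rw [e, Submodule.map_comp, ← hg, ← Submodule.map_comp, show act γ₀⁻¹ ∘ₗ act γ₀ = LinearMap.id from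
      LinearMap.ext fun x => by rw [LinearMap.comp_apply, ← act_mul, inv_mul_cancel, act_one, LinearMap.id_apply],
      Submodule.map_id]

/-- the isometries of an odd-dimensional orthogonal complement fix the subspace -/
theorem natCard_O_dvd_stab (hQ : (QuadraticMap.polarBilin Q).Nondegenerate) {e : ℕ}
    {W₀ : Submodule F (ι → F)} (hW₀ : NdOn (pB Q) W₀) (hd : finrank F W₀ + (2 * e + 1) = Fintype.card ι) :
    Nat.card (Cfsg.isometryGroup F ⇑(OrthForms.oddQ F e)) ∣ Nat.card (stab (Q := Q) W₀) := by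
  classical
  have hS := pB_symm Q
  have hB := pB_refl Q
  obtain ⟨hP, ho, hsup, hdim⟩ := perp_nd hB (ndOn_top hQ) hW₀ le_top
  set P := (⊤ : Submodule F (ι → F)) ⊓ (pB Q).orthogonal W₀ with hPdef
  rw [finrank_top, Module.finrank_pi] at hdim
  have hPd : finrank F P = 2 * e + 1 := by omega
  have hc : IsCompl W₀ P := ⟨disjoint_of_orth hB hW₀ ho, codisjoint_iff.2 hsup⟩
  let L : (Fin (2 * e + 1) → F) ≃ₗ[F] P := (Module.finBasisOfFinrankEq F P hPd).equivFun.symm
  let T : QuadraticForm F (Fin (2 * e + 1) → F) := Q.comp (P.subtype ∘ₗ L.toLinearMap)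
  have hT : ∀ x, T x = Q (L x : ι → F) := fun x => rfl
  have hTnd : (QuadraticMap.polarBilin T).Nondegenerate := by
    have hpol : ∀ x y, QuadraticMap.polarBilin T x y = pB Q (L x : ι → F) (L y : ι → F) := fun x y => by
      simp [QuadraticMap.polar, hT]
    have key : ∀ x, (∀ y, QuadraticMap.polarBilin T x y = 0) → x = 0 := fun x hx => by
      by_contra h0
      obtain ⟨u, hu, hxu⟩ := hP (L x : ι → F) (L x).2 fun e => h0 (L.map_eq_zero_iff.1 (Subtype.ext e))
      have := hx (L.symm ⟨u, hu⟩)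
      rw [hpol, L.apply_symm_apply] at this
      exact hxu this
    exact ⟨key, fun y hy => key y fun x => by rw [← hy x, hpol, hpol, hS.eq]⟩
  obtain ⟨c, hc0, f, hf⟩ := OrthPrimeClasses.exists_scale_odd (m := e) (by simp) hTnd
  let M : P ≃ₗ[F] (Unit ⊕ (Fin e ⊕ Fin e) → F) := L.symm.trans f
  have hM : ∀ y : P, Q (y : ι → F) = c * OrthForms.oddQ F e (M y) := fun y => by
    have h1 := hf (L.symm y)
    rw [hT, L.apply_symm_apply] at h1
    exact h1.symm
  let Φ := Submodule.prodEquivOfIsCompl W₀ P hc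
  let α : Cfsg.isometryGroup F ⇑(OrthForms.oddQ F e) → (P →ₗ[F] P) := fun h =>
    M.symm.toLinearMap ∘ₗ act h ∘ₗ M.toLinearMap
  have hα : ∀ h y, M (α h y) = act h (M y) := fun h y => M.apply_symm_apply _
  have hαmul : ∀ g h y, α (g * h) y = α g (α h y) := fun g h y => M.injective (by rw [hα, hα, hα, act_mul])
  have hαone : ∀ y, α 1 y = y := fun y => M.injective (by rw [hα, act_one])
  let β : Cfsg.isometryGroup F ⇑(OrthForms.oddQ F e) → ((ι → F) →ₗ[F] (ι → F)) := fun h =>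
    Φ.toLinearMap ∘ₗ LinearMap.prodMap LinearMap.id (α h) ∘ₗ Φ.symm.toLinearMap
  have hβ : ∀ h (a : W₀) (b : P), β h ((a : ι → F) + (b : ι → F)) = (a : ι → F) + (α h b : ι → F) := fun h a b => by
    have e1 : Φ.symm ((a : ι → F) + (b : ι → F)) = (a, b) := by
      rw [LinearEquiv.symm_apply_eq]; simp [Φ]
    simp [β, Φ]
  have hdec : ∀ v : ι → F, ∃ (a : W₀) (b : P), v = (a : ι → F) + (b : ι → F) := fun v =>
    ⟨(Φ.symm v).1, (Φ.symm v).2, by
      conv_lhs => rw [← Φ.apply_symm_apply v]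
      rfl⟩
  have hβmul : ∀ g h v, β (g * h) v = β g (β h v) := fun g h v => by
    obtain ⟨a, b, rfl⟩ := hdec v
    rw [hβ, hβ, hβ, hαmul]
  have hβone : ∀ v, β 1 v = v := fun v => by
    obtain ⟨a, b, rfl⟩ := hdec v
    rw [hβ, hαone]
  let εe : Cfsg.isometryGroup F ⇑(OrthForms.oddQ F e) → ((ι → F) ≃ₗ[F] (ι → F)) := fun h =>
    LinearEquiv.ofLinearMap (β h) (β h⁻¹) (LinearMap.ext fun v => by
        rw [LinearMap.comp_apply, ← hβmul, mul_inv_cancel, hβone, LinearMap.id_apply])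
      (LinearMap.ext fun v => by rw [LinearMap.comp_apply, ← hβmul, inv_mul_cancel, hβone, LinearMap.id_apply])
  have hεQ : ∀ h v, Q (εe h v) = Q v := fun h v => by
    show Q (β h v) = _
    obtain ⟨a, b, rfl⟩ := hdec v
    rw [hβ, QuadraticMap.map_add (⇑Q), QuadraticMap.map_add (⇑Q), hM, hM, hα, act_map]
    congr 1
    exact (ho a a.2 _ (α h b).2).trans (ho a a.2 _ b.2).symm
  let φ : Cfsg.isometryGroup F ⇑(OrthForms.oddQ F e) →* stab (Q := Q) W₀ :=
    { toFun := fun h => ⟨isoOfEquiv _ (εe h) (hεQ h), by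
        show W₀.map (act _) = W₀
        have e1 : ∀ a : W₀, act (isoOfEquiv (⇑Q) (εe h) (hεQ h)) (a : ι → F) = a := fun a => by
          rw [act_apply, isoOfEquiv_mulVec]
          show β h (a : ι → F) = a
          conv_lhs => rw [← add_zero (a : ι → F), ← Submodule.coe_zero (p := P)]
          rw [hβ, map_zero, Submodule.coe_zero, add_zero]
        refine le_antisymm ?_ fun a ha => ⟨a, ha, e1 ⟨a, ha⟩⟩
        rintro _ ⟨a, ha, rfl⟩
        rw [e1 ⟨a, ha⟩]; exact ha⟩
      map_one' := Subtype.ext (iso_ext fun v => by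
        rw [isoOfEquiv_mulVec]
        show β 1 v = _
        simp [hβone])
      map_mul' := fun g h => Subtype.ext (iso_ext fun v => by
        rw [Subgroup.coe_mul, QuadStd.mul_mulVec_iso, isoOfEquiv_mulVec, isoOfEquiv_mulVec, isoOfEquiv_mulVec]
        exact hβmul g h v) }
  refine Subgroup.card_dvd_of_injective φ fun g h heq => ?_
  have h1 : ∀ v, β g v = β h v := fun v => by
    have := congrArg (fun x : stab (Q := Q) W₀ => act (x : Cfsg.isometryGroup F ⇑Q) v) heq
    simp only [φ, MonoidHom.coe_mk, OneHom.coe_mk, act_apply, isoOfEquiv_mulVec] at this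
    exact this
  refine iso_ext fun x => ?_
  have h2' := h1 ((0 : W₀) + ((M.symm x : P) : ι → F))
  rw [hβ, hβ, add_right_inj] at h2'
  have h3 := congrArg M (Subtype.ext h2')
  rwa [hα, hα, M.apply_symm_apply, act_apply, act_apply] at h3

/-- a prime dividing the number of nondegenerate subspaces of odd dimension in one class -/
theorem exists_index_of_dvd (hQ : (QuadraticMap.polarBilin Q).Nondegenerate) (h2 : (2 : F) ≠ 0)
    (p : ℕ) [Fact p.Prime] [CharP F p] {r : ℕ} [hr : Fact r.Prime] (hrp : r ≠ p) {d E T : ℕ}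
    (hcard : Fintype.card ι = 2 * d)
    (hO : Nat.card (Cfsg.isometryGroup F ⇑Q) =
      2 * Fintype.card F ^ E * T * ∏ a ∈ Finset.range (d - 1), (Fintype.card F ^ (2 * (a + 1)) - 1))
    {W₀ : Submodule F (ι → F)} (hW₀ : NdOn (pB Q) W₀) {m : ℕ} (hm : finrank F W₀ = m) (hodd : Odd m)
    (hmd : m < 2 * d)
    (h : r ∣ Nat.card {W : Submodule F (ι → F) //
      finrank F W = m ∧ NdOn (pB Q) W ∧ Cfsg.Geo.AreIsometricFor ⇑Q W W₀}) :
    r ∣ T ∨ ∃ a, 2 * a < 2 * d ∧ 2 * d ≤ 2 * a + (m - 1) ∧ orderOf (Fintype.card F : ZMod r) ∣ 2 * a := by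
  obtain ⟨k, rfl⟩ := hodd
  obtain ⟨e, he⟩ : ∃ e, d = e + k + 1 := ⟨d - k - 1, by omega⟩
  have hcount := natCard_mul_stab hQ hW₀ hm
  obtain ⟨t, ht⟩ := natCard_O_dvd_stab (e := e) hQ hW₀ (by omega)
  rw [ht, hO, OrthForms.natCard_O_odd rfl h2 e, show d - 1 = e + k by omega, Finset.prod_range_add] at hcount
  set q := Fintype.card F with hq
  have hPe : 0 < ∏ a ∈ Finset.range e, (q ^ (2 * (a + 1)) - 1) := Finset.prod_pos fun a _ =>
    Nat.sub_pos_of_lt (Nat.one_lt_pow (by omega) Fintype.one_lt_card)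
  obtain ⟨C, hC⟩ := h
  rw [hC] at hcount
  have h3 : r * (C * q ^ (e ^ 2) * t) =
      q ^ E * (T * ∏ a ∈ Finset.range k, (q ^ (2 * (e + a + 1)) - 1)) :=
    Nat.eq_of_mul_eq_mul_left (Nat.mul_pos two_pos hPe) (by linear_combination hcount)
  rcases (Nat.Prime.dvd_mul hr.out).1 (Dvd.intro _ h3) with h4 | h4
  · obtain ⟨n, -, hn⟩ := FiniteField.card F p
    rw [hq, hn] at h4
    exact absurd ((Nat.prime_dvd_prime_iff_eq hr.out Fact.out).1
      (hr.out.dvd_of_dvd_pow (hr.out.dvd_of_dvd_pow h4))) hrp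
  rcases (Nat.Prime.dvd_mul hr.out).1 h4 with h4 | h4
  · exact Or.inl h4
  obtain ⟨a, ha, h5⟩ := (hr.out.prime.dvd_finsetProd_iff _).1 h4
  rw [Finset.mem_range] at ha
  exact Or.inr ⟨e + a + 1, by omega, by omega, order_dvd_of_dvd_pow_sub_one h5⟩

end Cfsg.Agent.Classical.IsoInvariant.EvenDim
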