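import Mathlib
import Cfsg.Agent.Lib.Classical.IsoInvariant.EvenBasic
import Cfsg.Agent.Lib.Classical.OddOrthSpectrumOmega

/-!
# Square roots of `-1` in the commutator subgroup of an orthogonal group, odd characteristic
-/

set_option autoImplicit false
set_option linter.unusedSectionVars false

namespace Cfsg.Agent.Classical.IsoInvariant.FourthRoot

open Module
open Cfsg.Agent.Forms
open Cfsg.Agent.Forms.Elusive Cfsg.Agent.Forms.Elusive.Pieces
open Cfsg.Agent.Forms.Reflections (act act_mul act_one act_apply act_map act_polar)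
open Cfsg.Agent.Forms.QuadStd
open Cfsg.Agent.Classical.OmegaCrit Cfsg.Agent.Classical.OddOrthSpectrum
open Cfsg.Agent.Classical.IsoInvariant.NdType Cfsg.Agent.Classical.IsoInvariant.EvenDim

section abstract

variable {F : Type*} [Field F] [Fintype F] {V : Type*} [AddCommGroup V] [Module F V] [FiniteDimensional F V]
  {B : LinearMap.BilinForm F V} {g : V →ₗ[F] V}

/-- an invariant nondegenerate subspace is a sum of planes `⟨v, g v⟩` -/
theorem exists_planes (hS : B.IsSymm) (h2 : (2 : F) ≠ 0) (hiso : ∀ u v, B (g u) (g v) = B u v)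
    (hgg : ∀ v, g (g v) = -v) :
    ∀ (n : ℕ) {P : Submodule F V}, finrank F P ≤ n → NdOn B P → P.map g ≤ P →
      ∃ (k : ℕ) (v : Fin k → V), finrank F P = 2 * k ∧ (∀ a, v a ∈ P) ∧ (∀ a, B (v a) (v a) ≠ 0) ∧
        (∀ a b, B (v a) (g (v b)) = 0) ∧ (∀ a b, a ≠ b → B (v a) (v b) = 0) ∧
        Submodule.span F (Set.range v ∪ Set.range (g ∘ v)) = P := by
  have hB : B.IsRefl := fun x y h => by rw [hS.eq, h]
  have hskew : ∀ u, B u (g u) = 0 := fun u => by
    have h1 := hiso u (g u)
    rw [hgg, map_neg, hS.eq (g u) u] at h1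
    exact (mul_eq_zero.1 (show (2 : F) * B u (g u) = 0 by linear_combination -h1)).resolve_left h2
  intro n
  induction n with
  | zero =>
    intro P hd _ _
    refine ⟨0, Fin.elim0, by omega, fun a => a.elim0, fun a => a.elim0, fun a => a.elim0, fun a => a.elim0, ?_⟩
    rw [Submodule.finrank_eq_zero.1 (Nat.le_zero.1 hd)]
    simp [Set.range_eq_empty]
  | succ n ih =>
    intro P hd hP hPi
    by_cases h0 : P = ⊥
    · exact ih (by rw [h0, finrank_bot]; omega) hP hPi
    obtain ⟨u, hu, huu⟩ : ∃ u ∈ P, B u u ≠ 0 := by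
      by_contra hall
      push Not at hall
      obtain ⟨x, hx, hx0⟩ := Submodule.exists_mem_ne_zero_of_ne_bot h0
      obtain ⟨w, hw, hxw⟩ := hP x hx hx0
      have h1 := hall (x + w) (add_mem hx hw)
      simp only [map_add, LinearMap.add_apply, hall x hx, hall w hw, hS.eq w x] at h1
      exact hxw ((mul_eq_zero.1 (show (2 : F) * B x w = 0 by linear_combination h1)).resolve_left h2)
    set S := Submodule.span F ({u, g u} : Set V) with hSdef
    have hgu : g u ∈ P := hPi ⟨u, hu, rfl⟩
    have hSP : S ≤ P := Submodule.span_le.2 (Set.insert_subset hu (Set.singleton_subset_iff.2 hgu))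
    have hSi : S.map g ≤ S := by
      rw [hSdef, Submodule.map_span, Submodule.span_le]
      rintro _ ⟨x, hx, rfl⟩
      rcases hx with rfl | rfl
      · exact Submodule.subset_span (Or.inr rfl)
      · rw [SetLike.mem_coe, hgg]
        exact neg_mem (Submodule.subset_span (Or.inl rfl))
    have h01 : B (g u) u = 0 := hB _ _ (hskew u)
    have hSnd : NdOn B S := by
      intro x hx hx0
      obtain ⟨a, c, rfl⟩ := Submodule.mem_span_pair.1 hx
      by_cases ha : a = 0
      · refine ⟨g u, Submodule.subset_span (Or.inr rfl), ?_⟩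
        simp [ha, hiso, huu]
        rintro rfl
        exact hx0 (by simp [ha])
      · refine ⟨u, Submodule.subset_span (Or.inl rfl), ?_⟩
        simp [h01, huu, ha]
    have hSd : finrank F S = 2 := by
      have hli : LinearIndependent F ![u, g u] := by
        rw [LinearIndependent.pair_iff]
        intro a c hac
        refine ⟨?_, ?_⟩
        · have h1 := congrArg (B u) hac
          simpa [hskew, huu] using h1
        · have h1 := congrArg (B (g u)) hac
          simpa [h01, hiso, huu] using h1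
      rw [hSdef, show ({u, g u} : Set V) = Set.range ![u, g u] by
        rw [Matrix.range_cons, Matrix.range_cons, Matrix.range_empty, Set.union_empty]; rfl,
        finrank_span_eq_card hli, Fintype.card_fin]
    obtain ⟨hQ, ho, hsup, hdim⟩ := perp_nd hB hP hSnd hSP
    have hinj : Function.Injective g := fun x y e => by
      have := congrArg g e
      rwa [hgg, hgg, neg_inj] at this
    obtain ⟨k, v, hk, hv, hvv, hvg, hvo, hvs⟩ := ih (by omega) hQ (perp_inv' hiso hinj hPi hSi)
    have hu' : ∀ a, B u (v a) = 0 ∧ B (g u) (v a) = 0 := fun a =>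
      ⟨ho u (Submodule.subset_span (Or.inl rfl)) _ (hv a), ho _ (Submodule.subset_span (Or.inr rfl)) _ (hv a)⟩
    have hug : ∀ a, B u (g (v a)) = 0 := fun a => by
      rw [← hiso, hgg, map_neg, (hu' a).2, neg_zero]
    refine ⟨k + 1, Fin.cons u v, by omega, Fin.cases hu fun a => (hv a).1, Fin.cases huu fun a => hvv a,
      Fin.cases (Fin.cases (hskew u) fun b => hug b) fun a => Fin.cases ?_ fun b => hvg a b,
      Fin.cases (Fin.cases (fun h => absurd rfl h) fun b _ => (hu' b).1)
        fun a => Fin.cases (fun _ => hB _ _ (hu' a).1) fun b h => hvo a b fun e => h (by rw [e]), ?_⟩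
    rotate_left
    · simp only [Fin.cons_zero, Fin.cons_succ]
      exact hB _ _ (hu' a).2
    · rw [Fin.range_cons, show g ∘ Fin.cons u v = Fin.cons (g u) (g ∘ v) from funext (Fin.cases rfl fun a => rfl),
        Fin.range_cons, ← hsup, ← hvs, hSdef, ← Submodule.span_union]
      congr 1
      ext x
      simp only [Set.mem_union, Set.mem_insert_iff, Set.mem_singleton_iff]
      tauto

theorem hasDisc_planes (hS : B.IsSymm) (hiso : ∀ u v, B (g u) (g v) = B u v) {k : ℕ} {v : Fin k → V}
    {P : Submodule F V} (hvv : ∀ a, B (v a) (v a) ≠ 0) (hvg : ∀ a b, B (v a) (g (v b)) = 0)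
    (hvo : ∀ a b, a ≠ b → B (v a) (v b) = 0)
    (hspan : Submodule.span F (Set.range v ∪ Set.range (g ∘ v)) = P) :
    HasDisc B P ((∏ a, B (v a) (v a)) * ∏ a, B (v a) (v a)) := by
  have hB : B.IsRefl := fun x y h => by rw [hS.eq, h]
  have h1 : HasDisc B (Submodule.span F (Set.range v)) (∏ a, B (v a) (v a)) := ⟨k, v, rfl, hvo, hvv, rfl⟩
  have h2 : HasDisc B (Submodule.span F (Set.range (g ∘ v))) (∏ a, B (v a) (v a)) :=
    ⟨k, g ∘ v, rfl, fun a b h => (hiso _ _).trans (hvo a b h), fun a => by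
      show B (g (v a)) (g (v a)) ≠ 0
      rw [hiso]; exact hvv a, Finset.prod_congr rfl fun a _ => hiso _ _⟩
  rw [← hspan, Submodule.span_union]
  refine h1.sup hB h2 fun x hx y hy => ?_
  obtain ⟨c, rfl⟩ := (Submodule.mem_span_range_iff_exists_fun F).1 hx
  obtain ⟨e, rfl⟩ := (Submodule.mem_span_range_iff_exists_fun F).1 hy
  simp [map_sum, hvg]

end abstract

variable {F : Type*} [Field F] [Fintype F] {ι : Type} [Fintype ι] [DecidableEq ι]
  {Q : QuadraticForm F (ι → F)}

/-- the standard square root of `-1` on orthogonal planes with equal values -/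
theorem exists_rotation (hQ : (QuadraticMap.polarBilin Q).Nondegenerate) (h2 : (2 : F) ≠ 0) {k : ℕ}
    (v w : Fin k → ι → F) (hne : ∀ a, Q (v a) ≠ 0) (heq : ∀ a, Q (w a) = Q (v a))
    (hvo : ∀ a b, a ≠ b → pB Q (v a) (v b) = 0) (hwo : ∀ a b, a ≠ b → pB Q (w a) (w b) = 0)
    (hvw : ∀ a b, pB Q (v a) (w b) = 0) :
    ∃ x : Cfsg.isometryGroup F ⇑Q, (∀ a, act x (v a) = -w a) ∧ (∀ a, act x (w a) = v a) ∧
      (x ∈ Cfsg.Omega F ⇑Q ↔ IsSquare ((2 : F) ^ k)) := by
  classical
  have hB := pB_refl Q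
  set s : Fin k → ι → F := fun a => v a + w a with hs
  have hsQ : ∀ a, Q (s a) = 2 * Q (v a) := fun a => by
    have h := hvw a a
    rw [QuadraticMap.polarBilin_apply_apply] at h
    rw [hs, QuadraticMap.map_add (⇑Q), heq, h]
    ring
  have hso : ∀ a b, a ≠ b → pB Q (s a) (s b) = 0 := fun a b h => by
    simp only [hs, map_add, LinearMap.add_apply, hvo a b h, hwo a b h, hvw a b, hB _ _ (hvw b a), add_zero]
  have hlv : ∀ a ∈ List.ofFn v, Q a ≠ 0 := fun a ha => by
    rw [List.mem_ofFn] at ha; obtain ⟨i, rfl⟩ := ha; exact hne i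
  have hls : ∀ a ∈ List.ofFn s, Q a ≠ 0 := fun a ha => by
    rw [List.mem_ofFn] at ha; obtain ⟨i, rfl⟩ := ha; rw [hsQ]; exact mul_ne_zero h2 (hne i)
  obtain ⟨hv1, hv2⟩ := act_prod_reflect (Q := Q) (List.ofFn v) hlv
    (List.pairwise_ofFn.2 fun a b hab => hvo a b hab.ne)
  obtain ⟨hs1, hs2⟩ := act_prod_reflect (Q := Q) (List.ofFn s) hls
    (List.pairwise_ofFn.2 fun a b hab => hso a b hab.ne)
  set X := ((List.ofFn v).map (reflect Q)).prod with hX
  set Y := ((List.ofFn s).map (reflect Q)).prod with hY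
  have hXv : ∀ a, act X (v a) = -v a := fun a => hv2 _ ((List.mem_ofFn).2 ⟨a, rfl⟩)
  have hXw : ∀ a, act X (w a) = w a := fun a => hv1 _ fun x hx => by
    rw [List.mem_ofFn] at hx; obtain ⟨i, rfl⟩ := hx; exact hvw i a
  have hYs : ∀ a, act Y (s a) = -s a := fun a => hs2 _ ((List.mem_ofFn).2 ⟨a, rfl⟩)
  have hYd : ∀ a, act Y (v a - w a) = v a - w a := fun a => hs1 _ fun x hx => by
    rw [List.mem_ofFn] at hx
    obtain ⟨i, rfl⟩ := hx
    show pB Q (s i) (v a - w a) = 0
    by_cases h : i = a
    · subst h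
      simp only [hs, map_add, map_sub, LinearMap.add_apply, hvw i i, hB _ _ (hvw i i), pB_self, heq]
      ring
    · simp only [hs, map_add, map_sub, LinearMap.add_apply, hvo i a h, hwo i a h, hvw i a, hB _ _ (hvw a i)]
      ring
  have hYv : ∀ a, act Y (v a) = -w a := fun a => by
    have h1 := hYs a
    have h3 := hYd a
    simp only [hs, map_add, map_sub] at h1 h3
    have h4 : (2 : F) • act Y (v a) = (2 : F) • (-w a) := by
      rw [two_smul, two_smul]
      have := congrArg₂ (· + ·) h1 h3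
      rw [show act Y (v a) + act Y (w a) + (act Y (v a) - act Y (w a)) = act Y (v a) + act Y (v a) by abel,
        show -(v a + w a) + (v a - w a) = -w a + -w a by abel] at this
      exact this
    exact smul_right_injective _ h2 h4
  have hYw : ∀ a, act Y (w a) = -v a := fun a => by
    have h1 := hYs a
    simp only [hs, map_add, hYv] at h1
    have h5 := congrArg (fun z => w a + z) h1
    rw [show w a + (-w a + act Y (w a)) = act Y (w a) by abel,
      show w a + -(v a + w a) = -v a by abel] at h5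
    exact h5
  refine ⟨X * Y, fun a => by rw [act_mul, hYv, map_neg, hXw], fun a => by rw [act_mul, hYw, map_neg, hXv, neg_neg], ?_⟩
  have hF : Fintype.card F ≠ 2 ∨ Fintype.card ι ≠ 4 := Or.inl fun e => h2 (by
    have := FiniteField.cast_card_eq_zero F
    rwa [e, Nat.cast_ofNat] at this)
  have hp : (∏ a, Q (v a)) ≠ 0 := Finset.prod_ne_zero_iff.2 fun a _ => hne a
  have hQs : (∏ a, Q (s a)) = 2 ^ k * ∏ a, Q (v a) := by
    rw [Finset.prod_congr rfl fun a _ => hsQ a, Finset.prod_mul_distrib, Finset.prod_const, Finset.card_fin]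
  rw [mem_omega_iff hQ hF, map_mul, hX, hY, theta_list hQ hF _ hlv, theta_list hQ hF _ hls, List.length_ofFn,
    List.length_ofFn, List.map_ofFn, List.map_ofFn, List.prod_ofFn, List.prod_ofFn, Prod.mk_mul_mk, Prod.mk_eq_one,
    ← chi_eq_one_iff]
  simp only [Function.comp_apply]
  rw [hQs, chi_mul (pow_ne_zero _ h2) hp, show chi (∏ a, Q (v a)) * (chi ((2 : F) ^ k) * chi (∏ a, Q (v a))) =
    chi ((2 : F) ^ k) by rw [mul_left_comm, Int.units_mul_self, mul_one]]
  exact ⟨fun h => h.2, fun h => ⟨Int.units_mul_self _, h⟩⟩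

theorem isSquare_two_pow (h2 : (2 : F) ≠ 0) (k : ℕ) :
    IsSquare ((2 : F) ^ k) ↔ (Even k ∨ IsSquare (2 : F)) := by
  refine ⟨fun h => (Nat.even_or_odd k).imp id fun ho => ?_, ?_⟩
  · obtain ⟨j, rfl⟩ := ho
    obtain ⟨s, hs⟩ := h
    exact ⟨s / 2 ^ j, by field_simp; linear_combination hs⟩
  · rintro (h | h)
    · exact h.isSquare_pow _
    · exact h.pow k

/-- existence of a square root of `-1` in Ω -/
theorem exists_root_iff (hQ : (QuadraticMap.polarBilin Q).Nondegenerate) (h2 : (2 : F) ≠ 0) {d : ℕ}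
    (hcard : Fintype.card ι = 2 * d) :
    (∃ g : Cfsg.isometryGroup F ⇑Q, g ∈ Cfsg.Omega F ⇑Q ∧ ∀ v, act g (act g v) = -v) ↔
      ((Plus (pB Q) ⊤ ↔ IsSquare ((-1 : F) ^ d)) ∧ IsSquare ((2 : F) ^ d)) := by
  classical
  have hS := pB_symm Q
  have hB := pB_refl Q
  have htop := ndOn_top (F := F) (B := pB Q) hQ
  have hfin : finrank F (⊤ : Submodule F (ι → F)) = 2 * d := by rw [finrank_top, Module.finrank_pi, hcard]
  constructor
  · rintro ⟨g, hg, hgg⟩
    obtain ⟨k, v, hk, -, hvv, hvg, hvo, hspan⟩ := exists_planes hS h2 (g := act g)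
      (fun u w => act_polar g u w) hgg _ le_rfl htop (by simp)
    obtain rfl : k = d := by omega
    have hD := hasDisc_planes hS (g := act g) (fun u w => act_polar g u w) hvv hvg hvo hspan
    refine ⟨?_, ?_⟩
    · rw [plus_iff h2 hS htop hD hfin]
      have hp : (∏ a, pB Q (v a) (v a)) ≠ 0 := Finset.prod_ne_zero_iff.2 fun a _ => hvv a
      refine ⟨fun ⟨s, hs⟩ => ⟨s / ∏ a, pB Q (v a) (v a), ?_⟩, fun ⟨s, hs⟩ => ⟨s * ∏ a, pB Q (v a) (v a), ?_⟩⟩
      · rw [div_mul_div_comm, ← hs, mul_div_assoc, div_self (mul_ne_zero hp hp), mul_one]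
      · rw [hs]; ring
    · have hne : ∀ a, Q (v a) ≠ 0 := fun a h => hvv a (by rw [pB_self, h, mul_zero])
      obtain ⟨x, hx1, hx2, hxΩ⟩ := exists_rotation hQ h2 v (fun a => -act g (v a)) hne
        (fun a => by show Q (-act g (v a)) = _; rw [QuadraticMap.map_neg, act_map]) hvo
        (fun a b h => by
          show pB Q (-act g (v a)) (-act g (v b)) = 0
          rw [map_neg, map_neg, LinearMap.neg_apply, neg_neg]
          exact (act_polar g _ _).trans (hvo a b h))
        (fun a b => by
          show pB Q (v a) (-act g (v b)) = 0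
          rw [map_neg, hvg, neg_zero])
      rw [← hxΩ, show x = g from actHom_injective (LinearMap.ext fun y => by
        have hy : y ∈ Submodule.span F (Set.range v ∪ Set.range (act g ∘ v)) := hspan ▸ Submodule.mem_top
        refine LinearMap.eqOn_span (R := F) (fun z hz => ?_) hy
        rcases hz with ⟨a, rfl⟩ | ⟨a, rfl⟩
        · show act x (v a) = act g (v a)
          rw [hx1, neg_neg]
        · show act x (act g (v a)) = act g (act g (v a))
          have h := hx2 a
          rw [map_neg, neg_eq_iff_eq_neg] at h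
          rw [h, hgg])]
      exact hg
  · rintro ⟨htype, h2d⟩
    rcases Nat.eq_zero_or_pos d with rfl | hd
    · refine ⟨1, one_mem _, fun v => ?_⟩
      have : IsEmpty ι := Fintype.card_eq_zero_iff.1 (by omega)
      exact funext fun i => isEmptyElim i
    obtain ⟨α, hα⟩ := exists_nonsq (F := F) h2
    have hα0 : α ≠ 0 := fun h => hα (h ▸ ⟨0, by simp⟩)
    obtain ⟨n, hn⟩ : ∃ n, 2 * d = n + 1 := ⟨2 * d - 1, by omega⟩
    obtain ⟨u, -, huo, hu1, hul⟩ := Bases.exists_symm_normal h2 (pB Q) hS α hα ⊤ (nondegOn htop)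
      (hfin.trans hn)
    have hne' : ∀ a, pB Q (u a) (u a) ≠ 0 := fun a => by
      by_cases ha : a = Fin.last n
      · rcases hul with h | h <;> rw [ha, h]
        exacts [one_ne_zero, hα0]
      · rw [hu1 a ha]; exact one_ne_zero
    have hspan : Submodule.span F (Set.range u) = ⊤ := Submodule.eq_top_of_finrank_eq (by
      rw [finrank_span_eq_card (Bases.linearIndependent_of_orth huo hne'), Fintype.card_fin, ← hn, Module.finrank_pi,
        hcard])
    have hlast : pB Q (u (Fin.last n)) (u (Fin.last n)) = 1 := by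
      refine hul.resolve_right fun hl => hα ?_
      have h1 := plus_iff h2 hS htop ⟨n + 1, u, hspan, huo, hne', rfl⟩ hfin
      rw [Fintype.prod_eq_single (Fin.last n) hu1, hl, htype] at h1
      obtain ⟨s, hs⟩ | hns := em (IsSquare ((-1 : F) ^ d))
      · obtain ⟨t, ht⟩ := h1.1 ⟨s, hs⟩
        have hs0 : s ≠ 0 := fun e => pow_ne_zero d (neg_ne_zero.2 (one_ne_zero (α := F))) (by rw [hs, e, mul_zero])
        exact ⟨t / s, by field_simp; linear_combination ht - α * hs⟩
      · by_contra hns'
        obtain ⟨t, ht⟩ := Bases.isSquare_mul_of_not hns hns'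
        exact hns (h1.2 ⟨t, ht⟩)
    have hall : ∀ a, Q (u a) = 2⁻¹ := fun a => by
      have h1 : pB Q (u a) (u a) = 1 := by
        by_cases ha : a = Fin.last n
        · rw [ha]; exact hlast
        · exact hu1 a ha
      rw [pB_self] at h1
      exact eq_inv_of_mul_eq_one_right h1
    let e0 : Fin d → Fin (n + 1) := fun a => ⟨a, by omega⟩
    let e1 : Fin d → Fin (n + 1) := fun a => ⟨d + a, by omega⟩
    have hne01 : ∀ a b, e0 a ≠ e1 b := fun a b h => by have := congrArg Fin.val h; simp [e0, e1] at this; omega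
    obtain ⟨x, hx1, hx2, hxΩ⟩ := exists_rotation hQ h2 (fun a => u (e0 a)) (fun a => u (e1 a))
      (fun a => by show Q (u (e0 a)) ≠ 0; rw [hall]; exact inv_ne_zero h2)
      (fun a => by show Q (u (e1 a)) = Q (u (e0 a)); rw [hall, hall])
      (fun a b h => huo _ _ fun e => h (Fin.ext (by simpa [e0] using congrArg Fin.val e)))
      (fun a b h => huo _ _ fun e => h (Fin.ext (by simpa [e1] using congrArg Fin.val e)))
      (fun a b => huo _ _ (hne01 a b))
    refine ⟨x, hxΩ.2 h2d, fun y => ?_⟩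
    have hy : y ∈ Submodule.span F (Set.range u) := hspan ▸ Submodule.mem_top
    refine LinearMap.eqOn_span (R := F) (f := act x ∘ₗ act x) (g := -LinearMap.id) (fun z hz => ?_) hy
    obtain ⟨a, rfl⟩ := hz
    show act x (act x (u a)) = -u a
    rcases Nat.lt_or_ge (a : ℕ) d with ha | ha
    · rw [show a = e0 ⟨a, ha⟩ from rfl, hx1, map_neg, hx2]
    · rw [show a = e1 ⟨(a : ℕ) - d, by omega⟩ from Fin.ext (by simp [e1]; omega), hx2, hx1]

end Cfsg.Agent.Classical.IsoInvariant.FourthRoot
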