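import Mathlib
import Cfsg.Agent.Lib.Classical.IsoInvariant.Refl
import Cfsg.Agent.Lib.Classical.IsoInvariant.Choice
import Cfsg.Agent.Lib.Forms.Elusive.OrthUnipotent
import Cfsg.Agent.Lib.Classical.OrthPrimeClasses

/-!
# Elements of odd prime order of an odd-dimensional orthogonal group fixing a totally singular `m`-space
-/

set_option autoImplicit false
set_option linter.unusedSectionVars false

namespace Cfsg.Agent.Classical.IsoInvariant.OrthOdd

open Module Polynomial
open Cfsg.Agent.Forms.Elusive Cfsg.Agent.Forms.Elusive.Pieces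
open Cfsg.Agent.Classical.OrthForms
open Cfsg.Agent.Classical.StarFactor (Fac)

variable {F : Type*} [Field F] [Fintype F] {V : Type*} [AddCommGroup V] [Module F V] [FiniteDimensional F V]
  {B : LinearMap.BilinForm F V} {g : V →ₗ[F] V} {r i c : ℕ} [hr : Fact r.Prime]

/-- for an odd order of `q` the moved part has dimension a multiple of twice that order -/
theorem two_dvd_moved (hB : B.IsRefl) (hiso : ∀ u v, B (g u) (g v) = B u v) (hr2 : r ≠ 2)
    (hr0 : (r : F) ≠ 0) (hi : i = orderOf ((Fintype.card F : ℕ) : ZMod r)) (hodd : Odd i) (hg : g ^ r = 1) :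
    ∀ W : Submodule F V, NdOn B W → W.map g ≤ W → (∀ v ∈ W, g v = v → v = 0) → 2 * i ∣ finrank F W := by
  intro W
  induction hn : finrank F W using Nat.strong_induction_on generalizing W with
  | _ n ih =>
    intro hW hWi hfree
    have hgr : ∀ v, (g ^ r) v = v := fun v => by rw [hg]; rfl
    have hinj : Function.Injective g := fun u v e => by
      have := congrArg (g ^ (r - 1)) e
      rwa [← Module.End.mul_apply, ← Module.End.mul_apply, ← pow_succ, Nat.sub_add_cancel hr.out.one_lt.le,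
        hgr, hgr] at this
    have hss : Module.End.IsSemisimple g :=
      isSemisimple_of_pow (c := 1) (fun v => by rw [hgr, one_smul]) hr0 one_ne_zero
    have hH : Homog g i W := by rw [hi]; exact homog_of_free hr0 hWi (fun v _ => hgr v) hfree
    obtain ⟨A, hA⟩ := hH.dvd W hWi le_rfl
    rcases Nat.eq_zero_or_pos A with h0 | h0
    · rw [h0, mul_zero, hn] at hA; exact hA ▸ dvd_zero _
    obtain ⟨U, hU, hUW, hUd⟩ := hH.exists_sub 1 (by rw [one_mul, hA]; exact Nat.le_mul_of_pos_right _ h0)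
    rw [one_mul] at hUd
    have hI := Refl.iso_of_odd hB hiso hr2 hr0 hi hodd hg hU (fun v hv => hfree v (hUW hv)) hUd
    obtain ⟨R, hRW, hR, hRi, -, -, hsum⟩ := Refl.exists_middle hB hiso hinj hss hW hWi hUW hU hI
    have hi0 := hH.pos
    obtain ⟨e, he⟩ := ih (finrank F R) (by omega) R rfl hR hRi fun v hv => hfree v (hRW hv)
    exact ⟨e + 1, by rw [mul_add, ← he]; omega⟩

/-- sufficiency -/
theorem exists_invariant (hnd : B.Nondegenerate) (hS : B.IsSymm) (h2 : (2 : F) ≠ 0)
    (hiso : ∀ u v, B (g u) (g v) = B u v) (hr2 : r ≠ 2) (hr0 : (r : F) ≠ 0) (hg : g ^ r = 1)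
    (hi : i = orderOf ((Fintype.card F : ℕ) : ZMod r)) (hc : c = if Even i then i else 2 * i)
    {d m : ℕ} (hV : finrank F V = 2 * d + 1) (hmd : m ≤ d) (hk : 2 * (m % i) ≤ (2 * d) % c)
    (ht : Odd i ∨ (r - 1) / i + 2 * (m / i) ≤ (2 * d) / i) :
    ∃ W : Submodule F V, finrank F W = m ∧ IsoOn B W ∧ W.map g ≤ W := by
  classical
  have hB : B.IsRefl := fun x y h => by rw [hS.eq, h]
  have hgr : ∀ v, (g ^ r) v = v := fun v => by rw [hg]; rfl
  have hinj : Function.Injective g := fun u v e => by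
    have := congrArg (g ^ (r - 1)) e
    rwa [← Module.End.mul_apply, ← Module.End.mul_apply, ← pow_succ, Nat.sub_add_cancel hr.out.one_lt.le,
      hgr, hgr] at this
  have hss : Module.End.IsSemisimple g :=
    isSemisimple_of_pow (c := 1) (fun v => by rw [hgr, one_smul]) hr0 one_ne_zero
  have hi0 : 0 < i := order_pos hr0 hi
  obtain ⟨hF0, D, hD, hDi, hort, -, hfree, hsum⟩ := Refl.fix_free hnd hB hiso hr0 hi hg
  rw [hV] at hsum
  have hH : ∀ W : Submodule F V, W ≤ D → W.map g ≤ W → Homog g i W := fun W hW hWi => by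
    rw [hi]; exact homog_of_free hr0 hWi (fun v _ => hgr v) fun v hv => hfree v (hW hv)
  obtain ⟨j, hjfix, hjD⟩ : ∃ j, (i * j ≤ m ∧ (m - i * j = 0 ∨ 2 * (m - i * j) + 1 ≤ finrank F (fixSp g))) ∧
      ∃ U : Submodule F V, U ≤ D ∧ U.map g ≤ U ∧ IsoOn B U ∧ finrank F U = i * j := by
    rcases Nat.even_or_odd i with hev | hodd
    · rw [if_pos hev] at hc
      subst c
      obtain ⟨A, hA⟩ := (hH D le_rfl hDi).dvd D hDi le_rfl
      have hfodd : ∃ e, finrank F (fixSp g) = 2 * e + 1 := by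
        obtain ⟨h, hh⟩ := hev
        have hAh : i * A = 2 * (h * A) := by rw [hh]; ring
        exact ⟨d - h * A, by omega⟩
      obtain ⟨e, he⟩ := hfodd
      have htc := ht.resolve_left (Nat.not_odd_iff_even.2 hev)
      obtain ⟨gs, hlen, hgs, hkill⟩ := exists_killing_list (g := g) hr0 hi hg
      set t := (r - 1) / i
      have hex : ∀ W : Submodule F V, W ≤ D → NdOn B W → W.map g ≤ W → (t + 1) * i ≤ finrank F W →
          ∃ U : Submodule F V, U ≤ W ∧ U.map g ≤ U ∧ IsoOn B U ∧ finrank F U = i := by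
        intro W hW _ hWi hd
        obtain ⟨P, hP, hbig⟩ := exists_big_kernel hWi (a := i) gs (hkill W hWi fun v hv => hfree v (hW hv))
          (by rw [hlen]; rw [add_mul, one_mul] at hd; omega)
        obtain ⟨hPm, hPd, hPi⟩ := hgs P hP
        have hPdvd : P ∣ X ^ r - C 1 := by
          by_contra hnd'
          obtain ⟨a, b, hab⟩ := hPi.coprime_iff_not_dvd.2 hnd'
          obtain ⟨v, hv, hv0⟩ := Submodule.exists_mem_ne_zero_of_ne_bot
            (show W ⊓ LinearMap.ker (aeval g P) ≠ ⊥ from fun e => by rw [e, finrank_bot] at hbig; omega)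
          have e := congrArg (fun Q => aeval g Q v) hab
          simp only [map_add, map_mul, map_one, map_sub, aeval_X_pow, LinearMap.add_apply, Module.End.mul_apply,
            Module.End.one_apply, LinearMap.sub_apply, LinearMap.mem_ker.1 hv.2, hgr, sub_self, map_zero,
            add_zero] at e
          exact hv0 e.symm
        obtain ⟨h, hh⟩ := hev
        have hrlt : 2 * h ≤ r := by
          have h1 : i ∣ r - 1 := by
            rw [hi]
            exact orderOf_dvd_of_pow_eq_one (ZMod.pow_card_sub_one_eq_one fun e => by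
              rw [hi, e, orderOf_zero] at hi0; omega)
          have := Nat.le_of_dvd (by have := hr.out.two_le; omega) h1
          omega
        obtain ⟨S, hSK, hSi, hSI, hS0, hSd⟩ := Refl.exists_cyclic hS h2 hiso (h := h) (by omega) hrlt hg hPm
          (by rw [hPd]; omega) (Refl.coeff_zero_eq_one hr0 hi ⟨h, hh⟩ hPm hPdvd hPd)
          (inv_inf hWi (ker_inv P)) (fun v hv => LinearMap.mem_ker.1 hv.2) (by omega)
        have hSW : S ≤ W := hSK.trans inf_le_left
        exact ⟨S, hSW, hSi, hSI, le_antisymm (by omega) (Nat.le_of_dvd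
          (Nat.pos_of_ne_zero fun e => hS0 (Submodule.finrank_eq_zero.1 e)) ((hH W hW hWi).dvd S hSi hSW))⟩
      refine ⟨min (m / i) ((A + 1 - t) / 2), ⟨(Nat.mul_le_mul_left i (min_le_left _ _)).trans
        (Nat.mul_div_le m i), Or.inr ?_⟩, Refl.exists_iso_multi hB hiso hinj hss _ hD hDi hex ?_⟩
      · have h1 := Nat.div_add_mod (2 * d) i
        have h2 := Nat.div_add_mod m i
        have h3 : A ≤ (2 * d) / i := (Nat.le_div_iff_mul_le hi0).2 (by rw [mul_comm, ← hA]; omega)
        by_cases hcase : m / i ≤ (A + 1 - t) / 2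
        · rw [min_eq_left hcase]
          have h4 := Nat.mul_le_mul_left i h3
          omega
        · rw [min_eq_right (by omega)]
          have h4 : i * (2 * (m / i) + A) ≤ i * ((2 * d) / i + 2 * ((A + 1 - t) / 2)) :=
            Nat.mul_le_mul_left i (by omega)
          simp only [mul_add, mul_left_comm i 2] at h4
          omega
      · rcases Nat.eq_zero_or_pos (min (m / i) ((A + 1 - t) / 2)) with h0 | h0
        · exact Or.inl h0
        · refine Or.inr ?_
          have h5 := min_le_right (m / i) ((A + 1 - t) / 2)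
          have h4 : i * (t + 1 + 2 * min (m / i) ((A + 1 - t) / 2)) ≤ i * (A + 2) :=
            Nat.mul_le_mul_left i (by omega)
          simp only [mul_add, mul_left_comm i 2, mul_one] at h4
          rw [hA, add_mul, one_mul, mul_comm t i]
          omega
    · rw [if_neg (Nat.not_even_iff_odd.2 hodd)] at hc
      subst c
      obtain ⟨A, hA⟩ := two_dvd_moved hB hiso hr2 hr0 hi hodd hg D hD hDi hfree
      have hex : ∀ W : Submodule F V, W ≤ D → NdOn B W → W.map g ≤ W → 2 * i ≤ finrank F W →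
          ∃ U : Submodule F V, U ≤ W ∧ U.map g ≤ U ∧ IsoOn B U ∧ finrank F U = i := by
        intro W hW _ hWi hd
        obtain ⟨U, hU, hUW, hUd⟩ := (hH W hW hWi).exists_sub 1 (by omega)
        rw [one_mul] at hUd
        exact ⟨U, hUW, hU, Refl.iso_of_odd hB hiso hr2 hr0 hi hodd hg hU
          (fun v hv => hfree v (hW (hUW hv))) hUd, hUd⟩
      refine ⟨min (m / i) A, ⟨(Nat.mul_le_mul_left i (min_le_left _ _)).trans (Nat.mul_div_le m i), Or.inr ?_⟩,
        Refl.exists_iso_multi hB hiso hinj hss _ hD hDi hex ?_⟩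
      · have h1 := Nat.div_add_mod (2 * d) (2 * i)
        have h2 := Nat.div_add_mod m i
        rw [mul_assoc 2 i A] at hA
        have h3 : A ≤ (2 * d) / (2 * i) :=
          (Nat.le_div_iff_mul_le (by omega)).2 (by rw [mul_comm, mul_assoc]; omega)
        have h4 := Nat.mul_le_mul_left (2 * i) h3
        rw [mul_assoc 2 i A] at h4
        by_cases hcase : m / i ≤ A
        · rw [min_eq_left hcase]; omega
        · rw [min_eq_right (by omega)]; omega
      · refine Or.inr ?_
        rw [hA, mul_assoc]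
        have := Nat.mul_le_mul_left i (min_le_right (m / i) A)
        omega
  obtain ⟨U, hUD, hUi, hUI, hUd⟩ := hjD
  obtain ⟨U₀, hU₀, hU₀I, hU₀d⟩ := Refl.exists_iso hS hF0 (j := m - i * j) hjfix.2
  have hort' : OrthTo B U₀ U := fun u hu w hw => hort u (hU₀ hu) w (hUD hw)
  have hdisj : Disjoint U₀ U := by
    rw [Submodule.disjoint_def]
    exact fun v hv hv' => hfree v (hUD hv') (mem_fixSp.1 (hU₀ hv))
  refine ⟨U₀ ⊔ U, ?_, Refl.iso_sup hB hU₀I hUI hort', inv_sup ?_ hUi⟩
  · rw [finrank_sup_of_disjoint hdisj, hU₀d, hUd]; omega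
  · rintro _ ⟨v, hv, rfl⟩
    rw [mem_fixSp.1 (hU₀ hv)]; exact hv

/-- the bilinear form of the odd-dimensional space -/
noncomputable abbrev oB (F : Type*) [Field F] (d : ℕ) : LinearMap.BilinForm F (Unit ⊕ (Fin d ⊕ Fin d) → F) :=
  QuadraticMap.polarBilin (oddQ F d)

theorem oB_symm (d : ℕ) : (oB F d).IsSymm :=
  ⟨fun u v => QuadraticMap.polar_comm _ u v⟩

theorem finrank_odd (d : ℕ) : finrank F (Unit ⊕ (Fin d ⊕ Fin d) → F) = 2 * d + 1 := by
  rw [Module.finrank_pi, Fintype.card_sum, Fintype.card_sum, Fintype.card_unit, Fintype.card_fin]; omega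

theorem oB_iso {d : ℕ} {A : Matrix (Unit ⊕ (Fin d ⊕ Fin d)) (Unit ⊕ (Fin d ⊕ Fin d)) F}
    (hA : ∀ v, oddQ F d (A.mulVec v) = oddQ F d v) (u v : Unit ⊕ (Fin d ⊕ Fin d) → F) :
    oB F d (Matrix.toLin' A u) (Matrix.toLin' A v) = oB F d u v := by
  simp only [oB, QuadraticMap.polarBilin_apply_apply, QuadraticMap.polar, Matrix.toLin'_apply, ← Matrix.mulVec_add, hA]

theorem iso_iff (h2 : (2 : F) ≠ 0) {d : ℕ} (W : Submodule F (Unit ⊕ (Fin d ⊕ Fin d) → F)) :
    IsoOn (oB F d) W ↔ ∀ w ∈ W, Cfsg.quadFormOdd d F w = 0 := by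
  rw [← oddQ_eq]
  refine ⟨fun h w hw => ?_, fun h u hu v hv => ?_⟩
  · have h1 := h w hw w hw
    rw [QuadraticMap.polarBilin_apply_apply, QuadraticMap.polar_self, nsmul_eq_mul, Nat.cast_ofNat] at h1
    exact (mul_eq_zero.1 h1).resolve_left h2
  · rw [QuadraticMap.polarBilin_apply_apply, QuadraticMap.polar, h _ (W.add_mem hu hv), h u hu, h v hv, sub_zero,
      sub_zero]

/-- necessity -/
theorem necessary (p : ℕ) [Fact p.Prime] [CharP F p] (hrp : r ≠ p) (hr2 : r ≠ 2) (h2 : (2 : F) ≠ 0)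
    (hi : i = orderOf ((Fintype.card F : ℕ) : ZMod r)) (hc : c = if Even i then i else 2 * i)
    {d m j₀ : ℕ} (hj₀ : j₀ < m) (hmd : m ≤ d) (hdvd : i ∣ 2 * (d - j₀))
    (H : ∀ x : GL (Unit ⊕ (Fin d ⊕ Fin d)) F, x ∈ Cfsg.Geo.omegaGL (Cfsg.quadFormOdd d F) → orderOf x = r →
      ∃ W : Submodule F (Unit ⊕ (Fin d ⊕ Fin d) → F), finrank F W = m ∧ IsoOn (oB F d) W ∧
        W.map (Matrix.toLin' (x : Matrix (Unit ⊕ (Fin d ⊕ Fin d)) (Unit ⊕ (Fin d ⊕ Fin d)) F)) ≤ W) :
    i ≤ m ∧ 2 * (m % i) ≤ (2 * d) % c ∧ (Odd i ∨ (r - 1) / i + 2 * (m / i) ≤ (2 * d) / i) := by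
  classical
  have hti : i ∣ r - 1 := by
    rw [hi]
    refine orderOf_dvd_of_pow_eq_one (ZMod.pow_card_sub_one_eq_one fun h => hrp ?_)
    obtain ⟨n, -, hn⟩ := FiniteField.card F p
    rw [ZMod.natCast_eq_zero_iff, hn] at h
    exact (Nat.prime_dvd_prime_iff_eq hr.out Fact.out).1 (hr.out.dvd_of_dvd_pow h)
  obtain ⟨hS, P, hPcard, hP⟩ := OrthPrimeClasses.setting_of (F := F) (p := p) (t := (r - 1) / i) rfl hr.out
    hr2 hrp hi (Nat.div_mul_cancel hti)
  refine Choice.necessary hS P hPcard hP hti hc hj₀ hmd hdvd fun s f hs hsinv hf hd hs0 => ?_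
  have hr0 := hS.cast_ne
  have hi0 := OrthPrimeClasses.ne_of_pos hS
  have hnd : (oB F d).Nondegenerate := oddQ_nondeg h2 d
  have hBr : (oB F d).IsRefl := fun x y h => by rw [(oB_symm d).eq, h]
  set ones := Multiset.replicate (f + 1) (X - C (1 : F)) with hones
  have hX1 : ∀ q ∈ ones, q = X - C 1 := fun q hq => Multiset.eq_of_mem_replicate hq
  have hmon : ∀ q ∈ s + ones, q.Monic ∧ Irreducible q ∧ q ∣ X ^ r - C 1 := fun q hq => by
    rcases Multiset.mem_add.1 hq with h | h
    · exact ⟨(hs q h).monic, (hs q h).irr, (hs q h).dvd⟩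
    · rw [hX1 q h]
      exact ⟨monic_X_sub_C 1, irreducible_X_sub_C 1, by rw [map_one]; exact sub_one_dvd_pow_sub_one _ _⟩
  have hsdeg : (s.map natDegree).sum = Multiset.card s * i := by
    rw [Multiset.map_congr rfl fun q hq => hS.deg q (hs q hq), Multiset.map_const', Multiset.sum_replicate,
      smul_eq_mul]
  have hgood : OrthPrimeClasses.Good r (2 * d + 1) (s + ones) := by
    refine ⟨⟨hmon, ?_⟩, ?_⟩
    · rw [Multiset.map_add, Multiset.sum_add, hsdeg, hones, Multiset.map_replicate, natDegree_X_sub_C,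
        Multiset.sum_replicate, smul_eq_mul, mul_one]
      omega
    · rw [Multiset.map_add, hsinv, hones, Multiset.map_replicate, StarFactor.star_X_sub_one hr0]
  obtain ⟨A, hA⟩ := OrthPrimeClasses.exists_datum_odd hS h2 hgood
  obtain ⟨x, hx, hxA⟩ := OrthRealise.exists_elt hr.out.pos ⇑(oddQ F d) A hA.pres hA.pow
  set g := Matrix.toLin' A with hgdef
  have hg : g ^ r = 1 := by rw [hgdef, ← Matrix.toLin'_pow, hA.pow, Matrix.toLin'_one]; rfl
  have hgc : g.charpoly = (s + ones).prod := by rw [hgdef, Matrix.charpoly_toLin', hA.char]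
  have hfix : finrank F (fixSp g) = f + 1 := by
    rw [fixSp_eq_ker, finrank_ker_part hr0 hi hg ones s
      (fun q hq => ⟨(hmon q (by rwa [add_comm])).1, (hmon q (by rwa [add_comm])).2.1⟩)
      (fun q hq hqs => (hs q hqs).ne (hX1 q hq)) (by rw [hgc, add_comm]) (X - C 1)
      (fun q hq => by rw [hX1 q hq]) (Multiset.dvd_prod (Multiset.mem_replicate.2 ⟨f.succ_ne_zero, rfl⟩))]
    rw [hones, Multiset.map_replicate, natDegree_X_sub_C, Multiset.sum_replicate, smul_eq_mul, mul_one]
  have hF : Fintype.card F ≠ 2 := fun e => h2 (by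
    have := FiniteField.cast_card_eq_zero F
    rwa [e, Nat.cast_ofNat] at this)
  have hmem : (x : GL (Unit ⊕ (Fin d ⊕ Fin d)) F) ∈ Cfsg.Geo.omegaGL (Cfsg.quadFormOdd d F) := by
    rw [← oddQ_eq]
    exact ⟨x, OrthUnipotent.mem_omega _ hnd hF (hr.out.odd_of_ne_two hr2) hx, rfl⟩
  have hord : orderOf (x : GL (Unit ⊕ (Fin d ⊕ Fin d)) F) = r := by
    refine orderOf_eq_prime (by rw [← SubmonoidClass.coe_pow, hx, OneMemClass.coe_one]) fun e => ?_
    have h1 : fixSp g = ⊤ := eq_top_iff.2 fun v _ => mem_fixSp.2 (by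
      rw [hgdef, ← hxA, e, Units.val_one, Matrix.toLin'_one]; rfl)
    rw [h1, finrank_top, finrank_odd] at hfix
    have := Nat.mul_pos hs0 hi0
    omega
  obtain ⟨W, hWd, hI, hWi⟩ := H x hmem hord
  rw [hxA, ← hgdef] at hWi
  have hiso := oB_iso hA.pres
  obtain ⟨D, l, j, hDW, hd', hDH, hDd, hsum, hl⟩ := Refl.split_invariant hnd hBr hiso hr0 hg hi hWi hI
  rw [hfix] at hl
  obtain ⟨e, rfl⟩ := hf
  refine ⟨l, j, hWd ▸ hsum, by omega, fun hev T T' hsT hTn hTd => ?_⟩
  have hTf : ∀ q ∈ T, Fac r q := fun q hq => hs q (hsT ▸ Multiset.mem_add.2 (Or.inl hq))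
  have hker : ∀ (U U' : Multiset F[X]), U + U' = T → finrank F (LinearMap.ker (aeval g U.prod)) =
      Multiset.card U * i := by
    intro U U' hU
    have hUT : ∀ q ∈ U, q ∈ T := fun q hq => hU ▸ Multiset.mem_add.2 (Or.inl hq)
    rw [finrank_ker_part hr0 hi hg U (U' + T' + ones) ?_ ?_ ?_ U.prod
      (fun q hq => Multiset.dvd_prod hq) dvd_rfl,
      Multiset.map_congr rfl fun q hq => hS.deg q (hTf q (hUT q hq)), Multiset.map_const', Multiset.sum_replicate,
      smul_eq_mul]
    · intro q hq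
      have := hmon q (by rw [hsT, ← hU]; simpa [add_assoc] using hq)
      exact ⟨this.1, this.2.1⟩
    · intro q hq h
      rcases Multiset.mem_add.1 h with h | h
      · rcases Multiset.mem_add.1 h with h | h
        · rw [← hU, Multiset.nodup_add] at hTn
          exact Multiset.disjoint_left.1 hTn.2.2 hq h
        · exact hTd q (hUT q hq) h
      · exact (hTf q (hUT q hq)).ne (hX1 q h)
    · rw [hgc, hsT, ← hU, add_assoc, add_assoc, add_assoc]
  have hsmall : ∀ q ∈ T, finrank F (LinearMap.ker (aeval g q)) ≤ i := fun q hq => by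
    obtain ⟨U', hU'⟩ := Multiset.exists_cons_of_mem hq
    have := hker {q} U' (by rw [hU', Multiset.singleton_add])
    rw [Multiset.prod_singleton, Multiset.card_singleton, one_mul] at this
    omega
  have h1 : T.prod.eval 1 ≠ 0 := fun e => by
    obtain ⟨q, hq, hdq⟩ := (prime_X_sub_C (1 : F)).exists_mem_multiset_dvd (dvd_iff_isRoot.2 e)
    exact (hTf q hq).ne (eq_of_monic_of_associated (monic_X_sub_C 1) (hTf q hq).monic
      ((irreducible_X_sub_C (1 : F)).associated_of_dvd (hTf q hq).irr hdq)).symm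
  have h2' := Refl.bound_invariant hnd hBr hiso hr0 hg hi hev hI hDW hDH hd' T hsmall h1
  rw [hfix, hker T 0 (add_zero T), hDd, finrank_odd] at h2'
  omega

end Cfsg.Agent.Classical.IsoInvariant.OrthOdd
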