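import Mathlib
import Cfsg.Agent.Lib.Classical.IsoInvariant.NdType
import Cfsg.Agent.Lib.Classical.IsoInvariant.OrthOdd

/-!
# Nondegenerate subspaces invariant under an isometry of prime order of a symmetric form
-/

set_option autoImplicit false
set_option linter.unusedSectionVars false

namespace Cfsg.Agent.Classical.IsoInvariant.NdPieces

open Module Polynomial
open Cfsg.Agent.Forms.Elusive Cfsg.Agent.Forms.Elusive.Pieces
open Cfsg.Agent.Classical.IsoInvariant.NdType

variable {F : Type*} [Field F] [Fintype F] {V : Type*} [AddCommGroup V] [Module F V] [FiniteDimensional F V]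
  {B : LinearMap.BilinForm F V} {g : V →ₗ[F] V} {r i c : ℕ} [hr : Fact r.Prime]

theorem inj_of_pow (hg : g ^ r = 1) : Function.Injective g := fun u v e => by
  have := congrArg (g ^ (r - 1)) e
  rwa [← Module.End.mul_apply, ← Module.End.mul_apply, ← pow_succ, Nat.sub_add_cancel hr.out.one_lt.le,
    hg, Module.End.one_apply, Module.End.one_apply] at this

/-- decomposition of an invariant subspace by a kernel -/
theorem exists_split (hr0 : (r : F) ≠ 0) (hi : i = orderOf ((Fintype.card F : ℕ) : ZMod r)) (hg : g ^ r = 1)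
    (P : F[X]) {W : Submodule F V} (hW : W.map g ≤ W) {w : V} (hw : w ∈ W) :
    ∃ a ∈ W, aeval g P a = 0 ∧ ∃ y ∈ W, w = a + aeval g P y := by
  set T := aeval g P with hT
  have hqi : ((Fintype.card F ^ i : ℕ) : ZMod r) = ((1 : ℕ) : ZMod r) := by
    rw [Nat.cast_pow, Nat.cast_one, hi, pow_orderOf_eq_one]
  have hTi : T ^ (Fintype.card F ^ i) = T := by
    rw [hT, ← aeval_pow_card, pow_eq_of_modEq hg hqi, pow_one]
  have h2 : 2 ≤ Fintype.card F ^ i :=
    le_trans Fintype.one_lt_card (Nat.le_self_pow (order_pos hr0 hi).ne' _)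
  have hTW : ∀ k : ℕ, ∀ x ∈ W, (T ^ k) x ∈ W := fun k => by
    induction k with
    | zero => intro x hx; simpa using hx
    | succ k ih => intro x hx; rw [pow_succ', Module.End.mul_apply]; exact aeval_mem hW P (ih x hx)
  set y := (T ^ (Fintype.card F ^ i - 2)) w with hy
  have hTT : T (T y) = T w := by
    conv_rhs => rw [← hTi, show Fintype.card F ^ i = 1 + (1 + (Fintype.card F ^ i - 2)) by omega,
      pow_add, pow_one, Module.End.mul_apply, pow_add, pow_one, Module.End.mul_apply, ← hy]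
  exact ⟨w - T y, sub_mem hw (aeval_mem hW P (hTW _ w hw)), by rw [map_sub, hTT, sub_self], y, hTW _ w hw,
    (sub_add_cancel w (T y)).symm⟩

/-- fixed vectors are orthogonal to invariant subspaces without fixed vectors -/
theorem orth_fix_free (hiso : ∀ u v, B (g u) (g v) = B u v) {W : Submodule F V} (hW : W.map g ≤ W)
    (hfree : ∀ v ∈ W, g v = v → v = 0) : OrthTo B (fixSp g) W := by
  intro u hu w hw
  let φ : W →ₗ[F] W := (g - 1).restrict (p := W) (q := W) fun v hv => sub_mem (hW ⟨v, hv, rfl⟩) hv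
  have hφ : ∀ x : W, (φ x : V) = g x - x := fun x => rfl
  have hinj : Function.Injective φ := (injective_iff_map_eq_zero φ).2 fun x hx => by
    refine Subtype.ext (hfree x x.2 (sub_eq_zero.1 ?_))
    rw [← hφ, hx]; rfl
  obtain ⟨y, hy⟩ := LinearMap.injective_iff_surjective.1 hinj ⟨w, hw⟩
  have e : g (y : V) - y = w := by rw [← hφ, hy]
  rw [← e, map_sub]
  conv_lhs => arg 2; rw [← hiso u, mem_fixSp.1 hu]
  exact sub_self _

/-- a cyclic subspace -/
theorem exists_cyclic_le {P : F[X]} (hP : P.Monic) (hPd : P.natDegree = i) {K : Submodule F V}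
    (hK : K.map g ≤ K) {v : V} (hv : v ∈ K) (hPv : aeval g P v = 0) :
    ∃ S : Submodule F V, v ∈ S ∧ S ≤ K ∧ S.map g ≤ S ∧ finrank F S ≤ i := by
  classical
  let φ : F[X] →ₗ[F] V := (LinearMap.applyₗ v).comp (aeval g).toLinearMap
  have hφ : ∀ Q : F[X], φ Q = aeval g Q v := fun Q => rfl
  have hred : ∀ Q : F[X], φ Q ∈ Submodule.span F (Set.range fun l : Fin i => φ (X ^ (l : ℕ))) := by
    intro Q
    have e : φ Q = φ (Q %ₘ P) := by
      rw [hφ, hφ]
      conv_lhs => rw [← Q.modByMonic_add_div P, map_add, LinearMap.add_apply, mul_comm P, map_mul,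
        Module.End.mul_apply, hPv, map_zero, add_zero]
    by_cases h0 : Q %ₘ P = 0
    · rw [e, h0, map_zero]; exact zero_mem _
    have hlt : (Q %ₘ P).natDegree < i := hPd ▸ natDegree_lt_natDegree h0 (degree_modByMonic_lt Q hP)
    rw [e, (Q %ₘ P).as_sum_range_C_mul_X_pow' hlt, map_sum]
    refine Submodule.sum_mem _ fun l hl => ?_
    rw [← smul_eq_C_mul, map_smul]
    exact Submodule.smul_mem _ _ (Submodule.subset_span ⟨⟨l, Finset.mem_range.1 hl⟩, rfl⟩)
  refine ⟨LinearMap.range φ, ⟨1, by simp [hφ]⟩, ?_, ?_, ?_⟩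
  · rintro _ ⟨Q, rfl⟩
    exact aeval_mem hK Q hv
  · rintro _ ⟨_, ⟨Q, rfl⟩, rfl⟩
    exact ⟨X * Q, by rw [hφ, hφ, map_mul, aeval_X, Module.End.mul_apply]⟩
  · refine (Submodule.finrank_mono (?_ : LinearMap.range φ ≤ _)).trans
      ((finrank_range_le_card fun l : Fin i => φ (X ^ (l : ℕ))).trans (Fintype.card_fin i).le)
    rintro _ ⟨Q, rfl⟩
    exact hred Q

/-- the moved dimensions are multiples of `c` -/
theorem dvd_free (hB : B.IsRefl) (hiso : ∀ u v, B (g u) (g v) = B u v) (hr2 : r ≠ 2) (hr0 : (r : F) ≠ 0)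
    (hi : i = orderOf ((Fintype.card F : ℕ) : ZMod r)) (hc : c = if Even i then i else 2 * i) (hg : g ^ r = 1)
    {W : Submodule F V} (hW : NdOn B W) (hWi : W.map g ≤ W) (hfree : ∀ v ∈ W, g v = v → v = 0) :
    c ∣ finrank F W := by
  rcases Nat.even_or_odd i with hev | hodd
  · rw [hc, if_pos hev, hi]
    exact dvd_finrank_of_free hWi (fun v _ => by rw [hg]; rfl) hfree
  · rw [hc, if_neg (Nat.not_even_iff_odd.2 hodd)]
    exact OrthOdd.two_dvd_moved hB hiso hr2 hr0 hi hodd hg W hW hWi hfree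

/-- a smallest nondegenerate invariant piece -/
theorem exists_piece (hS : B.IsSymm) (h2 : (2 : F) ≠ 0) (hiso : ∀ u v, B (g u) (g v) = B u v) (hr2 : r ≠ 2)
    (hr0 : (r : F) ≠ 0) (hi : i = orderOf ((Fintype.card F : ℕ) : ZMod r))
    (hc : c = if Even i then i else 2 * i) (hg : g ^ r = 1) {W : Submodule F V} (hW : NdOn B W)
    (hWi : W.map g ≤ W) (hfree : ∀ v ∈ W, g v = v → v = 0) (hne : W ≠ ⊥) :
    ∃ P, P ≤ W ∧ NdOn B P ∧ P.map g ≤ P ∧ finrank F P = c := by
  have hB : B.IsRefl := fun x y h => by rw [hS.eq, h]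
  have hi0 := order_pos hr0 hi
  have hinj := inj_of_pow (r := r) hg
  have hgr : ∀ v, (g ^ r) v = v := fun v => by rw [hg]; rfl
  have hH : Homog g i W := by rw [hi]; exact homog_of_free hr0 hWi (fun v _ => hgr v) hfree
  have hpos : 0 < finrank F W := Nat.pos_of_ne_zero fun e => hne (Submodule.finrank_eq_zero.1 e)
  rcases Nat.even_or_odd i with hev | hodd
  · rw [if_pos hev] at hc
    subst c
    obtain ⟨gs, -, hgs, hkill⟩ := exists_killing_list (g := g) hr0 hi hg
    obtain ⟨P, hP, hbig⟩ := exists_big_kernel hWi (a := 0) gs (hkill W hWi hfree) (by rw [mul_zero]; exact hpos)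
    obtain ⟨hPm, hPd, -⟩ := hgs P hP
    set K := W ⊓ LinearMap.ker (aeval g P) with hK
    have hKi : K.map g ≤ K := inv_inf hWi (ker_inv P)
    have hKnd : NdOn B K := by
      intro v hv hv0
      obtain ⟨w, hw, hvw⟩ := hW v hv.1 hv0
      obtain ⟨a, ha, hPa, y, -, rfl⟩ := exists_split hr0 hi hg P hWi hw
      refine ⟨a, ⟨ha, LinearMap.mem_ker.2 hPa⟩, ?_⟩
      rwa [map_add, ker_perp_range hiso hi hi0 hev hg (LinearMap.mem_ker.1 hv.2) y, add_zero] at hvw
    obtain ⟨v, hv, hvv⟩ : ∃ v ∈ K, B v v ≠ 0 := by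
      by_contra hall
      push Not at hall
      obtain ⟨u, hu, hu0⟩ := Submodule.exists_mem_ne_zero_of_ne_bot
        (show K ≠ ⊥ from fun e => by rw [e, finrank_bot] at hbig; omega)
      obtain ⟨w, hw, huw⟩ := hKnd u hu hu0
      have h1 := hall (u + w) (add_mem hu hw)
      simp only [map_add, LinearMap.add_apply, hall u hu, hall w hw, hS.eq w u] at h1
      exact huw ((mul_eq_zero.1 (show (2 : F) * B u w = 0 by linear_combination h1)).resolve_left h2)
    obtain ⟨S, hvS, hSK, hSi, hSd⟩ := exists_cyclic_le hPm hPd hKi hv (LinearMap.mem_ker.1 hv.2)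
    have hSW : S ≤ W := hSK.trans inf_le_left
    have hS0 : S ≠ ⊥ := fun e => hvv (by
      have h0 : v = 0 := by rw [e] at hvS; exact (Submodule.mem_bot F).1 hvS
      rw [h0]; simp)
    have hSd' : finrank F S = i := le_antisymm hSd (Nat.le_of_dvd
      (Nat.pos_of_ne_zero fun e => hS0 (Submodule.finrank_eq_zero.1 e)) (hH.dvd S hSi hSW))
    refine ⟨S, hSW, fun x hx hx0 => ?_, hSi, hSd'⟩
    by_contra hcon
    push Not at hcon
    set R := S ⊓ B.orthogonal S with hR
    have hxR : x ∈ R := mem_perp.2 ⟨hx, fun p hp => hB _ _ (hcon p hp)⟩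
    have hvR : v ∉ R := fun h => hvv ((mem_perp.1 h).2 v hvS)
    have h1 := Nat.le_of_dvd (Nat.pos_of_ne_zero fun e => hx0
        ((Submodule.mem_bot F).1 (Submodule.finrank_eq_zero.1 e ▸ hxR)))
      (hH.dvd R (perp_inv' hiso hinj hSi hSi) (inf_le_left.trans hSW))
    have h1' : i ≤ finrank F R := h1
    have hle : R ≤ S := inf_le_left
    exact hvR ((Submodule.eq_of_le_of_finrank_le hle (by omega)).symm ▸ hvS)
  · rw [if_neg (Nat.not_even_iff_odd.2 hodd)] at hc
    subst c
    have hss : Module.End.IsSemisimple g :=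
      isSemisimple_of_pow (c := 1) (fun v => by rw [hgr, one_smul]) hr0 one_ne_zero
    have h2i := Nat.le_of_dvd hpos (OrthOdd.two_dvd_moved hB hiso hr2 hr0 hi hodd hg W hW hWi hfree)
    obtain ⟨U, hU, hUW, hUd⟩ := hH.exists_sub 1 (by omega)
    rw [one_mul] at hUd
    have hI := Refl.iso_of_odd hB hiso hr2 hr0 hi hodd hg hU (fun v hv => hfree v (hUW hv)) hUd
    obtain ⟨R, hRW, hR, hRi, -, -, hsum⟩ := Refl.exists_middle hB hiso hinj hss hW hWi hUW hU hI
    obtain ⟨hnd, -, -, hdim⟩ := perp_nd hB hW hR hRW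
    exact ⟨_, inf_le_left, hnd, perp_inv' hiso hinj hWi hRi, by omega⟩

/-- invariant nondegenerate subspaces of all possible dimensions -/
theorem exists_nd_inv (hS : B.IsSymm) (h2 : (2 : F) ≠ 0) (hiso : ∀ u v, B (g u) (g v) = B u v) (hr2 : r ≠ 2)
    (hr0 : (r : F) ≠ 0) (hi : i = orderOf ((Fintype.card F : ℕ) : ZMod r))
    (hc : c = if Even i then i else 2 * i) (hg : g ^ r = 1) {D : Submodule F V} (hD : NdOn B D)
    (hDi : D.map g ≤ D) (hfree : ∀ v ∈ D, g v = v → v = 0) :
    ∀ j : ℕ, c * j ≤ finrank F D → ∃ U, U ≤ D ∧ NdOn B U ∧ U.map g ≤ U ∧ finrank F U = c * j := by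
  have hB : B.IsRefl := fun x y h => by rw [hS.eq, h]
  have hc0 : 0 < c := by
    have := order_pos hr0 hi
    rw [hc]; split_ifs <;> omega
  intro j
  induction j with
  | zero => exact fun _ => ⟨⊥, bot_le, fun v hv hv0 => absurd ((Submodule.mem_bot F).1 hv) hv0, by simp, by simp⟩
  | succ j ih =>
    intro hj
    rw [Nat.mul_succ] at hj
    obtain ⟨U, hUD, hU, hUi, hUd⟩ := ih (by omega)
    obtain ⟨hQ, ho, -, hdim⟩ := perp_nd hB hD hU hUD
    obtain ⟨P, hPQ, hP, hPi, hPd⟩ := exists_piece hS h2 hiso hr2 hr0 hi hc hg hQ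
      (perp_inv' hiso (inj_of_pow (r := r) hg) hDi hUi) (fun v hv => hfree v hv.1)
      (fun e => by rw [e, finrank_bot] at hdim; omega)
    have ho' : OrthTo B U P := fun u hu v hv => ho u hu v (hPQ hv)
    exact ⟨U ⊔ P, sup_le hUD (hPQ.trans inf_le_left), nd_sup hB hU hP ho', inv_sup hUi hPi, by
      rw [finrank_sup_of_disjoint (disjoint_of_orth hB hU ho'), hUd, hPd, Nat.mul_succ]⟩

/-- the type of an invariant subspace without fixed vectors -/
theorem free_type (hset : OrthPrimeClasses.Setting F r i) (h2 : (2 : F) ≠ 0) (hS : B.IsSymm)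
    (hiso : ∀ u v, B (g u) (g v) = B u v) (hg : g ^ r = 1) {U : Submodule F V} (hU : NdOn B U)
    (hUi : U.map g ≤ U) (hfree : ∀ v ∈ U, g v = v → v = 0) {k : ℕ} (hk : finrank F U = 2 * k) :
    Plus B U ↔ Odd i ∨ Even (2 * k / i) := by
  classical
  let L : (Fin (2 * k) → F) ≃ₗ[F] U := (Module.finBasisOfFinrankEq F U hk).equivFun.symm
  let C : LinearMap.BilinForm F (Fin (2 * k) → F) := (B.restrict U).compl₁₂ L.toLinearMap L.toLinearMap
  set T := C.toQuadraticMap with hT
  have hC : ∀ x y, C x y = B (L x : V) (L y : V) := fun x y => rfl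
  have hT' : ∀ x, T x = B (L x : V) (L x : V) := fun x => by rw [hT, LinearMap.BilinMap.toQuadraticMap_apply, hC]
  have hTnd : (QuadraticMap.polarBilin T).Nondegenerate := by
    have hpol : ∀ x y, QuadraticMap.polarBilin T x y = 2 * B (L x : V) (L y : V) := fun x y => by
      rw [QuadraticMap.polarBilin_apply_apply, hT, LinearMap.BilinMap.polar_toQuadraticMap, hC, hC,
        hS.eq (L y : V)]
      ring
    have key : ∀ x, (∀ y, QuadraticMap.polarBilin T x y = 0) → x = 0 := fun x hx => by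
      by_contra h0
      obtain ⟨u, hu, hxu⟩ := hU (L x : V) (L x).2 fun e => h0 (L.map_eq_zero_iff.1 (Subtype.ext e))
      have := hx (L.symm ⟨u, hu⟩)
      rw [hpol, L.apply_symm_apply] at this
      exact hxu ((mul_eq_zero.1 this).resolve_left h2)
    exact ⟨key, fun y hy => key y fun x => by rw [← hy x, hpol, hpol, hS.eq]⟩
  let g' : U →ₗ[F] U := g.restrict fun v hv => hUi ⟨v, hv, rfl⟩
  let f : Module.End F (Fin (2 * k) → F) := L.symm.toLinearMap ∘ₗ g' ∘ₗ L.toLinearMap
  have hf : ∀ x, (L (f x) : V) = g (L x : V) := fun x => by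
    show ((L (L.symm (g' (L x)))) : V) = _
    rw [L.apply_symm_apply]
    rfl
  have hfp : ∀ (n : ℕ) x, (L ((f ^ n) x) : V) = (g ^ n) (L x : V) := fun n => by
    induction n with
    | zero => simp
    | succ n ih => intro x; rw [pow_succ', pow_succ', Module.End.mul_apply, Module.End.mul_apply, hf, ih]
  set A := LinearMap.toMatrix' f with hA
  have hAf : ∀ x, Matrix.mulVec A x = f x := fun x => by
    rw [hA, ← Matrix.toLin'_apply, Matrix.toLin'_toMatrix']
  have hpres : ∀ x, T (Matrix.mulVec A x) = T x := fun x => by rw [hAf, hT', hT', hf, hiso]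
  have hpow : A ^ r = 1 := by
    have e : f ^ r = 1 := LinearMap.ext fun x => L.injective (Subtype.ext (by
      rw [hfp, hg, Module.End.one_apply, Module.End.one_apply]))
    exact Matrix.toLin'.injective (by
      rw [Matrix.toLin'_pow, hA, Matrix.toLin'_toMatrix', e, Matrix.toLin'_one]; rfl)
  obtain ⟨s, hs, hdat⟩ := OrthPrimeClasses.exists_good hset hTnd hpres hpow
  rw [Fintype.card_fin] at hs
  have hz : (Polynomial.X - Polynomial.C (1 : F)) ∉ s := by
    intro hz
    have h1 : A.charpoly.eval 1 = 0 := by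
      obtain ⟨w, hw⟩ := Multiset.dvd_prod hz
      rw [hdat.char, hw, eval_mul, eval_sub, eval_X, eval_C, sub_self, zero_mul]
    rw [Matrix.eval_charpoly, ← Matrix.exists_mulVec_eq_zero_iff] at h1
    obtain ⟨x, hx0, hx⟩ := h1
    rw [map_one, Matrix.sub_mulVec, Matrix.one_mulVec, sub_eq_zero, hAf] at hx
    refine hx0 (L.map_eq_zero_iff.1 (Subtype.ext (hfree _ (L x).2 ?_)))
    rw [← hf, ← hx]
  rw [← OrthPrimeClasses.type_of_datum hset (Fintype.card_fin _) hdat hs hz]
  constructor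
  · rintro ⟨W, hW, hI, hd⟩
    refine ⟨(W.comap U.subtype).map L.symm.toLinearMap, ?_, ?_⟩
    · rintro _ ⟨w, hw, rfl⟩
      rw [hT', LinearEquiv.coe_coe, L.apply_symm_apply]
      exact hI _ hw _ hw
    · rw [LinearEquiv.finrank_map_eq, (Submodule.comapSubtypeEquivOfLe hW).finrank_eq]
      omega
  · rintro ⟨W, hW, hd⟩
    refine ⟨(W.map L.toLinearMap).map U.subtype, Submodule.map_subtype_le U _, ?_, ?_⟩
    · rintro _ ⟨_, ⟨x, hx, rfl⟩, rfl⟩ _ ⟨_, ⟨y, hy, rfl⟩, rfl⟩
      have h1 := hW (x + y) (add_mem hx hy)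
      rw [hT', map_add] at h1
      have hxx := hW x hx
      have hyy := hW y hy
      rw [hT'] at hxx hyy
      simp only [Submodule.coe_add, map_add, LinearMap.add_apply, hxx, hyy, hS.eq (L y : V) (L x : V)] at h1
      exact (mul_eq_zero.1 (show (2 : F) * B (L x : V) (L y : V) = 0 by linear_combination h1)).resolve_left h2
    · rw [Submodule.finrank_map_subtype_eq, LinearEquiv.finrank_map_eq, hd, hk]

/-- sufficiency for odd `r` prime to `q` -/
theorem exists_invariant (hset : OrthPrimeClasses.Setting F r i) (hnd : B.Nondegenerate) (hS : B.IsSymm)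
    (h2 : (2 : F) ≠ 0) (hiso : ∀ u v, B (g u) (g v) = B u v) (hr2 : r ≠ 2) (hr0 : (r : F) ≠ 0)
    (hg : g ^ r = 1) (hi : i = orderOf ((Fintype.card F : ℕ) : ZMod r))
    (hc : c = if Even i then i else 2 * i) {d m : ℕ} (hV : finrank F V = 2 * d + 1) (hme : Even m)
    (hmn : m ≤ 2 * d) (hk : m % c < (2 * d + 1) % c) (want : Prop)
    (ht : m % c = 0 → ((Odd i ∨ Even (m / c)) ↔ want)) :
    ∃ W : Submodule F V, finrank F W = m ∧ NdOn B W ∧ (Plus B W ↔ want) ∧ W.map g ≤ W := by
  have hB : B.IsRefl := fun x y h => by rw [hS.eq, h]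
  have hi0 := order_pos hr0 hi
  obtain ⟨hF0, D, hD, hDi, hort, -, hfree, hsum⟩ := Refl.fix_free hnd hB hiso hr0 hi hg
  rw [hV] at hsum
  obtain ⟨A, hA⟩ := dvd_free hB hiso hr2 hr0 hi hc hg hD hDi hfree
  obtain ⟨h, hh⟩ : ∃ h, c = 2 * h := by
    rw [hc]; split_ifs with he
    · exact he.two_dvd
    · exact ⟨i, rfl⟩
  obtain ⟨k, hk2⟩ := hme.two_dvd
  set j := min (m / c) A with hj
  obtain ⟨U, hUD, hU, hUi, hUd⟩ := exists_nd_inv hS h2 hiso hr2 hr0 hi hc hg hD hDi hfree j
    (by rw [hA]; exact Nat.mul_le_mul_left c (min_le_right _ _))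
  have hdm := Nat.div_add_mod m c
  have hcj : c * j ≤ m := (Nat.mul_le_mul_left c (min_le_left _ _)).trans (Nat.mul_div_le m c)
  have hlf : m - c * j < finrank F (fixSp g) := by
    by_cases hcase : m / c ≤ A
    · rw [hj, min_eq_left hcase]
      have hmod : finrank F (fixSp g) % c = (2 * d + 1) % c := by
        rw [← hsum, hA, Nat.add_mul_mod_self_left]
      have := Nat.mod_le (finrank F (fixSp g)) c
      omega
    · have hjA : j = A := min_eq_right (by omega)
      rw [hjA] at hcj ⊢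
      omega
  have hoU : OrthTo B (fixSp g) U := fun u hu v hv => hort u hu v (hUD hv)
  rcases Nat.eq_zero_or_pos (m - c * j) with h0 | h0
  · have hmj : c * j = m := by omega
    refine ⟨U, by omega, hU, ?_, hUi⟩
    have hm0 : m % c = 0 := by rw [← hmj, Nat.mul_mod_right]
    have hcpos : 0 < c := by rw [hc]; split_ifs <;> omega
    have hjm : m / c = j := by rw [← hmj, Nat.mul_div_cancel_left _ hcpos]
    rw [free_type hset h2 hS hiso hg hU hUi (fun v hv => hfree v (hUD hv)) (k := k) (by omega), ← ht hm0, hjm]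
    rcases Nat.even_or_odd i with hev | hodd
    · rw [if_pos hev] at hc
      rw [hc] at hmj
      rw [show 2 * k = i * j by omega, Nat.mul_div_cancel_left _ hi0]
    · exact iff_of_true (Or.inl hodd) (Or.inl hodd)
  obtain ⟨L, hL, hnd', hd', htype⟩ := exists_sum_type h2 hS hF0 hU hoU h0 hlf (k := k)
    (by rw [hUd]; omega) want
  refine ⟨L ⊔ U, by omega, hnd', htype, inv_sup ?_ hUi⟩
  rintro _ ⟨v, hv, rfl⟩
  rw [mem_fixSp.1 (hL hv)]; exact hv

/-- involutions -/
theorem exists_invariant_two (hnd : B.Nondegenerate) (hS : B.IsSymm) (h2 : (2 : F) ≠ 0)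
    (hiso : ∀ u v, B (g u) (g v) = B u v) (hgg : g * g = 1) {m : ℕ} (hme : Even m) (hm : 2 ≤ m)
    (hmn : m < finrank F V) (hne : g ≠ 1) (want : Prop) :
    ∃ W : Submodule F V, finrank F W = m ∧ NdOn B W ∧ (Plus B W ↔ want) ∧ W.map g ≤ W := by
  have hB : B.IsRefl := fun x y h => by rw [hS.eq, h]
  have : Fact (Nat.Prime 2) := ⟨Nat.prime_two⟩
  obtain ⟨hF0, D, hD, hDi, hort, hdis, hfree, hsum⟩ := Refl.fix_free (r := 2) hnd hB hiso (by exact_mod_cast h2)
    rfl (by rw [sq]; exact hgg)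
  have hgg' : ∀ v, g (g v) = v := fun v => by rw [← Module.End.mul_apply, hgg, Module.End.one_apply]
  have hneg : ∀ v ∈ D, g v = -v := fun v hv =>
    eq_neg_of_add_eq_zero_left (hfree _ (add_mem (hDi ⟨v, hv, rfl⟩) hv) (by rw [map_add, hgg', add_comm]))
  have hinvD : ∀ U : Submodule F V, U ≤ D → U.map g ≤ U := fun U hU => by
    rintro _ ⟨v, hv, rfl⟩
    rw [hneg v (hU hv)]; exact neg_mem hv
  have hinvF : ∀ U : Submodule F V, U ≤ fixSp g → U.map g ≤ U := fun U hU => by
    rintro _ ⟨v, hv, rfl⟩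
    rw [mem_fixSp.1 (hU hv)]; exact hv
  have he0 : 0 < finrank F D := by
    by_contra h0
    have hfix : fixSp g = ⊤ := Submodule.eq_top_of_finrank_eq (by omega)
    exact hne (LinearMap.ext fun v => mem_fixSp.1 (hfix.symm ▸ Submodule.mem_top))
  obtain ⟨k, hk2⟩ := hme.two_dvd
  have hort' : OrthTo B D (fixSp g) := Refl.orthTo_symm hB hort
  set f := finrank F (fixSp g) with hf
  set e := finrank F D with he
  rcases lt_or_ge (m - 1) (f + 1) with hcase | hcase
  · -- one vector of the eigenspace for `-1`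
    rcases Nat.lt_or_ge 1 e with he1 | he1
    · obtain ⟨L, hL, hLnd, hLd⟩ : ∃ L, L ≤ fixSp g ∧ NdOn B L ∧ finrank F L = m - 1 := by
        rcases Nat.lt_or_ge (m - 1) f with h | h
        · obtain ⟨L, hL, h1, h3, -⟩ := exists_family h2 hS (c := 1) one_ne_zero (m - 1 - 1) hF0 (by omega)
          exact ⟨L, hL, h1, by omega⟩
        · exact ⟨fixSp g, le_rfl, hF0, by omega⟩
      obtain ⟨K, hK, hnd', hd', htype⟩ := exists_sum_type h2 hS hD hLnd (fun u hu v hv => hort' u hu v (hL hv))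
        one_pos he1 (k := k) (by rw [hLd]; omega) want
      exact ⟨K ⊔ L, by omega, hnd', htype, inv_sup (hinvD K hK) (hinvF L hL)⟩
    · obtain ⟨K, hK, hnd', hd', htype⟩ := exists_sum_type h2 hS hF0 hD hort (l := m - 1) (by omega) (by omega)
        (k := k) (by omega) want
      exact ⟨K ⊔ D, by omega, hnd', htype, inv_sup (hinvF K hK) hDi⟩
  · obtain ⟨K, hK, hnd', hd', htype⟩ := exists_sum_type h2 hS hD hF0 hort' (l := m - f) (by omega) (by omega)
      (k := k) (by omega) want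
    exact ⟨K ⊔ fixSp g, by omega, hnd', htype, inv_sup (hinvD K hK) (hinvF _ le_rfl)⟩

/-- the shape of an invariant nondegenerate subspace -/
theorem split_nd (hset : OrthPrimeClasses.Setting F r i) (hS : B.IsSymm) (h2 : (2 : F) ≠ 0)
    (hiso : ∀ u v, B (g u) (g v) = B u v) (hr2 : r ≠ 2) (hr0 : (r : F) ≠ 0) (hg : g ^ r = 1)
    (hi : i = orderOf ((Fintype.card F : ℕ) : ZMod r)) (hc : c = if Even i then i else 2 * i)
    {W : Submodule F V} (hW : NdOn B W) (hWi : W.map g ≤ W) :
    ∃ l j, finrank F W = l + c * j ∧ l ≤ finrank F (fixSp g) ∧ (l = 0 → (Plus B W ↔ (Odd i ∨ Even j))) := by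
  have hB : B.IsRefl := fun x y h => by rw [hS.eq, h]
  have hgr : ∀ v, (g ^ r) v = v := fun v => by rw [hg]; rfl
  have hi0 := order_pos hr0 hi
  obtain ⟨U, hUW, hd, hd', hH, hsum⟩ := exists_free_part hr0 hgr hWi
  have hfree : ∀ v ∈ U, g v = v → v = 0 := fun v hv hgv =>
    Submodule.disjoint_def.1 hd' v (mem_fixSp.2 hgv) hv
  have ho : OrthTo B (fixSp g ⊓ W) U := fun u hu v hv => orth_fix_free hiso hH.inv hfree u hu.1 v hv
  have hsup : (fixSp g ⊓ W) ⊔ U = W := Submodule.eq_of_le_of_finrank_le (sup_le inf_le_right hUW)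
    (by rw [finrank_sup_of_disjoint hd]; omega)
  have hU : NdOn B U := nd_right hB (hsup.symm ▸ hW) ho
  obtain ⟨j, hj⟩ := dvd_free hB hiso hr2 hr0 hi hc hg hU hH.inv hfree
  refine ⟨_, j, by rw [← hj, hsum], Submodule.finrank_mono inf_le_left, fun h0 => ?_⟩
  have hWU : W = U := (Submodule.eq_of_le_of_finrank_le hUW (by omega)).symm
  subst hWU
  obtain ⟨h, hh⟩ : ∃ h, c = 2 * h := by
    rw [hc]; split_ifs with he
    · exact he.two_dvd
    · exact ⟨i, rfl⟩
  rw [free_type hset h2 hS hiso hg hW hWi hfree (k := h * j) (by rw [hj, hh]; ring)]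
  rcases Nat.even_or_odd i with hev | hodd
  · rw [if_pos hev] at hc
    rw [show 2 * (h * j) = i * j by rw [← hc, hh]; ring, Nat.mul_div_cancel_left _ hi0]
  · exact iff_of_true (Or.inl hodd) (Or.inl hodd)

end Cfsg.Agent.Classical.IsoInvariant.NdPieces
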