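import Mathlib
import Cfsg.Agent.Lib.Classical.IsoInvariant.EvenBasic
import Cfsg.Agent.Lib.Forms.Elusive.OrthUnipotent

/-!
# Unipotent elements without invariant subspaces of odd dimension in a prescribed class
-/

set_option autoImplicit false
set_option linter.unusedSectionVars false

namespace Cfsg.Agent.Classical.IsoInvariant.UnipotentOdd

open Module
open Cfsg.Agent.Forms
open Cfsg.Agent.Forms.Elusive Cfsg.Agent.Forms.Elusive.Pieces
open Cfsg.Agent.Classical.JordanChains (Chains parts)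
open Cfsg.Agent.Forms.Reflections (act act_apply act_polar)
open Cfsg.Agent.Classical.IsoInvariant.NdType Cfsg.Agent.Classical.IsoInvariant.EvenDim

section abstract

variable {F : Type*} [Field F] [Fintype F] {V : Type*} [AddCommGroup V] [Module F V] [FiniteDimensional F V]
  {B : LinearMap.BilinForm F V} {g : V →ₗ[F] V}

/-- the discriminants of a space are unique up to squares -/
theorem disc_unique {W : Submodule F V} {δ δ' : F} (h : HasDisc B W δ)
    (h' : HasDisc B W δ') : IsSquare (δ * δ') := by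
  classical
  have mk : ∀ {ε : F}, HasDisc B W ε →
      ∃ (n : ℕ) (b : Basis (Fin n) F W), (Disc.gram (B.restrict W) b).det = ε := by
    intro ε hε
    obtain ⟨n, b, hbs, hbo, hb0, rfl⟩ := hε
    let b' : Fin n → W := fun a => ⟨b a, hbs.le (Submodule.subset_span ⟨a, rfl⟩)⟩
    have hli : LinearIndependent F b' := LinearIndependent.of_comp W.subtype
      (Bases.linearIndependent_of_orth hbo hb0)
    have hspan : ⊤ ≤ Submodule.span F (Set.range b') := by
      intro x _
      have hx : (x : V) ∈ Submodule.span F (Set.range (W.subtype ∘ b')) := hbs.ge x.2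
      rw [Set.range_comp, Submodule.span_image] at hx
      obtain ⟨y, hy, hyx⟩ := hx
      exact Subtype.ext hyx ▸ hy
    refine ⟨n, Basis.mk hli hspan, ?_⟩
    have hg : Disc.gram (B.restrict W) (Basis.mk hli hspan) = Matrix.diagonal fun a => B (b a) (b a) := by
      ext a a'
      rcases eq_or_ne a a' with rfl | hne
      · simp [Disc.gram, b', LinearMap.BilinForm.restrict, LinearMap.domRestrict₁₂_apply]
      · simpa [Disc.gram, b', hne, LinearMap.BilinForm.restrict, LinearMap.domRestrict₁₂_apply] using hbo a a' hne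
    rw [hg, Matrix.det_diagonal]
  obtain ⟨n, b, hb⟩ := mk h
  obtain ⟨n', b', hb'⟩ := mk h'
  obtain ⟨e, -, he⟩ := Disc.det_gram_change (B.restrict W) b b'
  rw [hb, hb'] at he
  exact ⟨e * δ, by rw [he]; ring⟩

/-- an element fixing exactly a line plus a totally isotropic space: the class of the subspaces of dimension
`1` modulo `4` -/
theorem disc_class (hnd : B.Nondegenerate) (hS : B.IsSymm) (h2 : (2 : F) ≠ 0)
    (hiso : ∀ u v, B (g u) (g v) = B u v) {d : ℕ} (hV : finrank F V = 2 * d)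
    (hfix : finrank F (fixSp g) = d) {e : V} (he : g e = e) (hee : B e e ≠ 0)
    (hR : ∀ u v, g u = u → g v = v → B e u = 0 → B e v = 0 → B u v = 0)
    {W : Submodule F V} (hW : NdOn B W) (hWi : W.map g ≤ W) (hodd : Odd (finrank F W)) :
    ∃ U : Submodule F V, (U = W ∨ U = ⊤ ⊓ B.orthogonal W) ∧ finrank F U % 4 = 1 ∧
      ∃ δ, HasDisc B U δ ∧ IsSquare (B e e * δ) := by
  classical
  have hB : B.IsRefl := fun x y h => by rw [hS.eq, h]
  set c := B e e with hcdef
  have hinj : Function.Injective g := fun x y h => by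
    have : x - y = 0 := hnd.1 _ fun z => by
      rw [← hiso, map_sub g, h, sub_self, map_zero, LinearMap.zero_apply]
    exact sub_eq_zero.1 this
  have hdec : ∀ v, g v = v → ∃ (t : F) (r : V), v = t • e + r ∧ g r = r ∧ B e r = 0 := fun v hv =>
    ⟨B e v / c, v - (B e v / c) • e, by abel, by rw [map_sub, map_smul, hv, he], by
      rw [map_sub, map_smul, smul_eq_mul, ← hcdef, div_mul_cancel₀ _ hee, sub_self]⟩
  have hval : ∀ u v, g u = u → g v = v → ∀ (t s : F) (x y : V), u = t • e + x → v = s • e + y →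
      B e x = 0 → B e y = 0 → B u v = t * s * c := by
    intro u v hu hv t s x y hu' hv' hx hy
    have hgx : g x = x := by
      rw [show x = u - t • e by rw [hu']; abel, map_sub, map_smul, hu, he]
    have hgy : g y = y := by
      rw [show y = v - s • e by rw [hv']; abel, map_sub, map_smul, hv, he]
    rw [hu', hv', map_add B, map_smul B, LinearMap.add_apply, LinearMap.smul_apply, map_add (B e), map_smul (B e),
      map_add (B x), map_smul (B x), hy, hB _ _ hx, hR x y hgx hgy hx hy, ← hcdef]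
    simp only [smul_eq_mul]
    ring
  have haniso : ∀ u v, g u = u → g v = v → B u u ≠ 0 → B u v = 0 → B v v = 0 := by
    intro u v hu hv huu huv
    obtain ⟨t, x, hu', -, hx⟩ := hdec u hu
    obtain ⟨s, y, hv', -, hy⟩ := hdec v hv
    rw [hval u u hu hu t t x x hu' hu' hx hx] at huu
    rw [hval u v hu hv t s x y hu' hv' hx hy] at huv
    rw [hval v v hv hv s s y y hv' hv' hy hy]
    rcases mul_eq_zero.1 huv with h | h
    · rcases mul_eq_zero.1 h with h | h
      · exact absurd (by rw [h, zero_mul, zero_mul]) huu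
      · rw [h, zero_mul, zero_mul]
    · exact absurd h hee
  have hisoK : ∀ K : Submodule F V, (∀ v ∈ K, g v = v) → (∀ v ∈ K, B v v = 0) → IsoOn B K := fun K hK hK0 u hu v hv => by
    have h1 := hK0 _ (add_mem hu hv)
    simp only [map_add, LinearMap.add_apply, hK0 u hu, hK0 v hv, hS.eq v u] at h1
    exact (mul_eq_zero.1 (show (2 : F) * B u v = 0 by linear_combination h1)).resolve_left h2
  obtain ⟨hW', ho, hsup, hdim⟩ := perp_nd hB (ndOn_top hnd) hW le_top
  set W' := (⊤ : Submodule F V) ⊓ B.orthogonal W with hW'def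
  have hW'i : W'.map g ≤ W' := perp_inv' hiso hinj le_top hWi
  rw [finrank_top, hV] at hdim
  -- fixed vectors split
  have hsplit : d ≤ finrank F ↥(fixSp g ⊓ W) + finrank F ↥(fixSp g ⊓ W') := by
    rw [← hfix]
    refine le_trans (Submodule.finrank_mono ?_) (Submodule.finrank_add_le_finrank_add_finrank _ _)
    intro v hv
    obtain ⟨a, ha, b, hb, rfl⟩ := Submodule.mem_sup.1 (hsup.symm ▸ Submodule.mem_top : v ∈ W ⊔ W')
    have hgab : g a + g b = a + b := by rw [← map_add]; exact mem_fixSp.1 hv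
    have h1 : g a - a = b - g b := by
      rw [sub_eq_sub_iff_add_eq_add, add_comm b a]
      exact hgab
    have hzero := Submodule.disjoint_def.1 (disjoint_of_orth hB hW ho) (g a - a) (sub_mem (hWi ⟨a, ha, rfl⟩) ha)
      (by rw [h1]; exact sub_mem hb (hW'i ⟨b, hb, rfl⟩))
    have ha' : g a = a := sub_eq_zero.1 hzero
    rw [ha', add_right_inj] at hgab
    exact Submodule.add_mem_sup (S := fixSp g ⊓ W) (T := fixSp g ⊓ W') ⟨mem_fixSp.2 ha', ha⟩
      ⟨mem_fixSp.2 hgab, hb⟩
  have hbound : ∀ U : Submodule F V, NdOn B U → (∀ v ∈ fixSp g ⊓ U, B v v = 0) →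
      2 * finrank F ↥(fixSp g ⊓ U) ≤ finrank F U := fun U hU h0 =>
    Refl.two_le_of_iso hB hU inf_le_right (hisoK _ (fun v hv => mem_fixSp.1 hv.1) h0)
  obtain ⟨l, hl⟩ := hodd
  obtain ⟨U, U'', hU, hUi, hU'', hUU'', hUd, hor, u, hu, hgu, huu, hsplit'⟩ : ∃ U U'' : Submodule F V,
      NdOn B U ∧ U.map g ≤ U ∧ NdOn B U'' ∧ OrthTo B U U'' ∧ finrank F U + finrank F U'' = 2 * d ∧
      (U = W ∨ U = W') ∧ ∃ u ∈ U, g u = u ∧ B u u ≠ 0 ∧
      d ≤ finrank F ↥(fixSp g ⊓ U) + finrank F ↥(fixSp g ⊓ U'') := by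
    by_cases h1 : ∀ v ∈ fixSp g ⊓ W, B v v = 0
    · by_cases h3 : ∀ v ∈ fixSp g ⊓ W', B v v = 0
      · have := hbound W hW h1
        have := hbound W' hW' h3
        omega
      · push Not at h3
        obtain ⟨u, hu, huu⟩ := h3
        exact ⟨W', W, hW', hW'i, hW, fun a ha b hb => hB _ _ (ho b hb a ha), by omega, Or.inr rfl, u, hu.2,
          mem_fixSp.1 hu.1, huu, by omega⟩
    · push Not at h1
      obtain ⟨u, hu, huu⟩ := h1
      exact ⟨W, W', hW, hWi, hW', ho, by omega, Or.inl rfl, u, hu.2, mem_fixSp.1 hu.1, huu, hsplit⟩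
  have hlnd : NdOn B (F ∙ u) := fun x hx hx0 => by
    obtain ⟨t, rfl⟩ := Submodule.mem_span_singleton.1 hx
    refine ⟨u, Submodule.mem_span_singleton_self u, ?_⟩
    rw [map_smul, LinearMap.smul_apply, smul_eq_mul]
    exact mul_ne_zero (fun e => hx0 (by rw [e, zero_smul])) huu
  have hu0 : u ≠ 0 := fun e => huu (by rw [e]; simp)
  have hlU : (F ∙ u) ≤ U := (Submodule.span_singleton_le_iff_mem _ _).2 hu
  have hli : (F ∙ u).map g ≤ F ∙ u := by
    rintro _ ⟨x, hx, rfl⟩
    obtain ⟨t, rfl⟩ := Submodule.mem_span_singleton.1 hx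
    rw [map_smul, hgu]; exact hx
  obtain ⟨hU', ho', hsup', hdim'⟩ := perp_nd hB hU hlnd hlU
  rw [finrank_span_singleton hu0] at hdim'
  set U' := U ⊓ B.orthogonal (F ∙ u) with hU'def
  have hU'i : U'.map g ≤ U' := perp_inv' hiso hinj hUi hli
  have hK0 : ∀ v ∈ fixSp g ⊓ U', B v v = 0 := fun v hv =>
    haniso u v hgu (mem_fixSp.1 hv.1) huu (ho' u (Submodule.mem_span_singleton_self u) v hv.2)
  have hK0' : ∀ v ∈ fixSp g ⊓ U'', B v v = 0 := fun v hv =>
    haniso u v hgu (mem_fixSp.1 hv.1) huu (hUU'' u hu v hv.2)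
  have hb1 := hbound U' hU' hK0
  have hb2 := hbound U'' hU'' hK0'
  have hle1 : finrank F ↥(fixSp g ⊓ U) ≤ finrank F ↥(fixSp g ⊓ U') + 1 := by
    refine le_trans (Submodule.finrank_mono (?_ : fixSp g ⊓ U ≤ (fixSp g ⊓ U') ⊔ (F ∙ u)))
      (le_trans (Submodule.finrank_add_le_finrank_add_finrank _ _) (by rw [finrank_span_singleton hu0]))
    intro v hv
    obtain ⟨a, ha, b, hb, hab⟩ := Submodule.mem_sup.1 (hsup'.symm ▸ hv.2 : v ∈ (F ∙ u) ⊔ U')
    refine Submodule.mem_sup.2 ⟨b, ⟨?_, hb⟩, a, ha, by rw [add_comm, hab]⟩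
    rw [show b = v - a by rw [← hab]; abel]
    obtain ⟨t, rfl⟩ := Submodule.mem_span_singleton.1 ha
    exact sub_mem hv.1 (Submodule.smul_mem _ _ (mem_fixSp.2 hgu))
  have hUodd : ∃ j, finrank F U = 2 * j + 1 := by
    rcases hor with rfl | rfl
    · exact ⟨l, hl⟩
    · exact ⟨d - l - 1, by omega⟩
  obtain ⟨j, hj⟩ := hUodd
  set K := fixSp g ⊓ U' with hKdef
  have hKd : finrank F K = j := by omega
  have hKiso : IsoOn B K := hisoK _ (fun v hv => mem_fixSp.1 hv.1) hK0
  have hplus : Plus B U' := ⟨K, inf_le_right, hKiso, by omega⟩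
  -- `g - 1` maps `U'` into `K`
  have hKle : K ≤ U' := inf_le_right
  have hperp := Refl.perp_dim hB hU' hKle
  have hKeq : K = U' ⊓ B.orthogonal K := Submodule.eq_of_le_of_finrank_le
    (fun x hx => mem_perp.2 ⟨hx.2, fun p hp => hKiso p hp x hx⟩) (by omega)
  set N : V →ₗ[F] V := g - 1 with hN
  have hNK : ∀ x ∈ U', N x ∈ K := fun x hx => by
    rw [hKeq]
    refine mem_perp.2 ⟨sub_mem (hU'i ⟨x, hx, rfl⟩) hx, fun p hp => ?_⟩
    show B p (g x - x) = 0
    rw [map_sub]
    conv_lhs => arg 1; rw [← mem_fixSp.1 hp.1, hiso]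
    exact sub_self _
  have hNalt : ∀ x ∈ U', B (N x) x = 0 := fun x hx => by
    have h1 := hiso x x
    have h3 : g x = x + N x := by rw [hN]; simp
    have h4 : B (N x) (N x) = 0 := hKiso _ (hNK x hx) _ (hNK x hx)
    rw [h3] at h1
    simp only [map_add, LinearMap.add_apply, h4, hS.eq x (N x)] at h1
    exact (mul_eq_zero.1 (show (2 : F) * B (N x) x = 0 by linear_combination h1)).resolve_left h2
  obtain ⟨L, hL⟩ := Submodule.exists_isCompl (K.comap U'.subtype)
  let C : LinearMap.BilinForm F L := B.compl₁₂ ((N ∘ₗ U'.subtype) ∘ₗ L.subtype) (U'.subtype ∘ₗ L.subtype)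
  have hC : ∀ x y : L, C x y = B (N ((x : U') : V)) ((y : U') : V) := fun x y => rfl
  have hCalt : C.IsAlt := fun x => hNalt _ (x : U').2
  have hCleft : ∀ x, (∀ y, C x y = 0) → x = 0 := fun x hx => by
    have hz : N ((x : U') : V) = 0 := by
      by_contra h0
      obtain ⟨w, hw, hne⟩ := hU' _ (hNK _ (x : U').2).2 h0
      obtain ⟨a, ha, b, hb, hab⟩ := Submodule.mem_sup.1
        (hL.sup_eq_top.symm ▸ Submodule.mem_top : (⟨w, hw⟩ : U') ∈ K.comap U'.subtype ⊔ L)
      refine hne ?_
      rw [show w = (a : V) + (b : V) from (congrArg Subtype.val hab).symm, map_add,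
        hKiso _ (hNK _ (x : U').2) (a : V) (Submodule.mem_comap.1 ha), zero_add]
      exact hx ⟨b, hb⟩
    refine Subtype.ext (Submodule.disjoint_def.1 hL.disjoint _ ?_ x.2)
    refine ⟨mem_fixSp.2 ?_, (x : U').2⟩
    rw [hN, LinearMap.sub_apply, Module.End.one_apply, sub_eq_zero] at hz
    exact hz
  have hCnd : C.Nondegenerate := ⟨hCleft, fun y hy => hCleft y fun x => by
    rw [← LinearMap.IsAlt.neg hCalt, hy, neg_zero]⟩
  obtain ⟨w, hw⟩ := Bases.even_finrank_of_alt C hCalt hCnd
  have hLd : finrank F L = j := by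
    have h1 := Submodule.finrank_add_eq_of_isCompl hL
    rw [(Submodule.comapSubtypeEquivOfLe hKle).finrank_eq] at h1
    omega
  refine ⟨U, hor, by omega, ?_⟩
  obtain ⟨ε, hε⟩ := exists_hasDisc h2 hS hU'
  have hεsq : IsSquare ε := by
    have h1 := (plus_iff h2 hS hU' hε (k := j) (by omega)).1 hplus
    rwa [show j = 2 * w by omega, pow_mul, neg_one_sq, one_pow, one_mul] at h1
  have hline : HasDisc B (F ∙ u) (B u u) :=
    ⟨1, fun _ => u, by congr 1; ext x; simp [eq_comm], fun a a' h => absurd (Subsingleton.elim a a') h,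
      fun _ => huu, by simp⟩
  refine ⟨_, hsup' ▸ hline.sup hB hε ho', ?_⟩
  obtain ⟨t, x, hu', -, hx⟩ := hdec u hgu
  rw [hval u u hgu hgu t t x x hu' hu' hx hx]
  obtain ⟨z, hz⟩ := hεsq
  exact ⟨c * t * z, by rw [hz]; ring⟩

end abstract

variable {F : Type*} [Field F] [Fintype F] {ι : Type} [Fintype ι] [DecidableEq ι]
  {Q : QuadraticForm F (ι → F)}

/-- in even half-dimension: an element of order `p` of Ω with fixed space a given line plus a totally singular
space -/
theorem exists_line_elt (p : ℕ) [hp : Fact p.Prime] [CharP F p] (hp2 : p ≠ 2)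
    (hQ : (QuadraticMap.polarBilin Q).Nondegenerate) {d : ℕ} (hcard : Fintype.card ι = 2 * d) (hd : 2 ≤ d)
    (hde : Even d) {c : F} (hc : c ≠ 0) :
    ∃ (x : Cfsg.isometryGroup F ⇑Q) (e : ι → F), x ∈ Cfsg.Omega F ⇑Q ∧ x ^ p = 1 ∧
      finrank F (fixSp (act x)) = d ∧ act x e = e ∧ pB Q e e = c ∧
      ∀ u v, act x u = u → act x v = v → pB Q e u = 0 → pB Q e v = 0 → pB Q u v = 0 := by
  classical
  have hp3 : 3 ≤ p := by have := hp.out.two_le; omega
  have h2 : (2 : F) ≠ 0 := fun h => hp2 ((Nat.prime_dvd_prime_iff_eq hp.out Nat.prime_two).1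
    ((CharP.cast_eq_zero_iff F p 2).1 (by exact_mod_cast h)))
  have hS := pB_symm Q
  have hB := pB_refl Q
  obtain ⟨e, -, hee, he0⟩ := Bases.exists_symm_unit h2 (pB Q) hS ⊤ (nondegOn (ndOn_top hQ))
    (by rw [finrank_top, Module.finrank_pi]; omega) c hc
  have hlnd : NdOn (pB Q) (F ∙ e) := fun x hx hx0 => by
    obtain ⟨t, rfl⟩ := Submodule.mem_span_singleton.1 hx
    refine ⟨e, Submodule.mem_span_singleton_self e, ?_⟩
    rw [map_smul, LinearMap.smul_apply, smul_eq_mul, hee]
    exact mul_ne_zero (fun h => hx0 (by rw [h, zero_smul])) hc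
  obtain ⟨hP, ho, hsup, hdim⟩ := perp_nd hB (ndOn_top hQ) hlnd le_top
  set P := (⊤ : Submodule F (ι → F)) ⊓ (pB Q).orthogonal (F ∙ e) with hPdef
  rw [finrank_top, Module.finrank_pi, finrank_span_singleton he0] at hdim
  have hPd : finrank F P = 2 * (d - 1) + 1 := by omega
  have hcompl : IsCompl (F ∙ e) P := ⟨disjoint_of_orth hB hlnd ho, codisjoint_iff.2 hsup⟩
  let L : (Fin (2 * (d - 1) + 1) → F) ≃ₗ[F] P := (Module.finBasisOfFinrankEq F P hPd).equivFun.symm
  let T : QuadraticForm F (Fin (2 * (d - 1) + 1) → F) := Q.comp (P.subtype ∘ₗ L.toLinearMap)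
  have hT : ∀ x, T x = Q (L x : ι → F) := fun x => rfl
  have hpol : ∀ x y, QuadraticMap.polarBilin T x y = pB Q (L x : ι → F) (L y : ι → F) := fun x y => by
    simp [QuadraticMap.polar, hT]
  have hTnd : (QuadraticMap.polarBilin T).Nondegenerate := by
    have key : ∀ x, (∀ y, QuadraticMap.polarBilin T x y = 0) → x = 0 := fun x hx => by
      by_contra h0
      obtain ⟨u, hu, hxu⟩ := hP (L x : ι → F) (L x).2 fun e => h0 (L.map_eq_zero_iff.1 (Subtype.ext e))
      have := hx (L.symm ⟨u, hu⟩)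
      rw [hpol, L.apply_symm_apply] at this
      exact hxu this
    exact ⟨key, fun y hy => key y fun x => by rw [← hy x, hpol, hpol, hS.eq]⟩
  obtain ⟨d', hd'⟩ := hde
  obtain ⟨x, ⟨y, -, hyx⟩, hxp, t, lens, v, hlens, hch⟩ := OrthUnipotent.exists_element p hp2 T hTnd
    (Multiset.replicate (d - 2) 2 + {3})
    (fun a ha => by
      rcases Multiset.mem_add.1 ha with ha | ha
      · rw [Multiset.eq_of_mem_replicate ha]; omega
      · rw [Multiset.mem_singleton.1 ha]; omega)
    (fun a ha => by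
      rw [Multiset.count_add, Multiset.count_replicate, Multiset.count_singleton]
      have : a ≠ 3 := fun h => absurd (h ▸ ha) (by decide)
      rw [if_neg this, add_zero]
      split_ifs
      · exact ⟨d' - 1, by omega⟩
      · exact ⟨0, rfl⟩)
    (by simp; omega) ⟨3, by simp, by decide⟩
  subst hyx
  set g₀ := act y with hg₀
  have hN : Chains (g₀ - 1) lens v := hch
  have hsum : ∀ i, ∑ k, (lens k - i) = ((parts lens).map fun a => a - i).sum := fun i => by
    rw [JordanChains.parts, Multiset.map_map, Finset.sum_map_val]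
    rfl
  have hr1 := hN.finrank_range_pow 1
  have hr2 := hN.finrank_range_pow 2
  rw [pow_one, hsum, hlens] at hr1
  rw [hsum, hlens] at hr2
  simp at hr1 hr2
  set N := g₀ - 1 with hNdef
  have hkerd : finrank F (LinearMap.ker N) = d - 1 := by
    have h1 := LinearMap.finrank_range_add_finrank_ker N
    rw [Module.finrank_pi, Fintype.card_fin] at h1
    omega
  have hker_le : LinearMap.ker N ≤ LinearMap.range N := by
    let N' : LinearMap.range N →ₗ[F] (Fin (2 * (d - 1) + 1) → F) := N ∘ₗ (LinearMap.range N).subtype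
    have h1 := LinearMap.finrank_range_add_finrank_ker N'
    have h3 : LinearMap.range N' = LinearMap.range (N ^ 2) := by
      rw [sq, Module.End.mul_eq_comp, LinearMap.range_comp, Submodule.range_subtype, ← LinearMap.range_comp]
    have h4 : finrank F (LinearMap.ker N') ≤ finrank F ↥(LinearMap.range N ⊓ LinearMap.ker N) := by
      rw [← Submodule.finrank_map_subtype_eq]
      refine Submodule.finrank_mono ?_
      rintro _ ⟨z, hz, rfl⟩
      exact ⟨z.2, LinearMap.mem_ker.1 hz⟩
    rw [h3] at h1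
    have h5 : LinearMap.range N ⊓ LinearMap.ker N = LinearMap.ker N :=
      Submodule.eq_of_le_of_finrank_le inf_le_right (by omega)
    exact h5 ▸ inf_le_left
  have hkiso : ∀ a b, g₀ a = a → g₀ b = b → QuadraticMap.polarBilin T a b = 0 := by
    intro a b ha hb
    obtain ⟨z, hz⟩ := hker_le (show b ∈ LinearMap.ker N by simp [hNdef, hb])
    rw [← hz, hNdef, LinearMap.sub_apply, Module.End.one_apply, map_sub]
    conv_lhs => arg 1; rw [← ha]
    show QuadraticMap.polar T (g₀ a) (g₀ z) - _ = 0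
    rw [hg₀, act_polar]
    exact sub_self _
  -- transport to the whole space
  let M : P ≃ₗ[F] (Fin (2 * (d - 1) + 1) → F) := L.symm
  let α : P →ₗ[F] P := M.symm.toLinearMap ∘ₗ g₀ ∘ₗ M.toLinearMap
  have hα : ∀ b, M (α b) = g₀ (M b) := fun b => M.apply_symm_apply _
  let Φ := Submodule.prodEquivOfIsCompl (F ∙ e) P hcompl
  let β : (ι → F) →ₗ[F] (ι → F) := Φ.toLinearMap ∘ₗ LinearMap.prodMap LinearMap.id α ∘ₗ Φ.symm.toLinearMap
  have hβ : ∀ (a : F ∙ e) (b : P), β ((a : ι → F) + (b : ι → F)) = (a : ι → F) + (α b : ι → F) := fun a b => by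
    simp [β, Φ]
  have hdec : ∀ z : ι → F, ∃ (a : F ∙ e) (b : P), z = (a : ι → F) + (b : ι → F) := fun z =>
    ⟨(Φ.symm z).1, (Φ.symm z).2, by conv_lhs => rw [← Φ.apply_symm_apply z]
                                    rfl⟩
  have hQb : ∀ b : P, Q (b : ι → F) = T (M b) := fun b => by rw [hT]; simp [M]
  have hβQ : ∀ z, Q (β z) = Q z := fun z => by
    obtain ⟨a, b, rfl⟩ := hdec z
    rw [hβ, QuadraticMap.map_add (⇑Q), QuadraticMap.map_add (⇑Q), hQb, hQb, hα, hg₀, Reflections.act_map]
    congr 1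
    exact (ho a a.2 _ (α b).2).trans (ho a a.2 _ b.2).symm
  have hg₀p : ∀ z, (g₀ ^ p) z = z := fun z => by
    rw [hg₀]
    show ((Matrix.toLin' _) ^ p) z = z
    rw [← Matrix.toLin'_pow, ← Units.val_pow_eq_pow_val]
    simp only [Subgroup.coe_subtype] at hxp
    rw [hxp, Units.val_one, Matrix.toLin'_one]
    rfl
  have hβp : ∀ z, (β ^ p) z = z := fun z => by
    obtain ⟨a, b, rfl⟩ := hdec z
    have hαp : ∀ (n : ℕ) b, M ((α ^ n) b) = (g₀ ^ n) (M b) := fun n => by
      induction n with
      | zero => simp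
      | succ n ih => intro b; rw [pow_succ', pow_succ', Module.End.mul_apply, Module.End.mul_apply, hα, ih]
    have hn : ∀ n : ℕ, (β ^ n) ((a : ι → F) + (b : ι → F)) = (a : ι → F) + (((α ^ n) b : P) : ι → F) := fun n => by
      induction n with
      | zero => simp
      | succ n ih => rw [pow_succ', Module.End.mul_apply, ih, hβ, pow_succ', Module.End.mul_apply]
    rw [hn, show (α ^ p) b = b from M.injective (by rw [hαp, hg₀p])]
  have hinjβ : Function.Injective β := fun a b hab => by
    have h := congrArg (β ^ (p - 1)) hab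
    rwa [← Module.End.mul_apply, ← Module.End.mul_apply, ← pow_succ, Nat.sub_add_cancel hp.out.one_lt.le,
      hβp, hβp] at h
  let E := LinearEquiv.ofBijective β ⟨hinjβ, LinearMap.injective_iff_surjective.1 hinjβ⟩
  let X := QuadStd.isoOfEquiv ⇑Q E hβQ
  have hX : ∀ z, act X z = β z := fun z => (act_apply X z).trans (QuadStd.isoOfEquiv_mulVec _ E hβQ z)
  have hXp : X ^ p = 1 := QuadStd.iso_ext fun z => by
    have hn : ∀ n : ℕ, act (X ^ n) z = (β ^ n) z := fun n => by
      induction n with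
      | zero => simp [Reflections.act_one]
      | succ n ih => rw [pow_succ', Reflections.act_mul, ih, hX, pow_succ', Module.End.mul_apply]
    rw [← act_apply, ← act_apply, hn, hβp, Reflections.act_one]
  have hF : Fintype.card F ≠ 2 := fun h => h2 (by
    have := FiniteField.cast_card_eq_zero F
    rwa [h, Nat.cast_ofNat] at this)
  have hXe : act X e = e := by
    rw [hX]
    conv_lhs => rw [show e = ((⟨e, Submodule.mem_span_singleton_self e⟩ : F ∙ e) : ι → F) + ((0 : P) : ι → F) by simp]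
    rw [hβ, map_zero]
    simp
  have hfixdec : ∀ z, act X z = z → ∃ (a : F ∙ e) (b : P), z = (a : ι → F) + (b : ι → F) ∧ g₀ (M b) = M b := by
    intro z hz
    obtain ⟨a, b, rfl⟩ := hdec z
    rw [hX, hβ, add_right_inj] at hz
    exact ⟨a, b, rfl, by rw [← hα, Subtype.ext hz]⟩
  refine ⟨X, e, OrthUnipotent.mem_omega Q hQ hF (hp.out.odd_of_ne_two hp2) hXp, hXp, ?_, hXe, hee, ?_⟩
  · set K := ((LinearMap.ker N).map M.symm.toLinearMap).map P.subtype with hK
    have hKd : finrank F K = d - 1 := by rw [hK, Submodule.finrank_map_subtype_eq, LinearEquiv.finrank_map_eq, hkerd]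
    have heq : fixSp (act X) = (F ∙ e) ⊔ K := by
      refine le_antisymm (fun z hz => ?_) (sup_le ((Submodule.span_singleton_le_iff_mem _ _).2 (mem_fixSp.2 hXe)) ?_)
      · obtain ⟨a, b, rfl, hb⟩ := hfixdec z (mem_fixSp.1 hz)
        exact Submodule.add_mem_sup a.2 ⟨b, ⟨M b, by simp [hNdef, hb], M.symm_apply_apply b⟩, rfl⟩
      · rintro _ ⟨_, ⟨z, hz, rfl⟩, rfl⟩
        refine mem_fixSp.2 ?_
        rw [hX]
        show β ((M.symm z : P) : ι → F) = ((M.symm z : P) : ι → F)
        conv_lhs => rw [← zero_add (((M.symm z : P) : ι → F)), ← Submodule.coe_zero (p := F ∙ e)]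
        rw [hβ, Submodule.coe_zero, zero_add]
        congr 1
        refine M.injective ?_
        rw [hα, M.apply_symm_apply]
        rw [SetLike.mem_coe, LinearMap.mem_ker, hNdef, LinearMap.sub_apply, Module.End.one_apply, sub_eq_zero] at hz
        exact hz
    rw [heq, finrank_sup_of_disjoint (hcompl.disjoint.mono_right (Submodule.map_subtype_le _ _)),
      finrank_span_singleton he0, hKd]
    omega
  · intro u w hu hw heu hew
    obtain ⟨a, b, rfl, hb⟩ := hfixdec u hu
    obtain ⟨a', b', rfl, hb'⟩ := hfixdec w hw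
    have hz : ∀ (a : F ∙ e) (b : P), pB Q e ((a : ι → F) + (b : ι → F)) = 0 → (a : ι → F) = 0 := fun a b h => by
      obtain ⟨t, ht⟩ := Submodule.mem_span_singleton.1 a.2
      rw [map_add, ho e (Submodule.mem_span_singleton_self e) _ b.2, add_zero, ← ht, map_smul, hee,
        smul_eq_mul] at h
      rw [← ht, (mul_eq_zero.1 h).resolve_right hc, zero_smul]
    rw [hz a b heu, hz a' b' hew, zero_add, zero_add]
    have h1 := hkiso (M b) (M b') hb hb'
    rw [hpol] at h1
    simpa [M] using h1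

end Cfsg.Agent.Classical.IsoInvariant.UnipotentOdd
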