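import Mathlib
import Cfsg.Agent.Lib.Classical.IsoInvariant.NdPieces
import Cfsg.Agent.Lib.Classical.IsoInvariant.FourthRoot
import Cfsg.Agent.Lib.Classical.IsoInvariant.UnipotentOdd

/-!
# Elements of prime order of an even-dimensional Ω fixing an odd-dimensional nondegenerate subspace of a class
-/

set_option autoImplicit false
set_option linter.unusedSectionVars false

namespace Cfsg.Agent.Classical.IsoInvariant.EvenOddNd

open Module Polynomial
open Cfsg.Agent.Forms
open Cfsg.Agent.Forms.Elusive Cfsg.Agent.Forms.Elusive.Pieces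
open Cfsg.Agent.Classical.StarFactor (Fac)
open Cfsg.Agent.Forms.Reflections (act act_apply act_polar act_map)
open Cfsg.Agent.Classical.IsoInvariant.NdType Cfsg.Agent.Classical.IsoInvariant.EvenDim

variable {F : Type*} [Field F] [Fintype F] {ι : Type} [Fintype ι] [DecidableEq ι]
  {Q : QuadraticForm F (ι → F)}

/-- every element of order `r` modulo scalars fixes a subspace isometric to `W₀` -/
def AllFix (Q : QuadraticForm F (ι → F)) (W₀ : Submodule F (ι → F)) (m r : ℕ) : Prop :=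
  ∀ x : GL ι F, x ∈ Cfsg.Geo.omegaGL ⇑Q →
    (∃ z : F, ((x ^ r : GL ι F) : Matrix ι ι F) = z • (1 : Matrix ι ι F)) →
    (∀ z : F, (x : Matrix ι ι F) ≠ z • (1 : Matrix ι ι F)) →
    ∃ W : Submodule F (ι → F), (finrank F W = m ∧ NdOn (pB Q) W ∧ Cfsg.Geo.AreIsometricFor ⇑Q W W₀) ∧
      W.map (Matrix.toLin' (x : Matrix ι ι F)) ≤ W

theorem scalar_sq (hQ : (QuadraticMap.polarBilin Q).Nondegenerate) (h2 : (2 : F) ≠ 0) [Nonempty ι]
    {g : (ι → F) →ₗ[F] (ι → F)} (hg : ∀ v, Q (g v) = Q v) {z : F} (hz : ∀ v, g v = z • v) : z * z = 1 := by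
  obtain ⟨i⟩ : Nonempty ι := inferInstance
  have hne : (Pi.single i 1 : ι → F) ≠ 0 := by simp
  by_contra h
  refine hne (hQ.1 _ fun y => ?_)
  have hQ0 : ∀ v, Q v = 0 := fun v => by
    have h1 := hg v
    rw [hz, QuadraticMap.map_smul, smul_eq_mul] at h1
    by_contra h0
    exact h (mul_right_cancel₀ h0 (h1.trans (one_mul _).symm))
  simp [QuadraticMap.polar, hQ0]

theorem disc_of_isometric {W W₀ : Submodule F (ι → F)} (h : Cfsg.Geo.AreIsometricFor ⇑Q W W₀) {δ : F}
    (hδ : HasDisc (pB Q) W₀ δ) : HasDisc (pB Q) W δ := by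
  obtain ⟨e, he⟩ := h
  obtain ⟨n, b, hbs, hbo, hb0, rfl⟩ := hδ
  let b₀ : Fin n → W₀ := fun a => ⟨b a, hbs.le (Submodule.subset_span ⟨a, rfl⟩)⟩
  have hval : ∀ a a', pB Q (e.symm (b₀ a) : ι → F) (e.symm (b₀ a') : ι → F) = pB Q (b a) (b a') := fun a a' => by
    have hq : ∀ x : W₀, Q ((e.symm x : W) : ι → F) = Q (x : ι → F) := fun x => by
      rw [← he, e.apply_symm_apply]
    simp only [QuadraticMap.polarBilin_apply_apply, QuadraticMap.polar, ← Submodule.coe_add, ← map_add e.symm, hq]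
    rfl
  refine ⟨n, fun a => (e.symm (b₀ a) : ι → F), ?_, fun a a' hne => (hval a a').trans (hbo a a' hne),
    fun a => by rw [hval]; exact hb0 a, Finset.prod_congr rfl fun a _ => hval a a⟩
  refine le_antisymm (Submodule.span_le.2 (by rintro _ ⟨a, rfl⟩; exact (e.symm (b₀ a)).2)) fun w hw => ?_
  have h1 : ((e ⟨w, hw⟩ : W₀) : ι → F) ∈ Submodule.span F (Set.range b) := hbs.ge (e ⟨w, hw⟩).2
  obtain ⟨c, hc⟩ := (Submodule.mem_span_range_iff_exists_fun F).1 h1
  have h3 : e ⟨w, hw⟩ = ∑ a, c a • b₀ a := Subtype.ext (by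
    rw [← hc]; simp [b₀])
  have h4 : (⟨w, hw⟩ : W) = ∑ a, c a • e.symm (b₀ a) := by
    rw [← e.symm_apply_apply ⟨w, hw⟩, h3, map_sum]
    exact Finset.sum_congr rfl fun a _ => map_smul _ _ _
  have h5 := congrArg Subtype.val h4
  simp only [Submodule.coe_sum, Submodule.coe_smul] at h5
  exact (Submodule.mem_span_range_iff_exists_fun F).2 ⟨c, h5.symm⟩

/-- the case `r = 2` -/
theorem allFix_two (hQ : (QuadraticMap.polarBilin Q).Nondegenerate) (h2 : (2 : F) ≠ 0) {d m : ℕ}
    (hcard : Fintype.card ι = 2 * d) (hm : Odd m) (hmd : m < d) {W₀ : Submodule F (ι → F)}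
    (hW₀ : finrank F W₀ = m ∧ NdOn (pB Q) W₀) :
    AllFix Q W₀ m 2 ↔ ¬ ∃ g : Cfsg.isometryGroup F ⇑Q, g ∈ Cfsg.Omega F ⇑Q ∧ ∀ v, act g (act g v) = -v := by
  have : Nonempty ι := Fintype.card_pos_iff.1 (by omega)
  have hS := pB_symm Q
  constructor
  · rintro H ⟨g, hg, hgg⟩
    obtain ⟨W, ⟨hWd, hWnd, -⟩, hWi⟩ := H (g : GL ι F) ⟨g, hg, rfl⟩ ⟨-1, by
        refine Matrix.toLin'.injective (LinearMap.ext fun v => ?_)
        rw [sq, Units.val_mul, Matrix.toLin'_mul, LinearMap.comp_apply, map_smul, Matrix.toLin'_one,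
          LinearMap.smul_apply, LinearMap.id_apply, neg_one_smul]
        exact hgg v⟩ fun z hz => by
        have hgz : ∀ v, act g v = z • v := fun v => by
          rw [act_apply, hz, Matrix.smul_mulVec, Matrix.one_mulVec]
        have h1 := scalar_sq hQ h2 (act_map g) hgz
        obtain ⟨i⟩ : Nonempty ι := inferInstance
        have h3 := congrFun (hgg (Pi.single i 1)) i
        rw [hgz, hgz, smul_smul, h1] at h3
        simp at h3
        exact h2 (by linear_combination h3)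
    obtain ⟨k, v, hk, -⟩ := FourthRoot.exists_planes hS h2 (g := act g) (fun u w => act_polar g u w) hgg _ le_rfl
      hWnd hWi
    obtain ⟨l, rfl⟩ := hm
    omega
  · intro hno x hx hx2 hxs
    obtain ⟨z, hz⟩ := hx2
    obtain ⟨g, hg, rfl⟩ := hx
    have hgg : ∀ v, act g (act g v) = z • v := fun v => by
      rw [act_apply, act_apply, Matrix.mulVec_mulVec, ← Units.val_mul, ← sq]
      simp only [Subgroup.coe_subtype] at hz
      rw [hz, Matrix.smul_mulVec, Matrix.one_mulVec]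
    have hzz := scalar_sq hQ h2 (g := act g ∘ₗ act g) (fun v => by rw [LinearMap.comp_apply, act_map, act_map])
      (fun v => hgg v)
    rcases mul_self_eq_one_iff.1 hzz with rfl | rfl
    swap
    · exact absurd ⟨g, hg, fun v => by rw [hgg, neg_one_smul]⟩ hno
    simp only [one_smul] at hgg
    have : Fact (Nat.Prime 2) := ⟨Nat.prime_two⟩
    obtain ⟨hF0, D, hD, hDi, hort, hdis, hfree, hsum⟩ := Refl.fix_free (g := act g) (r := 2) hQ (pB_refl Q)
      (fun u w => act_polar g u w) (by exact_mod_cast h2) rfl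
      (LinearMap.ext fun v => by rw [sq, Module.End.mul_apply, hgg, Module.End.one_apply])
    rw [Module.finrank_pi, hcard] at hsum
    have hneg : ∀ v ∈ D, act g v = -v := fun v hv =>
      eq_neg_of_add_eq_zero_left (hfree _ (add_mem (hDi ⟨v, hv, rfl⟩) hv) (by rw [map_add, hgg, add_comm]))
    obtain ⟨δ₀, hδ₀⟩ := exists_hasDisc h2 hS hW₀.2
    obtain ⟨E, hE, hEm, hEinv⟩ : ∃ E : Submodule F (ι → F), NdOn (pB Q) E ∧ m < finrank F E ∧
        ∀ L ≤ E, L.map (act g) ≤ L := by
      rcases Nat.lt_or_ge m (finrank F (fixSp (act g))) with h | h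
      · refine ⟨_, hF0, h, fun L hL => ?_⟩
        rintro _ ⟨v, hv, rfl⟩
        rw [mem_fixSp.1 (hL hv)]; exact hv
      · refine ⟨D, hD, by omega, fun L hL => ?_⟩
        rintro _ ⟨v, hv, rfl⟩
        rw [hneg v (hL hv)]; exact neg_mem hv
    obtain ⟨k, hk⟩ := hm
    obtain ⟨L, hL, hLnd, hLd, hLdisc⟩ := exists_family h2 hS hδ₀.ne_zero (2 * k) hE (by omega)
    exact ⟨L, ⟨by omega, hLnd, isometric_of_disc h2 hLnd hW₀.2 (by omega) hLdisc hδ₀ ⟨δ₀, rfl⟩⟩,
      hEinv L hL⟩

variable {r i c : ℕ} [hr : Fact r.Prime]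

/-- the linear map of order `r` behind an element of odd order `r` modulo scalars -/
theorem exists_lift (hQ : (QuadraticMap.polarBilin Q).Nondegenerate) (h2 : (2 : F) ≠ 0) [Nonempty ι]
    (hr2 : r ≠ 2) {x : GL ι F} (hx : x ∈ Cfsg.Geo.omegaGL ⇑Q)
    (hxr : ∃ z : F, ((x ^ r : GL ι F) : Matrix ι ι F) = z • (1 : Matrix ι ι F)) :
    ∃ g : (ι → F) →ₗ[F] (ι → F), (∀ u v, pB Q (g u) (g v) = pB Q u v) ∧ g ^ r = 1 ∧
      ∀ W : Submodule F (ι → F), W.map g ≤ W → W.map (Matrix.toLin' (x : Matrix ι ι F)) ≤ W := by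
  obtain ⟨z, hz⟩ := hxr
  obtain ⟨y, -, rfl⟩ := hx
  set f := Matrix.toLin' ((y : GL ι F) : Matrix ι ι F) with hf
  have hfp : f ^ r = z • 1 := by
    simp only [Subgroup.coe_subtype, Units.val_pow_eq_pow_val] at hz
    rw [hf, ← Matrix.toLin'_pow, hz, map_smul, Matrix.toLin'_one]; rfl
  have hfQ : ∀ v, Q (f v) = Q v := act_map y
  have hpowQ : ∀ (n : ℕ) v, Q ((f ^ n) v) = Q v := fun n => by
    induction n with
    | zero => simp
    | succ n ih => intro v; rw [pow_succ', Module.End.mul_apply, hfQ, ih]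
  have hzz : z * z = 1 := scalar_sq hQ h2 (hpowQ r) fun v => by rw [hfp]; rfl
  refine ⟨z • f, fun u v => ?_, ?_, fun W hW => ?_⟩
  · rw [LinearMap.smul_apply, LinearMap.smul_apply, map_smul, map_smul, LinearMap.smul_apply, smul_smul, hzz,
      one_smul]
    exact act_polar y u v
  · obtain ⟨k, hk⟩ := hr.out.odd_of_ne_two hr2
    rw [_root_.smul_pow, hfp, smul_smul, ← pow_succ, show r + 1 = 2 * (k + 1) by omega, pow_mul, sq, hzz, one_pow,
      one_smul]
  · rintro _ ⟨v, hv, rfl⟩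
    show f v ∈ W
    have h1 := W.smul_mem z (hW ⟨v, hv, rfl⟩)
    rwa [LinearMap.smul_apply, smul_smul, hzz, one_smul] at h1

/-- an element of order `r` with a small fixed space -/
theorem exists_test (hset : OrthPrimeClasses.Setting F r i) (hQ : (QuadraticMap.polarBilin Q).Nondegenerate)
    (h2 : (2 : F) ≠ 0) (hr2 : r ≠ 2) (hi : i = orderOf ((Fintype.card F : ℕ) : ZMod r))
    (hc : c = if Even i then i else 2 * i) {Q₀ : F[X]} (hQ₀ : Fac r Q₀) {d N k : ℕ}
    (hcard : Fintype.card ι = 2 * d) (hN : 0 < N) (hdm : c * N + k = 2 * d)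
    (hok : k = 0 → (Plus (pB Q) ⊤ ↔ Odd i ∨ Even (2 * d / i))) {W₀ : Submodule F (ι → F)} {m : ℕ}
    (H : AllFix Q W₀ m r) : ∃ l j, m = l + c * j ∧ l ≤ k := by
  classical
  have hr0 := hset.cast_ne
  have hi0 := OrthPrimeClasses.ne_of_pos hset
  have hc0 : 0 < c := by rw [hc]; split_ifs <;> omega
  obtain ⟨s, hs, hsinv, hsdeg⟩ : ∃ s : Multiset F[X], (∀ q ∈ s, Fac r q) ∧ s.map (StarFactor.star r) = s ∧
      (s.map natDegree).sum = c * N := by
    obtain ⟨hQs, hQss⟩ := hQ₀.star_fac hr0 hset.deg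
    rcases Nat.even_or_odd i with hev | hodd
    · refine ⟨Multiset.replicate N Q₀, fun q hq => (Multiset.eq_of_mem_replicate hq) ▸ hQ₀, ?_, ?_⟩
      · rw [Multiset.map_replicate, (hQ₀.star_eq_iff hr0 hr2 hset.deg).2 hev]
      · rw [Multiset.map_replicate, Multiset.sum_replicate, hset.deg Q₀ hQ₀, hc, if_pos hev, smul_eq_mul, mul_comm]
    · refine ⟨Multiset.replicate N Q₀ + Multiset.replicate N (StarFactor.star r Q₀), fun q hq => ?_, ?_, ?_⟩
      · rcases Multiset.mem_add.1 hq with hq | hq <;> rw [Multiset.eq_of_mem_replicate hq]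
        exacts [hQ₀, hQs]
      · rw [Multiset.map_add, Multiset.map_replicate, Multiset.map_replicate, hQss, add_comm]
      · rw [Multiset.map_add, Multiset.sum_add, Multiset.map_replicate, Multiset.map_replicate,
          Multiset.sum_replicate, Multiset.sum_replicate, hset.deg Q₀ hQ₀, hset.deg _ hQs, hc,
          if_neg (Nat.not_even_iff_odd.2 hodd), smul_eq_mul]
        ring
  set ones := Multiset.replicate k (X - C (1 : F)) with hones
  have hX1 : ∀ q ∈ ones, q = X - C 1 := fun q hq => Multiset.eq_of_mem_replicate hq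
  have hmon : ∀ q ∈ s + ones, q.Monic ∧ Irreducible q ∧ q ∣ X ^ r - C 1 := fun q hq => by
    rcases Multiset.mem_add.1 hq with h | h
    · exact ⟨(hs q h).monic, (hs q h).irr, (hs q h).dvd⟩
    · rw [hX1 q h]
      exact ⟨monic_X_sub_C 1, irreducible_X_sub_C 1, by rw [map_one]; exact sub_one_dvd_pow_sub_one _ _⟩
  have hgood : OrthPrimeClasses.Good r (2 * d) (s + ones) := by
    refine ⟨⟨hmon, ?_⟩, ?_⟩
    · rw [Multiset.map_add, Multiset.sum_add, hsdeg, hones, Multiset.map_replicate, natDegree_X_sub_C,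
        Multiset.sum_replicate, smul_eq_mul, mul_one, hdm]
    · rw [Multiset.map_add, hsinv, hones, Multiset.map_replicate, StarFactor.star_X_sub_one hr0]
  have hplus : OrthTypes.IsPlus Q d ↔ Plus (pB Q) ⊤ := by
    refine exists_congr fun U => ?_
    rw [iso_iff h2, finrank_top, Module.finrank_pi, hcard]
    exact ⟨fun h => ⟨le_top, h.1, by omega⟩, fun h => ⟨h.2.1, by omega⟩⟩
  obtain ⟨A, hA⟩ := OrthPrimeClasses.exists_datum_even hset hcard hQ hgood (by
    rcases Nat.eq_zero_or_pos k with h0 | h0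
    · exact Or.inr (hplus.trans (hok h0))
    · exact Or.inl (Multiset.mem_add.2 (Or.inr (Multiset.mem_replicate.2 ⟨h0.ne', rfl⟩))))
  obtain ⟨x, hx, hxA⟩ := OrthRealise.exists_elt hr.out.pos ⇑Q A hA.pres hA.pow
  set g := Matrix.toLin' A with hgdef
  have hg : g ^ r = 1 := by rw [hgdef, ← Matrix.toLin'_pow, hA.pow, Matrix.toLin'_one]; rfl
  have hgc : g.charpoly = (s + ones).prod := by rw [hgdef, Matrix.charpoly_toLin', hA.char]
  have hfix : finrank F (fixSp g) = k := by
    rcases Nat.eq_zero_or_pos k with h0 | h0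
    · rw [h0, Submodule.finrank_eq_zero, Submodule.eq_bot_iff]
      intro v hv
      have hev : A.charpoly.eval 1 ≠ 0 := by
        rw [hA.char]
        refine OrthPrimeClasses.eval_one_ne hset hgood ?_
        rw [hones, h0, Multiset.replicate_zero, add_zero]
        exact fun h => (hs _ h).ne rfl
      exact OrthPrimeClasses.eq_zero_of_fixed hev (mem_fixSp.1 hv)
    rw [fixSp_eq_ker, finrank_ker_part hr0 hi hg ones s
      (fun q hq => ⟨(hmon q (by rwa [add_comm])).1, (hmon q (by rwa [add_comm])).2.1⟩)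
      (fun q hq hqs => (hs q hqs).ne (hX1 q hq)) (by rw [hgc, add_comm]) (X - C 1)
      (fun q hq => by rw [hX1 q hq]) (Multiset.dvd_prod (Multiset.mem_replicate.2 ⟨h0.ne', rfl⟩))]
    rw [hones, Multiset.map_replicate, natDegree_X_sub_C, Multiset.sum_replicate, smul_eq_mul, mul_one]
  have hF : Fintype.card F ≠ 2 := fun e => h2 (by
    have := FiniteField.cast_card_eq_zero F
    rwa [e, Nat.cast_ofNat] at this)
  have : Nonempty ι := Fintype.card_pos_iff.1 (by have := Nat.mul_pos hc0 hN; omega)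
  obtain ⟨W, ⟨hWd, hWnd, -⟩, hWi⟩ := H x
    ⟨x, OrthUnipotent.mem_omega _ hQ hF (hr.out.odd_of_ne_two hr2) hx, rfl⟩
    ⟨1, by rw [← SubmonoidClass.coe_pow, hx, OneMemClass.coe_one, Units.val_one, one_smul]⟩
    fun z hz => by
      rw [hxA] at hz
      have hgz : ∀ v, g v = z • v := fun v => by
        rw [hgdef, Matrix.toLin'_apply, hz, Matrix.smul_mulVec, Matrix.one_mulVec]
      have hgp : ∀ (n : ℕ) v, (g ^ n) v = z ^ n • v := fun n => by
        induction n with
        | zero => simp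
        | succ n ih => intro v; rw [pow_succ', Module.End.mul_apply, ih, map_smul, hgz, smul_smul, pow_succ]
      obtain ⟨e⟩ : Nonempty ι := inferInstance
      have hzr : z ^ r = 1 := by
        have h1 := congrFun ((hgp r (Pi.single e 1)).symm.trans (by rw [hg])) e
        simpa using h1
      have hzz : z * z = 1 := scalar_sq hQ h2 (fun v => hA.pres v) hgz
      obtain ⟨u, hu⟩ := hr.out.odd_of_ne_two hr2
      rw [hu, pow_succ, pow_mul, sq, hzz, one_pow, one_mul] at hzr
      have htop : fixSp g = ⊤ := eq_top_iff.2 fun v _ => mem_fixSp.2 (by rw [hgz, hzr, one_smul])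
      rw [htop, finrank_top, Module.finrank_pi, hcard] at hfix
      have := Nat.mul_pos hc0 hN
      omega
  rw [hxA, ← hgdef] at hWi
  have hiso : ∀ u v, pB Q (g u) (g v) = pB Q u v := fun u v => by
    simp only [QuadraticMap.polarBilin_apply_apply, QuadraticMap.polar, hgdef, Matrix.toLin'_apply,
      ← Matrix.mulVec_add, hA.pres]
  obtain ⟨l, j, hsum, hl, -⟩ := NdPieces.split_nd hset (pB_symm Q) h2 hiso hr2 hr0 hg hi hc hWnd hWi
  exact ⟨l, j, by omega, hfix ▸ hl⟩

/-- the characterisation for odd `r` prime to `q` -/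
theorem iff_odd (p : ℕ) [Fact p.Prime] [CharP F p] (hrp : r ≠ p) (hr2 : r ≠ 2) (h2 : (2 : F) ≠ 0)
    (hQ : (QuadraticMap.polarBilin Q).Nondegenerate)
    (hi : i = orderOf ((Fintype.card F : ℕ) : ZMod r)) (hc : c = if Even i then i else 2 * i)
    {d m E T : ℕ} (hcard : Fintype.card ι = 2 * d) (hm : Odd m) (hmd : m < d)
    (hO : Nat.card (Cfsg.isometryGroup F ⇑Q) =
      2 * Fintype.card F ^ E * T * ∏ a ∈ Finset.range (d - 1), (Fintype.card F ^ (2 * (a + 1)) - 1))
    (hT : T ∣ Fintype.card F ^ (2 * d) - 1)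
    {W₀ : Submodule F (ι → F)} (hW₀ : finrank F W₀ = m ∧ NdOn (pB Q) W₀)
    (hΩ : r ∣ Nat.card {W : Submodule F (ι → F) //
      finrank F W = m ∧ NdOn (pB Q) W ∧ Cfsg.Geo.AreIsometricFor ⇑Q W W₀}) :
    AllFix Q W₀ m r ↔
      (((2 * d) % c = 0 ∧ ¬ (Plus (pB Q) ⊤ ↔ Odd i ∨ Even (2 * d / i))) ∨
        (0 < (2 * d) % c ∧ c ≤ m ∧ m % c < (2 * d) % c)) := by
  classical
  have : Nonempty ι := Fintype.card_pos_iff.1 (by omega)
  have hS := pB_symm Q
  have hti : i ∣ r - 1 := by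
    rw [hi]
    refine orderOf_dvd_of_pow_eq_one (ZMod.pow_card_sub_one_eq_one fun h => hrp ?_)
    obtain ⟨n, -, hn⟩ := FiniteField.card F p
    rw [ZMod.natCast_eq_zero_iff, hn] at h
    exact (Nat.prime_dvd_prime_iff_eq hr.out Fact.out).1 (hr.out.dvd_of_dvd_pow h)
  obtain ⟨hset, P, hPcard, hP⟩ := OrthPrimeClasses.setting_of (F := F) (p := p) (t := (r - 1) / i) rfl hr.out
    hr2 hrp hi (Nat.div_mul_cancel hti)
  have hr0 := hset.cast_ne
  have hi0 := OrthPrimeClasses.ne_of_pos hset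
  have hc0 : 0 < c := by rw [hc]; split_ifs <;> omega
  obtain ⟨h, hh⟩ : ∃ h, c = 2 * h := by
    rw [hc]; split_ifs with he
    · exact he.two_dvd
    · exact ⟨i, rfl⟩
  obtain ⟨Q₀, hQ₀⟩ : ∃ Q₀, Fac r Q₀ := by
    have ht : 0 < (r - 1) / i := Nat.div_pos (Nat.le_of_dvd (by have := hr.out.two_le; omega) hti) hi0
    obtain ⟨Q₀, hQ₀⟩ := Finset.card_pos.1 (hPcard ▸ ht)
    exact ⟨Q₀, (hP Q₀).1 hQ₀⟩
  obtain ⟨l₀, hl₀⟩ := hm
  set k := (2 * d) % c with hk
  have hdm : c * (2 * d / c) + k = 2 * d := Nat.div_add_mod _ _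
  have hk2 : c * (2 * d / c) = 2 * (h * (2 * d / c)) := by rw [hh]; ring
  have hdvd : ∀ a, i ∣ 2 * a → c ∣ 2 * a := fun a hia => by
    rcases Nat.even_or_odd i with hev | hodd
    · rw [hc, if_pos hev]; exact hia
    · rw [hc, if_neg (Nat.not_even_iff_odd.2 hodd)]
      exact Nat.mul_dvd_mul_left 2 ((Nat.coprime_two_right.2 hodd).dvd_of_dvd_mul_left hia)
  have hidx : k = 0 ∨ ∃ a, 2 * a < 2 * d ∧ 2 * d ≤ 2 * a + (m - 1) ∧ c ∣ 2 * a := by
    rcases exists_index_of_dvd hQ h2 p hrp hcard hO hW₀.2 hW₀.1 ⟨l₀, hl₀⟩ (by omega) hΩ with h1 | ⟨a, h1, h3, h4⟩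
    · exact Or.inl (Nat.mod_eq_zero_of_dvd (hdvd d (hi ▸ order_dvd_of_dvd_pow_sub_one (h1.trans hT))))
    · exact Or.inr ⟨a, h1, h3, hdvd a (hi ▸ h4)⟩
  have hcle : c ≤ 2 * d := by
    rcases hidx with h0 | ⟨a, h1, h3, h4⟩
    · exact Nat.le_of_dvd (by omega) (Nat.dvd_of_mod_eq_zero h0)
    · exact (Nat.le_of_dvd (by omega) h4).trans h1.le
  constructor
  · intro H
    rcases Nat.eq_zero_or_pos k with h0 | h0
    · refine Or.inl ⟨h0, fun hmatch => ?_⟩
      obtain ⟨l, j, hm', hl⟩ := exists_test hset hQ h2 hr2 hi hc hQ₀ hcard (Nat.div_pos hcle hc0) hdm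
        (fun _ => hmatch) H
      have : c * j = 2 * (h * j) := by rw [hh]; ring
      omega
    · refine Or.inr ⟨h0, ?_⟩
      obtain ⟨l, j, hm', hl⟩ := exists_test hset hQ h2 hr2 hi hc hQ₀ hcard (Nat.div_pos hcle hc0) hdm
        (fun h => absurd h h0.ne') H
      have hj2 : c * j = 2 * (h * j) := by rw [hh]; ring
      have hlc : l < c := lt_of_le_of_lt hl (Nat.mod_lt _ hc0)
      have hlm : m % c = l := by rw [hm', Nat.add_mul_mod_self_left, Nat.mod_eq_of_lt hlc]
      refine ⟨?_, by omega⟩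
      by_contra hlt
      rw [Nat.mod_eq_of_lt (by omega : m < c)] at hlm
      rcases hidx with h1 | ⟨a, h1, h3, h4⟩
      · omega
      · have := mod_le_of_dvd (n := 2 * d) h1.le h4
        omega
  · intro hcond x hx hxr _
    obtain ⟨g, hiso, hg, hW⟩ := exists_lift hQ h2 hr2 hx hxr
    have hB := pB_refl Q
    obtain ⟨hF0, D, hD, hDi, hort, hdis, hfree, hsum⟩ := Refl.fix_free hQ hB hiso hr0 hi hg
    rw [Module.finrank_pi, hcard] at hsum
    obtain ⟨A, hA⟩ := NdPieces.dvd_free hB hiso hr2 hr0 hi hc hg hD hDi hfree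
    have hmod : finrank F (fixSp g) % c = k := by rw [hk, ← hsum, hA, Nat.add_mul_mod_self_left]
    have hf : m % c < finrank F (fixSp g) := by
      rcases hcond with ⟨h0, hmis⟩ | ⟨-, -, h1⟩
      · have hpos : 0 < finrank F (fixSp g) := by
          by_contra hf0
          refine hmis ?_
          have hDtop : D = ⊤ := Submodule.eq_top_of_finrank_eq (by rw [Module.finrank_pi, hcard]; omega)
          rw [← hDtop]
          exact NdPieces.free_type hset h2 hS hiso hg hD hDi hfree (by omega)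
        have := Nat.le_of_dvd hpos (Nat.dvd_of_mod_eq_zero (hmod.trans h0))
        have := Nat.mod_lt m hc0
        omega
      · have := Nat.mod_le (finrank F (fixSp g)) c
        omega
    set j := min (m / c) A with hj
    obtain ⟨U, hUD, hU, hUi, hUd⟩ := NdPieces.exists_nd_inv hS h2 hiso hr2 hr0 hi hc hg hD hDi hfree j
      (by rw [hA]; exact Nat.mul_le_mul_left c (min_le_right _ _))
    have hdm' := Nat.div_add_mod m c
    have hj2 : c * j = 2 * (h * j) := by rw [hh]; ring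
    have hlf : m - c * j < finrank F (fixSp g) := by
      by_cases hcase : m / c ≤ A
      · rw [hj, min_eq_left hcase]; omega
      · have hjA : j = A := min_eq_right (by omega)
        rw [hjA]; omega
    have hcj : c * j ≤ m := (Nat.mul_le_mul_left c (min_le_left _ _)).trans (Nat.mul_div_le m c)
    obtain ⟨δ₀, hδ₀⟩ := exists_hasDisc h2 hS hW₀.2
    obtain ⟨ε, hε⟩ := exists_hasDisc h2 hS hU
    obtain ⟨L, hL, hLnd, hLd, hLdisc⟩ := exists_family h2 hS (c := δ₀ * ε)
      (mul_ne_zero hδ₀.ne_zero hε.ne_zero) (m - c * j - 1) hF0 (by omega)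
    have ho : OrthTo (pB Q) L U := fun u hu v hv => hort u (hL hu) v (hUD hv)
    have hd' : finrank F ↥(L ⊔ U) = m := by
      rw [finrank_sup_of_disjoint (disjoint_of_orth hB hLnd ho), hLd, hUd]; omega
    refine ⟨L ⊔ U, ⟨hd', nd_sup hB hLnd hU ho, isometric_of_disc h2 (nd_sup hB hLnd hU ho) hW₀.2
      (hd'.trans hW₀.1.symm) (hLdisc.sup hB hε ho) hδ₀ ⟨δ₀ * ε, by ring⟩⟩, hW _ (inv_sup ?_ hUi)⟩
    rintro _ ⟨v, hv, rfl⟩
    rw [mem_fixSp.1 (hL hv)]; exact hv

/-- in characteristic `r` there is always a derangement -/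
theorem not_allFix_char (p : ℕ) [hp : Fact p.Prime] [CharP F p] (hp2 : p ≠ 2)
    (hQ : (QuadraticMap.polarBilin Q).Nondegenerate) {d m : ℕ} (hcard : Fintype.card ι = 2 * d) (hd : 4 ≤ d)
    (hm : Odd m) (hmd : m < d) {W₀ : Submodule F (ι → F)} (hW₀ : finrank F W₀ = m ∧ NdOn (pB Q) W₀) :
    ¬ AllFix Q W₀ m p := by
  classical
  intro H
  have : Nonempty ι := Fintype.card_pos_iff.1 (by omega)
  have hp3 : 3 ≤ p := by have := hp.out.two_le; omega
  have h2 : (2 : F) ≠ 0 := fun h => hp2 ((Nat.prime_dvd_prime_iff_eq hp.out Nat.prime_two).1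
    ((CharP.cast_eq_zero_iff F p 2).1 (by exact_mod_cast h)))
  have hone : ∀ x : GL ι F, x ^ p = 1 → x ≠ 1 → ∀ z : F, (x : Matrix ι ι F) ≠ z • (1 : Matrix ι ι F) :=
    fun x hxp hx1 z hz => hx1 (by
      obtain ⟨i⟩ : Nonempty ι := inferInstance
      have h1 : z ^ p = 1 := by
        have h := congrArg (fun M : Matrix ι ι F => M i i) (congrArg Units.val hxp)
        simp [Units.val_pow_eq_pow_val, hz, _root_.smul_pow] at h
        exact h
      have hz1 : z = 1 := sub_eq_zero.1 (eq_zero_of_pow_eq_zero (n := p) (by rw [sub_pow_char, h1, one_pow, sub_self]))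
      exact Units.ext (by rw [hz, hz1, one_smul, Units.val_one]))
  obtain ⟨l₀, hl₀⟩ := hm
  rcases Nat.even_or_odd d with hde | hdo
  · -- a line and a totally singular space of fixed vectors
    have hS := pB_symm Q
    have hB := pB_refl Q
    obtain ⟨α, hα⟩ := FiniteField.exists_nonsquare (F := F) (by rw [ringChar.eq F p]; exact hp2)
    have hα0 : α ≠ 0 := fun h => hα (h ▸ ⟨0, by simp⟩)
    obtain ⟨δ₀, hδ₀⟩ := exists_hasDisc h2 hS hW₀.2
    obtain ⟨δV, hδV⟩ := exists_hasDisc h2 hS (ndOn_top (F := F) (B := pB Q) hQ)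
    obtain ⟨d', hd'⟩ := hde
    set c₀ : F := if m % 4 = 1 then α * δ₀ else α * (δ₀ * δV) with hc₀def
    have hc₀ : c₀ ≠ 0 := by
      rw [hc₀def]
      split_ifs
      · exact mul_ne_zero hα0 hδ₀.ne_zero
      · exact mul_ne_zero hα0 (mul_ne_zero hδ₀.ne_zero hδV.ne_zero)
    obtain ⟨x, e, hxΩ, hxp, hfix, he, hee, hR⟩ := UnipotentOdd.exists_line_elt p hp2 hQ hcard (by omega) ⟨d', hd'⟩
      hc₀
    have hxp' : (x : GL ι F) ^ p = 1 := by rw [← SubmonoidClass.coe_pow, hxp, OneMemClass.coe_one]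
    have hx1 : (x : GL ι F) ≠ 1 := fun h => by
      have htop : fixSp (act x) = ⊤ := eq_top_iff.2 fun v _ => mem_fixSp.2 (by
        rw [act_apply, h, Units.val_one, Matrix.one_mulVec])
      rw [htop, finrank_top, Module.finrank_pi] at hfix
      omega
    obtain ⟨W, ⟨hWd, hWnd, hWiso⟩, hWi⟩ := H (x : GL ι F) ⟨x, hxΩ, rfl⟩
      ⟨1, by rw [hxp', Units.val_one, one_smul]⟩ (hone _ hxp' hx1)
    obtain ⟨U, hor, hU4, δ, hδ, hsq⟩ := UnipotentOdd.disc_class (B := pB Q) hQ hS h2 (g := act x) (fun u v => act_polar x u v)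
      (d := d) (by rw [Module.finrank_pi, hcard]) hfix he (hee.symm ▸ hc₀) hR hWnd hWi ⟨l₀, by omega⟩
    rw [hee] at hsq
    have hWdisc := disc_of_isometric hWiso hδ₀
    obtain ⟨hW', ho, hsup, hdim⟩ := perp_nd hB (ndOn_top (F := F) (B := pB Q) hQ) hWnd le_top
    rw [finrank_top, Module.finrank_pi, hcard] at hdim
    obtain ⟨s, hs⟩ := hsq
    have hδ0 := hδ.ne_zero
    have hδ00 := hδ₀.ne_zero
    rcases hor with rfl | rfl
    · obtain ⟨t, ht⟩ := UnipotentOdd.disc_unique hδ hWdisc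
      rw [hc₀def, if_pos (by omega)] at hs
      exact hα ⟨t * s / (δ * δ₀), by
        field_simp
        linear_combination (t * t) * hs + (α * (δ * δ₀)) * ht⟩
    · obtain ⟨t, ht⟩ := UnipotentOdd.disc_unique (hsup ▸ hWdisc.sup hB hδ ho) hδV
      rw [hc₀def, if_neg (by omega)] at hs
      have hδV0 := hδV.ne_zero
      exact hα ⟨t * s / (δ₀ * δ * δV), by
        field_simp
        linear_combination (t * t) * hs + (α * (δ₀ * δ * δV)) * ht⟩
  · -- Jordan types
    obtain ⟨d', hd'⟩ := hdo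
    have key : ∀ (b o : ℕ), Odd o → o ≤ 3 → Even b → 2 * b + 2 * o = 2 * d → 0 < b →
        (m % 4 ≠ o % 4) → False := fun b o ho ho3 hb hsum hb0 hmo => by
      have hR := OrthUnipotent.exists_element p hp2 Q hQ (Multiset.replicate b 2 + {o, o})
        (fun e he => by
          rcases Multiset.mem_add.1 he with he | he
          · rw [Multiset.eq_of_mem_replicate he]; omega
          · simp at he; subst he; exact ⟨ho.pos, by omega⟩)
        (fun e he => by
          rw [Multiset.count_add, Multiset.count_replicate,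
            show Multiset.count e ({o, o} : Multiset ℕ) = 0 from Multiset.count_eq_zero.2 (fun h => by
              simp at h; subst h; exact Nat.not_even_iff_odd.2 ho he), add_zero]
          split_ifs
          · exact hb
          · exact ⟨0, rfl⟩)
        (by simp; omega) ⟨o, by simp, ho⟩
      obtain ⟨ν, h1, hνs, h3, h4⟩ := OrthUnipotent.split_of_fixes p hp2 Q hQ _ (m := m)
        (fun W hW => ⟨hW.1, (nd_iff W).2 hW.2.1⟩)
        (fun x hx hxp hx1 => H x hx ⟨1, by rw [hxp, Units.val_one, one_smul]⟩ (hone x hxp hx1)) _ hR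
        ⟨2, Multiset.mem_add.2 (Or.inl (Multiset.mem_replicate.2 ⟨hb0.ne', rfl⟩)), by omega⟩
      obtain ⟨j, S, hS, hj, -⟩ := OrthUnipotent.two_three_parts h1 hνs h3
      obtain ⟨o', ho'⟩ := ho
      have hS' := Multiset.mem_powerset.2 hS
      simp only [Multiset.insert_eq_cons, Multiset.powerset_cons, Multiset.powerset_zero, ← Multiset.cons_zero,
        Multiset.map_add, Multiset.map_cons, Multiset.map_zero, Multiset.mem_add, Multiset.mem_cons,
        Multiset.notMem_zero, or_false] at hS'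
      rcases hS' with (rfl | rfl) | rfl | rfl <;> simp at hj <;> omega
    by_cases hm4 : m % 4 = 1
    · exact key (d - 3) 3 (by decide) le_rfl ⟨d' - 1, by omega⟩ (by omega) (by omega) (by omega)
    · exact key (d - 1) 1 odd_one (by omega) ⟨d', by omega⟩ (by omega) (by omega) (by omega)

end Cfsg.Agent.Classical.IsoInvariant.EvenOddNd
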