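import Mathlib
import Cfsg.Agent.Lib.Classical.IsoInvariant.EvenBasic
import Cfsg.Agent.Lib.Classical.OrthTypes
import Cfsg.Agent.Lib.Classical.OmegaCrit
import Cfsg.Agent.Lib.Forms.Elusive.OrthUnipotent
import Cfsg.Agent.Aschbacher.Ev.Types

/-!
# Types of nondegenerate even-dimensional subspaces of a quadratic space, any characteristic
-/

set_option autoImplicit false
set_option linter.unusedSectionVars false

namespace Cfsg.Agent.Classical.IsoInvariant.QuadNd

open Module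
open Cfsg.Agent.Forms
open Cfsg.Agent.Forms.Elusive Cfsg.Agent.Forms.Elusive.Pieces
open Cfsg.Agent.Forms.Reflections (act act_mul act_one act_apply act_map act_polar par par_one par_mul_all)
open Cfsg.Agent.Classical.OrthTypes
open Cfsg.Agent.Classical.IsoInvariant.NdType Cfsg.Agent.Classical.IsoInvariant.EvenDim

variable {F : Type*} [Field F] [Fintype F] {ι : Type} [Fintype ι] [DecidableEq ι]
  {Q : QuadraticForm F (ι → F)}

/-- plus type of a subspace -/
abbrev QPlus (Q : QuadraticForm F (ι → F)) (W : Submodule F (ι → F)) : Prop := Cfsg.Geo.IsPlusTypeOn ⇑Q W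

theorem qplus_top {d : ℕ} (hcard : Fintype.card ι = 2 * d) : QPlus Q ⊤ ↔ IsPlus Q d := by
  constructor
  · rintro ⟨U, -, hU, hd⟩
    rw [finrank_top, Module.finrank_pi, hcard] at hd
    exact ⟨U, hU, by omega⟩
  · rintro ⟨U, hU, hd⟩
    exact ⟨U, le_top, hU, by rw [finrank_top, Module.finrank_pi, hcard, hd]⟩

/-- the form on a subspace in coordinates -/
noncomputable def coordQ (Q : QuadraticForm F (ι → F)) {κ : Type} {W : Submodule F (ι → F)}
    (L : (κ → F) ≃ₗ[F] W) : QuadraticForm F (κ → F) :=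
  Q.comp (W.subtype ∘ₗ L.toLinearMap)

theorem coordQ_apply {κ : Type} {W : Submodule F (ι → F)} (L : (κ → F) ≃ₗ[F] W) (x : κ → F) :
    coordQ Q L x = Q (L x : ι → F) := rfl

theorem coordQ_nondeg {κ : Type} [Fintype κ] {W : Submodule F (ι → F)} (hW : NdOn (pB Q) W)
    (L : (κ → F) ≃ₗ[F] W) : (QuadraticMap.polarBilin (coordQ Q L)).Nondegenerate := by
  have hpol : ∀ x y, QuadraticMap.polarBilin (coordQ Q L) x y = pB Q (L x : ι → F) (L y : ι → F) := fun x y => by
    simp [QuadraticMap.polar, coordQ_apply]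
  have key : ∀ x, (∀ y, QuadraticMap.polarBilin (coordQ Q L) x y = 0) → x = 0 := fun x hx => by
    by_contra h0
    obtain ⟨u, hu, hxu⟩ := hW (L x : ι → F) (L x).2 fun e => h0 (L.map_eq_zero_iff.1 (Subtype.ext e))
    have := hx (L.symm ⟨u, hu⟩)
    rw [hpol, L.apply_symm_apply] at this
    exact hxu this
  exact ⟨key, fun y hy => key y fun x => by rw [← hy x, hpol, hpol, (pB_symm Q).eq]⟩

theorem isPlus_coordQ {κ : Type} [Fintype κ] {W : Submodule F (ι → F)} (L : (κ → F) ≃ₗ[F] W) {k : ℕ}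
    (hk : Fintype.card κ = 2 * k) : IsPlus (coordQ Q L) k ↔ QPlus Q W := by
  have hW : finrank F W = 2 * k := by rw [← L.finrank_eq, Module.finrank_pi, hk]
  constructor
  · rintro ⟨U, hU, hd⟩
    refine ⟨(U.map L.toLinearMap).map W.subtype, Submodule.map_subtype_le W _, ?_, ?_⟩
    · rintro _ ⟨_, ⟨x, hx, rfl⟩, rfl⟩
      exact hU x hx
    · rw [Submodule.finrank_map_subtype_eq, LinearEquiv.finrank_map_eq, hd, hW]
  · rintro ⟨U, hUW, hU, hd⟩
    refine ⟨(U.comap W.subtype).map L.symm.toLinearMap, ?_, ?_⟩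
    · rintro _ ⟨x, hx, rfl⟩
      rw [coordQ_apply, LinearEquiv.coe_coe, L.apply_symm_apply]
      exact hU _ hx
    · rw [LinearEquiv.finrank_map_eq, (Submodule.comapSubtypeEquivOfLe hUW).finrank_eq]
      omega

/-- coordinates on an even-dimensional subspace -/
noncomputable def coord {W : Submodule F (ι → F)} {k : ℕ} (hk : finrank F W = 2 * k) :
    (Fin (2 * k) → F) ≃ₗ[F] W :=
  (Module.finBasisOfFinrankEq F W hk).equivFun.symm

/-- an orthogonal decomposition as a sum of forms -/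
theorem exists_iso_sum {κ μ : Type} [Fintype κ] [Fintype μ] {W W' : Submodule F (ι → F)} (hW : NdOn (pB Q) W)
    (ho : OrthTo (pB Q) W W') (hsup : W ⊔ W' = ⊤) (L : (κ → F) ≃ₗ[F] W) (L' : (μ → F) ≃ₗ[F] W') :
    ∃ e : (κ ⊕ μ → F) ≃ₗ[F] (ι → F), (∀ x, Q (e x) = sumQ (coordQ Q L) (coordQ Q L') x) ∧
      ∀ x, e x = (L (x ∘ Sum.inl) : ι → F) + (L' (x ∘ Sum.inr) : ι → F) := by
  have hc : IsCompl W W' := ⟨disjoint_of_orth (pB_refl Q) hW ho, codisjoint_iff.2 hsup⟩
  refine ⟨((LinearEquiv.sumArrowLequivProdArrow κ μ F F).trans (L.prodCongr L')).trans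
    (Submodule.prodEquivOfIsCompl W W' hc), fun x => ?_, fun x => rfl⟩
  show Q ((L (x ∘ Sum.inl) : ι → F) + (L' (x ∘ Sum.inr) : ι → F)) = _
  rw [QuadraticMap.map_add (⇑Q), sumQ_apply, coordQ_apply, coordQ_apply]
  have : QuadraticMap.polar (⇑Q) (L (x ∘ Sum.inl) : ι → F) (L' (x ∘ Sum.inr) : ι → F) = 0 :=
    ho _ (L _).2 _ (L' _).2
  rw [this, add_zero]

theorem isPlus_equiv {κ : Type} {R : QuadraticForm F (κ → F)} (e : (κ → F) ≃ₗ[F] (ι → F))
    (he : ∀ x, Q (e x) = R x) {d : ℕ} : IsPlus R d ↔ IsPlus Q d :=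
  ⟨fun h => h.map e he, fun h => h.map e.symm fun x => by rw [← he, e.apply_symm_apply]⟩

/-- the type of an orthogonal sum -/
theorem isPlus_sum_iff {κ μ : Type} [Fintype κ] [Fintype μ] {a b : ℕ} {R : QuadraticForm F (κ → F)}
    {S : QuadraticForm F (μ → F)} (ha : Fintype.card κ = 2 * a) (hb : Fintype.card μ = 2 * b)
    (hR : (QuadraticMap.polarBilin R).Nondegenerate) (hS : (QuadraticMap.polarBilin S).Nondegenerate) :
    IsPlus (sumQ R S) (a + b) ↔ (IsPlus R a ↔ IsPlus S b) := by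
  by_cases h1 : IsPlus R a <;> by_cases h2 : IsPlus S b
  · exact iff_of_true (isPlus_sum h1 h2) (iff_of_true h1 h2)
  · exact iff_of_false (not_isPlus_sum ha hb hR hS h1 h2) fun h => h2 (h.1 h1)
  · refine iff_of_false (fun h => not_isPlus_sum hb ha hS hR h2 h1 ?_) fun h => h1 (h.2 h2)
    rw [add_comm b a]
    refine h.map (LinearEquiv.funCongrLeft F F (Equiv.sumComm μ κ)) fun x => ?_
    rw [sumQ_apply, sumQ_apply, add_comm]
    rfl
  · exact iff_of_true (isPlus_sum_minus ha hb hR hS h1 h2) (iff_of_false h1 h2)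

/-- the types of a subspace and of its complement determine that of the space -/
theorem type_sum {d : ℕ} (hcard : Fintype.card ι = 2 * d) {W W' : Submodule F (ι → F)} (hW : NdOn (pB Q) W)
    (hW' : NdOn (pB Q) W') (ho : OrthTo (pB Q) W W') (hsup : W ⊔ W' = ⊤) {a b : ℕ} (ha : finrank F W = 2 * a)
    (hb : finrank F W' = 2 * b) : QPlus Q ⊤ ↔ (QPlus Q W ↔ QPlus Q W') := by
  obtain ⟨e, he, -⟩ := exists_iso_sum hW ho hsup (coord ha) (coord hb)
  have hab : a + b = d := by
    have h1 := e.finrank_eq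
    simp only [Module.finrank_pi, Fintype.card_sum, Fintype.card_fin, hcard] at h1
    omega
  rw [qplus_top hcard, ← isPlus_equiv e he, ← hab, isPlus_sum_iff (Fintype.card_fin _) (Fintype.card_fin _)
    (coordQ_nondeg hW _) (coordQ_nondeg hW' _), isPlus_coordQ _ (Fintype.card_fin _),
    isPlus_coordQ _ (Fintype.card_fin _)]

/-- subspaces of the same dimension and type are isometric -/
theorem isometric_of_type {W W' : Submodule F (ι → F)} (hW : NdOn (pB Q) W) (hW' : NdOn (pB Q) W') {k : ℕ}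
    (hk : finrank F W = 2 * k) (hk' : finrank F W' = 2 * k) (h : QPlus Q W ↔ QPlus Q W') :
    Cfsg.Geo.AreIsometricFor ⇑Q W W' :=
  Aschbacher.Ev.isometric_of_same_type (fun r hr hr0 => hW r hr hr0) (fun r hr hr0 => hW' r hr hr0) hk hk' h

theorem type_of_isometric {W W' : Submodule F (ι → F)} (h : Cfsg.Geo.AreIsometricFor ⇑Q W W') :
    QPlus Q W ↔ QPlus Q W' :=
  ⟨fun hp => Aschbacher.Ev.plus_of_isometric h hp,
    fun hp => Aschbacher.Ev.plus_of_isometric (Aschbacher.Ev.isometric_symm h) hp⟩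

/-- a scalar isometry squares to one -/
theorem scalar_sq (hQ : (QuadraticMap.polarBilin Q).Nondegenerate) [Nonempty ι]
    {g : (ι → F) →ₗ[F] (ι → F)} (hg : ∀ v, Q (g v) = Q v) {z : F} (hz : ∀ v, g v = z • v) : z * z = 1 := by
  obtain ⟨i⟩ : Nonempty ι := inferInstance
  have hne : (Pi.single i 1 : ι → F) ≠ 0 := by simp
  by_contra h
  refine hne (hQ.1 _ fun y => ?_)
  have hQ0 : ∀ v, Q v = 0 := fun v => by
    have h1 := hg v
    rw [hz, QuadraticMap.map_smul, smul_eq_mul] at h1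
    by_contra h0
    exact h (mul_right_cancel₀ h0 (h1.trans (one_mul _).symm))
  simp [QuadraticMap.polar, hQ0]

/-- elements of odd order lie in `Ω` -/
theorem mem_omega_of_odd (hQ : (QuadraticMap.polarBilin Q).Nondegenerate) (hn : 5 ≤ Fintype.card ι)
    {g : Cfsg.isometryGroup F ⇑Q} {r : ℕ} (hr : Odd r) (hg : g ^ r = 1) : g ∈ Cfsg.Omega F ⇑Q := by
  by_cases hF : Fintype.card F = 2
  · have h2 : (2 : F) = 0 := by
      have h := FiniteField.cast_card_eq_zero F
      rwa [hF, Nat.cast_ofNat] at h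
    have h : Fintype.card F ≠ 2 ∨ Fintype.card ι ≠ 4 := Or.inr (by omega)
    rw [OmegaCrit.mem_omega_iff_par hQ h h2]
    let φ : Cfsg.isometryGroup F ⇑Q →* ℤˣ := MonoidHom.mk' par (par_mul_all hQ h)
    show φ g = 1
    obtain ⟨k, rfl⟩ := hr
    have h1 := congrArg φ hg
    rwa [map_pow, map_one, pow_succ, pow_mul, sq, Int.units_mul_self, one_pow, one_mul] at h1
  · exact OrthUnipotent.mem_omega Q hQ hF hr hg

/-- scalar-power elements: the linear map of order `r` behind one -/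
theorem exists_lift (hQ : (QuadraticMap.polarBilin Q).Nondegenerate) [Nonempty ι] {r : ℕ} (hr : Odd r)
    {x : GL ι F} (hx : x ∈ Cfsg.Geo.omegaGL ⇑Q)
    (hxr : ∃ z : F, ((x ^ r : GL ι F) : Matrix ι ι F) = z • (1 : Matrix ι ι F)) :
    ∃ A : Matrix ι ι F, (∀ v, Q (A.mulVec v) = Q v) ∧ A ^ r = 1 ∧
      ∀ W : Submodule F (ι → F), W.map (Matrix.toLin' A) ≤ W →
        W.map (Matrix.toLin' (x : Matrix ι ι F)) ≤ W := by
  obtain ⟨z, hz⟩ := hxr
  obtain ⟨y, -, rfl⟩ := hx
  have hxQ : ∀ v, Q ((((y : Cfsg.isometryGroup F ⇑Q) : GL ι F) : Matrix ι ι F).mulVec v) = Q v := act_map y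
  simp only [Subgroup.coe_subtype, Units.val_pow_eq_pow_val] at hz ⊢
  set X := ((y : GL ι F) : Matrix ι ι F) with hX
  have hzz : z * z = 1 := scalar_sq hQ (g := (Matrix.toLin' X) ^ r) (fun v => by
      rw [← Matrix.toLin'_pow, Matrix.toLin'_apply]
      have : ∀ (n : ℕ) v, Q ((X ^ n).mulVec v) = Q v := fun n => by
        induction n with
        | zero => simp
        | succ n ih => intro v; rw [pow_succ', ← Matrix.mulVec_mulVec, hxQ, ih]
      exact this r v)
    fun v => by rw [← Matrix.toLin'_pow, hz, Matrix.toLin'_apply, Matrix.smul_mulVec, Matrix.one_mulVec]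
  refine ⟨z • X, fun v => ?_, ?_, fun W hW => ?_⟩
  · rw [Matrix.smul_mulVec, QuadraticMap.map_smul, hzz, one_smul, hxQ]
  · obtain ⟨k, rfl⟩ := hr
    rw [_root_.smul_pow, hz, smul_smul, ← pow_succ, show 2 * k + 1 + 1 = 2 * (k + 1) by omega, pow_mul, sq, hzz,
      one_pow, one_smul]
  · rintro _ ⟨v, hv, rfl⟩
    have h1 := W.smul_mem z (hW ⟨v, hv, rfl⟩)
    rw [map_smul, LinearMap.smul_apply, smul_smul, hzz, one_smul] at h1
    exact h1

/-! ### The number of subspaces of a given type -/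

/-- the isometries of the orthogonal complement fix the subspace -/
theorem natCard_compl_dvd_stab {κ : Type} [Fintype κ] [DecidableEq κ] {W₀ P : Submodule F (ι → F)}
    (hW₀ : NdOn (pB Q) W₀) (ho : OrthTo (pB Q) W₀ P) (hsup : W₀ ⊔ P = ⊤) (L : (κ → F) ≃ₗ[F] P) :
    Nat.card (Cfsg.isometryGroup F ⇑(coordQ Q L)) ∣ Nat.card (stab (Q := Q) W₀) := by
  classical
  have hc : IsCompl W₀ P := ⟨disjoint_of_orth (pB_refl Q) hW₀ ho, codisjoint_iff.2 hsup⟩
  let Φ := Submodule.prodEquivOfIsCompl W₀ P hc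
  let α : Cfsg.isometryGroup F ⇑(coordQ Q L) → (P →ₗ[F] P) := fun h =>
    L.toLinearMap ∘ₗ act h ∘ₗ L.symm.toLinearMap
  let β : Cfsg.isometryGroup F ⇑(coordQ Q L) → ((ι → F) →ₗ[F] (ι → F)) := fun h =>
    Φ.toLinearMap ∘ₗ LinearMap.prodMap LinearMap.id (α h) ∘ₗ Φ.symm.toLinearMap
  have hβ : ∀ h (a : W₀) (b : P), β h ((a : ι → F) + (b : ι → F)) = (a : ι → F) + (α h b : ι → F) := fun h a b => by
    have e1 : Φ.symm ((a : ι → F) + (b : ι → F)) = (a, b) := by
      rw [LinearEquiv.symm_apply_eq]; simp [Φ]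
    simp [β, Φ]
  have hdec : ∀ v : ι → F, ∃ (a : W₀) (b : P), v = (a : ι → F) + (b : ι → F) := fun v =>
    ⟨(Φ.symm v).1, (Φ.symm v).2, by
      conv_lhs => rw [← Φ.apply_symm_apply v]
      rfl⟩
  have hβmul : ∀ g h v, β (g * h) v = β g (β h v) := fun g h v => by
    obtain ⟨a, b, rfl⟩ := hdec v
    rw [hβ, hβ, hβ]
    simp [α, act_mul]
  have hβone : ∀ v, β 1 v = v := fun v => by
    obtain ⟨a, b, rfl⟩ := hdec v
    rw [hβ]
    simp [α, act_one]
  let εe : Cfsg.isometryGroup F ⇑(coordQ Q L) → ((ι → F) ≃ₗ[F] (ι → F)) := fun h =>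
    LinearEquiv.ofLinearMap (β h) (β h⁻¹) (LinearMap.ext fun v => by
        rw [LinearMap.comp_apply, ← hβmul, mul_inv_cancel, hβone, LinearMap.id_apply])
      (LinearMap.ext fun v => by rw [LinearMap.comp_apply, ← hβmul, inv_mul_cancel, hβone, LinearMap.id_apply])
  have hεQ : ∀ h v, Q (εe h v) = Q v := fun h v => by
    show Q (β h v) = _
    obtain ⟨a, b, rfl⟩ := hdec v
    rw [hβ, QuadraticMap.map_add (⇑Q), QuadraticMap.map_add (⇑Q)]
    have e1 : QuadraticMap.polar (⇑Q) (a : ι → F) (α h b : ι → F) = 0 := ho a a.2 _ (α h b).2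
    have e2 : QuadraticMap.polar (⇑Q) (a : ι → F) (b : ι → F) = 0 := ho a a.2 _ b.2
    have e3 : Q (α h b : ι → F) = Q (b : ι → F) := by
      show Q (L (act h (L.symm b)) : ι → F) = _
      rw [← coordQ_apply L, act_map, coordQ_apply, L.apply_symm_apply]
    rw [e1, e2, e3]
  let φ : Cfsg.isometryGroup F ⇑(coordQ Q L) →* stab (Q := Q) W₀ :=
    { toFun := fun h => ⟨QuadStd.isoOfEquiv _ (εe h) (hεQ h), by
        show W₀.map (act _) = W₀
        have e1 : ∀ a : W₀, act (QuadStd.isoOfEquiv (⇑Q) (εe h) (hεQ h)) (a : ι → F) = a := fun a => by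
          rw [act_apply, QuadStd.isoOfEquiv_mulVec]
          show β h (a : ι → F) = a
          conv_lhs => rw [← add_zero (a : ι → F), ← Submodule.coe_zero (p := P)]
          rw [hβ, map_zero, Submodule.coe_zero, add_zero]
        refine le_antisymm ?_ fun a ha => ⟨a, ha, e1 ⟨a, ha⟩⟩
        rintro _ ⟨a, ha, rfl⟩
        rw [e1 ⟨a, ha⟩]; exact ha⟩
      map_one' := Subtype.ext (QuadStd.iso_ext fun v => by
        rw [QuadStd.isoOfEquiv_mulVec]
        show β 1 v = _
        simp [hβone])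
      map_mul' := fun g h => Subtype.ext (QuadStd.iso_ext fun v => by
        rw [Subgroup.coe_mul, QuadStd.mul_mulVec_iso, QuadStd.isoOfEquiv_mulVec, QuadStd.isoOfEquiv_mulVec,
          QuadStd.isoOfEquiv_mulVec]
        exact hβmul g h v) }
  refine Subgroup.card_dvd_of_injective φ fun g h heq => ?_
  have h1 : ∀ v, β g v = β h v := fun v => by
    have := congrArg (fun x : stab (Q := Q) W₀ => act (x : Cfsg.isometryGroup F ⇑Q) v) heq
    simp only [φ, MonoidHom.coe_mk, OneHom.coe_mk, act_apply, QuadStd.isoOfEquiv_mulVec] at this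
    exact this
  refine QuadStd.iso_ext fun x => ?_
  have h2 := h1 ((0 : W₀) + ((L x : P) : ι → F))
  rw [hβ, hβ, add_right_inj] at h2
  have h3 := Subtype.ext h2
  simp only [α, LinearMap.comp_apply, LinearEquiv.coe_coe, L.symm_apply_apply, L.injective.eq_iff,
    act_apply] at h3
  exact h3

end Cfsg.Agent.Classical.IsoInvariant.QuadNd
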