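import Mathlib
import Cfsg.Agent.Lib.Classical.IsoInvariant.QuadNd
import Cfsg.Agent.S0306

/-!
# Subspaces from orthogonal sums of models; how many subspaces have a given type
-/

set_option autoImplicit false
set_option linter.unusedSectionVars false

namespace Cfsg.Agent.Classical.IsoInvariant.TypeSplit

open Module
open Cfsg.Agent.Forms
open Cfsg.Agent.Forms.Elusive Cfsg.Agent.Forms.Elusive.Pieces
open Cfsg.Agent.Forms.Reflections (act act_mul act_one act_apply act_map act_polar)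
open Cfsg.Agent.Classical.OrthTypes
open Cfsg.Agent.Classical.IsoInvariant.NdType Cfsg.Agent.Classical.IsoInvariant.EvenDim
open Cfsg.Agent.Classical.IsoInvariant.QuadNd

variable {F : Type*} [Field F] [Fintype F] {ι : Type} [Fintype ι] [DecidableEq ι]
  {Q : QuadraticForm F (ι → F)}

/-- the image of the first summand of an isometric sum of models -/
theorem exists_image {κ μ : Type} [Fintype κ] [Fintype μ] [DecidableEq κ] [DecidableEq μ]
    {R : QuadraticForm F (κ → F)} {S : QuadraticForm F (μ → F)} (hR : (QuadraticMap.polarBilin R).Nondegenerate)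
    (e : (κ ⊕ μ → F) ≃ₗ[F] (ι → F)) (he : ∀ x, Q (e x) = sumQ R S x) {a : ℕ} (ha : Fintype.card κ = 2 * a) :
    ∃ W : Submodule F (ι → F), finrank F W = 2 * a ∧ NdOn (pB Q) W ∧ (QPlus Q W ↔ IsPlus R a) ∧
      ∀ (A : Matrix κ κ F) (B : Matrix μ μ F) (f : (ι → F) →ₗ[F] (ι → F)),
        (∀ x, f (e x) = e ((Matrix.fromBlocks A 0 0 B).mulVec x)) → W.map f ≤ W := by
  let inl : (κ → F) →ₗ[F] (κ ⊕ μ → F) :=
    (LinearEquiv.sumArrowLequivProdArrow κ μ F F).symm.toLinearMap ∘ₗ LinearMap.inl F _ _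
  have hinlv : ∀ u, inl u = Sum.elim u (0 : μ → F) := fun u => by
    funext z
    rcases z with z | z <;> rfl
  set φ : (κ → F) →ₗ[F] (ι → F) := e.toLinearMap ∘ₗ inl with hφ
  have hφv : ∀ u, φ u = e (Sum.elim u (0 : μ → F)) := fun u => by rw [hφ, ← hinlv]; rfl
  have hinj : Function.Injective φ := fun u v h => by
    rw [hφv, hφv] at h
    exact funext fun z => congrFun (e.injective h) (Sum.inl z)
  set W := LinearMap.range φ with hWdef
  let L : (κ → F) ≃ₗ[F] W := LinearEquiv.ofInjective φ hinj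
  have hL : ∀ u, (L u : ι → F) = φ u := fun u => rfl
  have hQL : coordQ Q L = R := by
    refine QuadraticMap.ext fun u => ?_
    rw [coordQ_apply, hL, hφv, he, sumQ_apply, Sum.elim_comp_inl, Sum.elim_comp_inr, QuadraticMap.map_zero, add_zero]
  refine ⟨W, by rw [← L.finrank_eq, Module.finrank_pi, ha], ?_, by rw [← isPlus_coordQ L ha, hQL], ?_⟩
  · intro v hv hv0
    obtain ⟨u, rfl⟩ : ∃ u, (L u : ι → F) = v := ⟨L.symm ⟨v, hv⟩, by rw [L.apply_symm_apply]⟩
    by_contra hcon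
    push Not at hcon
    refine hv0 ?_
    rw [show u = 0 from hR.1 u fun w => ?_, map_zero, Submodule.coe_zero]
    have h1 := hcon _ (L w).2
    rw [← hQL]
    simpa [QuadraticMap.polar, coordQ_apply] using h1
  · rintro A B f hf _ ⟨_, ⟨u, rfl⟩, rfl⟩
    refine ⟨A.mulVec u, ?_⟩
    rw [hφv, hφv, hf, Matrix.fromBlocks_mulVec, Sum.elim_comp_inl, Sum.elim_comp_inr, Matrix.mulVec_zero,
      Matrix.mulVec_zero, Matrix.zero_mulVec, add_zero, zero_add]

/-- subspaces of either type -/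
theorem exists_of_type (hQ : (QuadraticMap.polarBilin Q).Nondegenerate) {d a : ℕ}
    (hcard : Fintype.card ι = 2 * d) (ha : 1 ≤ a) (had : a < d) (ε : Prop) :
    ∃ W : Submodule F (ι → F), finrank F W = 2 * a ∧ NdOn (pB Q) W ∧ (QPlus Q W ↔ ε) := by
  classical
  obtain ⟨ζ, hζ⟩ := exists_zeta (F := F)
  have hab := QuadClass.aniso_one hζ
  have hmod : ∀ (n : ℕ) (b : Prop), 1 ≤ n → ∃ (κ : Type) (_ : Fintype κ) (_ : DecidableEq κ)
      (R : QuadraticForm F (κ → F)), Fintype.card κ = 2 * n ∧ (QuadraticMap.polarBilin R).Nondegenerate ∧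
        (IsPlus R n ↔ b) := by
    intro n b hn
    by_cases hb : b
    · exact ⟨_, inferInstance, inferInstance, PlusStd.plusQ F n, by simp [two_mul], PlusStd.plusQ_nondeg F n,
        iff_of_true (isPlus_plusQ n) hb⟩
    · obtain ⟨k, rfl⟩ : ∃ k, n = k + 1 := ⟨n - 1, by omega⟩
      exact ⟨_, inferInstance, inferInstance, OrthForms.minQ F k 1 ζ, by simp; omega, OrthForms.minQ_nondeg k hab,
        iff_of_false (not_isPlus_minQ hab) hb⟩
  obtain ⟨κ, _, _, R, hκ, hR, hRt⟩ := hmod a ε ha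
  obtain ⟨μ, _, _, S, hμ, hS, hSt⟩ := hmod (d - a) (IsPlus Q d ↔ ε) (by omega)
  have hc : Fintype.card (κ ⊕ μ) = 2 * d := by rw [Fintype.card_sum, hκ, hμ]; omega
  obtain ⟨e, he⟩ := exists_isometry hc hcard (sumQ_nondeg hR hS) hQ (by
    rw [show d = a + (d - a) by omega, isPlus_sum_iff hκ hμ hR hS, hRt, hSt, show a + (d - a) = d by omega]
    tauto)
  obtain ⟨W, h1, h2, h3, -⟩ := exists_image hR e he hκ
  exact ⟨W, h1, h2, h3.trans hRt⟩

theorem natCard_iso_le {κ : Type} [Fintype κ] [DecidableEq κ] {R : QuadraticForm F (κ → F)}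
    (e : (ι → F) ≃ₗ[F] (κ → F)) (he : ∀ x, R (e x) = Q x) :
    Nat.card (Cfsg.isometryGroup F ⇑Q) = Nat.card (Cfsg.isometryGroup F ⇑R) := by
  let φ : GL ι F ≃* GL κ F :=
    Matrix.GeneralLinearGroup.toLin.trans ((LinearMap.GeneralLinearGroup.congrLinearEquiv e).trans
      Matrix.GeneralLinearGroup.toLin.symm)
  have hφ : ∀ (g : GL ι F) (v : ι → F), (φ g : Matrix κ κ F).mulVec (e v) = e ((g : Matrix ι ι F).mulVec v) := by
    intro g v
    show (LinearMap.toMatrix' (e.toLinearMap ∘ₗ Matrix.toLin' (g : Matrix ι ι F) ∘ₗ e.symm.toLinearMap)).mulVec (e v) = _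
    rw [LinearMap.toMatrix'_mulVec]
    simp
  refine Nat.card_congr (φ.toEquiv.subtypeEquiv fun g => ?_)
  show g ∈ Cfsg.isometryGroup F ⇑Q ↔ φ g ∈ Cfsg.isometryGroup F ⇑R
  rw [QuadStd.mem_isometry_iff, QuadStd.mem_isometry_iff]
  refine ⟨fun hg w => ?_, fun hg v => ?_⟩
  · obtain ⟨v, rfl⟩ := e.surjective w
    rw [hφ, he, he, hg]
  · have h1 := hg (e v)
    rwa [hφ, he, he] at h1

/-- the order of an isometry group in even dimension -/
theorem natCard_O {d : ℕ} (hd : 1 ≤ d) (hcard : Fintype.card ι = 2 * d)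
    (hQ : (QuadraticMap.polarBilin Q).Nondegenerate) :
    ∃ T : ℕ, (IsPlus Q d → T = Fintype.card F ^ d - 1) ∧ (¬ IsPlus Q d → T = Fintype.card F ^ d + 1) ∧
      Nat.card (Cfsg.isometryGroup F ⇑Q) = 2 * Fintype.card F ^ (d * (d - 1)) * T *
        ∏ a ∈ Finset.range (d - 1), (Fintype.card F ^ (2 * (a + 1)) - 1) := by
  obtain ⟨k, rfl⟩ : ∃ k, d = k + 1 := ⟨d - 1, by omega⟩
  rcases normal_form hcard hQ with ⟨hp, e, he⟩ | ⟨hp, -, ζ, e, hζ, he⟩
  · refine ⟨_, fun _ => rfl, fun h => absurd hp h, ?_⟩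
    rw [natCard_iso_le e he, OrthForms.natCard_O_plus rfl k]
    rfl
  · refine ⟨_, fun h => absurd h hp, fun _ => rfl, ?_⟩
    have hab := QuadClass.aniso_one hζ
    have h0 : Nat.card (Cfsg.isometryGroup F ⇑(OrthForms.minQ F 0 1 ζ)) = 2 * (Fintype.card F + 1) := by
      rw [OrthForms.minQ_eq]
      obtain ⟨f⟩ := S0306.result (F := F) rfl 1 ζ hab
      rw [Nat.card_congr f.toEquiv, DihedralGroup.nat_card]
    rw [natCard_iso_le e he]
    exact OrthForms.natCard_O_min rfl hab h0 k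

/-- a prime dividing the number of subspaces of one type -/
theorem exists_index (hQ : (QuadraticMap.polarBilin Q).Nondegenerate) (p : ℕ) [Fact p.Prime] [CharP F p]
    {r i : ℕ} [hr : Fact r.Prime] (hr2 : r ≠ 2) (hrp : r ≠ p)
    (hi : i = orderOf ((Fintype.card F : ℕ) : ZMod r)) {d a e : ℕ} (hcard : Fintype.card ι = 2 * d)
    (ha : 1 ≤ a) (he : 1 ≤ e) (hae : a + e = d) (ε : Prop)
    (h : r ∣ Nat.card {W : Submodule F (ι → F) // finrank F W = 2 * a ∧ NdOn (pB Q) W ∧ (QPlus Q W ↔ ε)}) :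
    i ∣ 2 * d ∨ (∃ b, e < b ∧ b < d ∧ i ∣ 2 * b) ∨ (i ∣ 2 * e ∧ (i ∣ e ↔ ¬ (IsPlus Q d ↔ ε))) := by
  classical
  have hB := pB_refl Q
  obtain ⟨W₀, hW₀d, hW₀, hW₀t⟩ := exists_of_type hQ hcard ha (by omega) ε
  obtain ⟨hP, ho, hsup, hdim⟩ := perp_nd hB (ndOn_top hQ) hW₀ le_top
  rw [finrank_top, Module.finrank_pi, hcard] at hdim
  set P := (⊤ : Submodule F (ι → F)) ⊓ (pB Q).orthogonal W₀ with hPdef
  have hPd : finrank F P = 2 * e := by omega
  have hPt : IsPlus (coordQ Q (coord hPd)) e ↔ (IsPlus Q d ↔ ε) := by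
    rw [isPlus_coordQ _ (Fintype.card_fin _), ← qplus_top hcard, type_sum hcard hW₀ hP ho hsup hW₀d hPd, hW₀t]
    tauto
  obtain ⟨T', hT'1, hT'2, hT'⟩ := natCard_O he (Fintype.card_fin _) (coordQ_nondeg hP (coord hPd))
  obtain ⟨T, hT1, hT2, hT⟩ := natCard_O (d := d) (by omega) hcard hQ
  have hcount := natCard_mul_stab hQ hW₀ hW₀d
  obtain ⟨t, ht⟩ := natCard_compl_dvd_stab hW₀ ho hsup (coord hPd)
  have hset : Nat.card {W : Submodule F (ι → F) // finrank F W = 2 * a ∧ NdOn (pB Q) W ∧ (QPlus Q W ↔ ε)} =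
      Nat.card {W : Submodule F (ι → F) // finrank F W = 2 * a ∧ NdOn (pB Q) W ∧
        Cfsg.Geo.AreIsometricFor ⇑Q W W₀} :=
    Nat.card_congr (Equiv.subtypeEquivRight fun W => and_congr_right fun h1 => and_congr_right fun h2 =>
      ⟨fun h3 => isometric_of_type h2 hW₀ h1 hW₀d (h3.trans hW₀t.symm),
        fun h3 => (type_of_isometric h3).trans hW₀t⟩)
  rw [hset] at h
  obtain ⟨C, hC⟩ := h
  rw [hC, ht, hT', hT] at hcount
  set q := Fintype.card F with hq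
  have hrq : ¬ r ∣ q := fun h4 => by
    obtain ⟨n, -, hn⟩ := FiniteField.card F p
    rw [hq, hn] at h4
    exact hrp ((Nat.prime_dvd_prime_iff_eq hr.out Fact.out).1 (hr.out.dvd_of_dvd_pow h4))
  have hord : ∀ n, r ∣ q ^ n - 1 ↔ i ∣ n := fun n => by
    rw [hi, orderOf_dvd_iff_pow_eq_one, ← ZMod.natCast_eq_zero_iff, Nat.cast_sub (Nat.one_le_pow _ _ Fintype.card_pos),
      Nat.cast_pow, Nat.cast_one, sub_eq_zero]
  have hplus : ∀ n, r ∣ q ^ n + 1 ↔ (i ∣ 2 * n ∧ ¬ i ∣ n) := fun n => by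
    have h22 : (2 : ZMod r) ≠ 0 := fun h => hr2 ((Nat.prime_dvd_prime_iff_eq hr.out Nat.prime_two).1
      ((ZMod.natCast_eq_zero_iff 2 r).1 (by exact_mod_cast h)))
    rw [hi, orderOf_dvd_iff_pow_eq_one, orderOf_dvd_iff_pow_eq_one, ← ZMod.natCast_eq_zero_iff, Nat.cast_add,
      Nat.cast_pow, Nat.cast_one, mul_comm 2 n, pow_mul]
    constructor
    · intro h
      have e1 := eq_neg_of_add_eq_zero_left h
      refine ⟨by rw [e1]; ring, fun h1 => h22 ?_⟩
      rw [e1] at h1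
      linear_combination -h1
    · rintro ⟨h1, h3⟩
      rcases mul_self_eq_one_iff.1 (show ((q : ZMod r) ^ n) * ((q : ZMod r) ^ n) = 1 by rw [← sq]; exact h1) with h4 | h4
      · exact absurd h4 h3
      · rw [h4, neg_add_cancel]
  -- the leading factors
  have hTdvd : r ∣ T → i ∣ 2 * d := fun h1 => by
    by_cases hp : IsPlus Q d
    · exact ((hord d).1 (hT1 hp ▸ h1)).trans ⟨2, mul_comm _ _⟩
    · exact ((hplus d).1 (hT2 hp ▸ h1)).1
  obtain ⟨U, hU, hUdvd⟩ : ∃ U, T' * U = q ^ (2 * e) - 1 ∧ (r ∣ U → i ∣ 2 * e ∧ (i ∣ e ↔ ¬ (IsPlus Q d ↔ ε))) := by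
    have hsq : (q ^ e + 1) * (q ^ e - 1) = q ^ (2 * e) - 1 := by
      rw [← Nat.sq_sub_sq, one_pow, ← pow_mul, mul_comm]
    by_cases hp : IsPlus (coordQ Q (coord hPd)) e
    · refine ⟨q ^ e + 1, by rw [hT'1 hp, mul_comm, hsq], fun h1 => ?_⟩
      obtain ⟨h3, h4⟩ := (hplus e).1 h1
      exact ⟨h3, iff_of_false h4 (not_not.2 (hPt.1 hp))⟩
    · refine ⟨q ^ e - 1, by rw [hT'2 hp, hsq], fun h1 => ?_⟩
      exact ⟨((hord e).1 h1).trans ⟨2, mul_comm _ _⟩, iff_of_true ((hord e).1 h1) fun h3 => hp (hPt.2 h3)⟩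
  obtain ⟨e', rfl⟩ : ∃ e', e = e' + 1 := ⟨e - 1, by omega⟩
  rw [show e' + 1 - 1 = e' by omega, show d - 1 = (e' + 1) + (a - 1) by omega, Finset.prod_range_add,
    Finset.prod_range_succ] at hcount
  have hT'0 : 0 < T' := by
    refine Nat.pos_of_ne_zero fun h0 => ?_
    have h1 : 1 < q ^ (2 * (e' + 1)) := Nat.one_lt_pow (by omega) Fintype.one_lt_card
    rw [h0, zero_mul] at hU
    omega
  have hPe : 0 < ∏ b ∈ Finset.range e', (q ^ (2 * (b + 1)) - 1) := Finset.prod_pos fun b _ =>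
    Nat.sub_pos_of_lt (Nat.one_lt_pow (by omega) Fintype.one_lt_card)
  rw [← hU] at hcount
  have h3 : r * (C * q ^ ((e' + 1) * e') * t) =
      q ^ (d * (e' + 1 + (a - 1))) * (T * (U * ∏ b ∈ Finset.range (a - 1), (q ^ (2 * (e' + 1 + b + 1)) - 1))) :=
    Nat.eq_of_mul_eq_mul_left (Nat.mul_pos two_pos (Nat.mul_pos hT'0 hPe)) (by linear_combination hcount)
  rcases (Nat.Prime.dvd_mul hr.out).1 (Dvd.intro _ h3) with h4 | h4
  · exact absurd (hr.out.dvd_of_dvd_pow h4) hrq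
  rcases (Nat.Prime.dvd_mul hr.out).1 h4 with h4 | h4
  · exact Or.inl (hTdvd h4)
  rcases (Nat.Prime.dvd_mul hr.out).1 h4 with h4 | h4
  · exact Or.inr (Or.inr (hUdvd h4))
  obtain ⟨b, hb, h5⟩ := (hr.out.prime.dvd_finsetProd_iff _).1 h4
  rw [Finset.mem_range] at hb
  exact Or.inr (Or.inl ⟨e' + 1 + b + 1, by omega, by omega, (hord _).1 h5⟩)

end Cfsg.Agent.Classical.IsoInvariant.TypeSplit
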