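import Mathlib
import Cfsg.Agent.Lib.Classical.IsoInvariant.TypeSplit
import Cfsg.Agent.Lib.Classical.OrthPrimeClasses

/-!
# Invariant subspaces of a given type under elements of odd prime order, not the characteristic
-/

set_option autoImplicit false
set_option linter.unusedSectionVars false

namespace Cfsg.Agent.Classical.IsoInvariant.FreeSplit

open Module Polynomial
open Cfsg.Agent.Forms
open Cfsg.Agent.Forms.Elusive Cfsg.Agent.Forms.Elusive.Pieces
open Cfsg.Agent.Classical.StarFactor (Fac)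
open Cfsg.Agent.Classical.OrthTypes
open Cfsg.Agent.Classical.IsoInvariant.NdType Cfsg.Agent.Classical.IsoInvariant.EvenDim
open Cfsg.Agent.Classical.IsoInvariant.QuadNd Cfsg.Agent.Classical.IsoInvariant.TypeSplit
open Cfsg.Agent.Classical.OrthPrimeClasses (Setting Good)

variable {F : Type*} [Field F] [Fintype F] {ι : Type} [Fintype ι] [DecidableEq ι]
  {Q : QuadraticForm F (ι → F)}

/-- every element of order `r` modulo scalars fixes a subspace of the given dimension and type -/
def AllFix (Q : QuadraticForm F (ι → F)) (m : ℕ) (ε : Prop) (r : ℕ) : Prop :=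
  ∀ x : GL ι F, x ∈ Cfsg.Geo.omegaGL ⇑Q →
    (∃ z : F, ((x ^ r : GL ι F) : Matrix ι ι F) = z • (1 : Matrix ι ι F)) →
    (∀ z : F, (x : Matrix ι ι F) ≠ z • (1 : Matrix ι ι F)) →
    ∃ W : Submodule F (ι → F), (finrank F W = m ∧ NdOn (pB Q) W ∧ (QPlus Q W ↔ ε)) ∧
      W.map (Matrix.toLin' (x : Matrix ι ι F)) ≤ W

/-- an element with `f` fixed dimensions and `A` moved blocks fixes one -/
def Ok (τ ε : Prop) (i c m f A : ℕ) : Prop :=
  ∃ j l, j ≤ A ∧ l + c * j = m ∧ l ≤ f ∧ (l = 0 → (ε ↔ (Odd i ∨ Even j))) ∧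
    (l = f → (τ ↔ (ε ↔ (Odd i ∨ Even (A - j)))))

theorem iff_swap {a b e : Prop} (h : (a ↔ b) ↔ e) : a ↔ (b ↔ e) := by tauto

theorem iff_swap' {a b e : Prop} (h : a ↔ (b ↔ e)) : (a ↔ b) ↔ e := by tauto

variable {r i c : ℕ}

theorem c_pos (hset : Setting F r i) (hc : c = if Even i then i else 2 * i) : 0 < c := by
  have := OrthPrimeClasses.ne_of_pos hset
  rw [hc]; split_ifs <;> omega

/-- the shape of an invariant multiset of even total degree -/
theorem shape (hset : Setting F r i) (hc : c = if Even i then i else 2 * i) {n : ℕ} {s : Multiset F[X]}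
    (hs : Good r (2 * n) s) :
    ∃ (f j : ℕ) (t : Multiset F[X]), s = Multiset.replicate f (X - C 1) + t ∧ (∀ p ∈ t, Fac r p) ∧
      t.map (StarFactor.star r) = t ∧ f + c * j = 2 * n ∧ (f = 0 ↔ X - C 1 ∉ s) ∧
      i * Multiset.card t = c * j ∧
      (f = 0 → ((Odd i ∨ Even (2 * n / i)) ↔ (Odd i ∨ Even j))) := by
  have : Fact r.Prime := ⟨hset.prime⟩
  obtain ⟨f, t, hst, ht, hinv, hn, hc0⟩ := OrthPrimeClasses.split hset hs
  obtain ⟨b, ⟨κ, _, _, k, R, A, hk, hA, -⟩, -⟩ := OrthPrimeClasses.real_no_ones hset t ht hinv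
  have h := OrthPrimeClasses.sum_degree_of_datum hA fun p hp => (ht p hp).monic
  rw [Multiset.map_congr rfl fun p hp => hset.deg p (ht p hp), Multiset.map_const', Multiset.sum_replicate,
    smul_eq_mul, hk, mul_comm] at h
  have hi0 := OrthPrimeClasses.ne_of_pos hset
  rcases Nat.even_or_odd i with hev | hodd
  · rw [if_pos hev] at hc
    subst hc
    refine ⟨f, _, t, hst, ht, hinv, hn.symm, hc0, rfl, fun h0 => ?_⟩
    rw [h0, zero_add] at hn
    rw [hn, Nat.mul_div_cancel_left _ hi0]
  · rw [if_neg (Nat.not_even_iff_odd.2 hodd)] at hc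
    obtain ⟨j, hj⟩ : ∃ j, Multiset.card t = 2 * j :=
      ((Nat.coprime_two_left.2 hodd).dvd_of_dvd_mul_left ⟨k, h⟩)
    refine ⟨f, j, t, hst, ht, hinv, ?_, hc0, by rw [hc, hj]; ring, fun _ => iff_of_true (Or.inl hodd) (Or.inl hodd)⟩
    rw [hn, hj, hc]; ring

/-- invariant sub-multisets -/
theorem exists_part (hset : Setting F r i) (hc : c = if Even i then i else 2 * i) {t : Multiset F[X]}
    (ht : ∀ p ∈ t, Fac r p) (hinv : t.map (StarFactor.star r) = t) :
    ∀ j, c * j ≤ i * Multiset.card t →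
      ∃ t₁ t₂, t = t₁ + t₂ ∧ t₁.map (StarFactor.star r) = t₁ ∧ t₂.map (StarFactor.star r) = t₂ ∧
        i * Multiset.card t₁ = c * j := by
  classical
  have : Fact r.Prime := ⟨hset.prime⟩
  intro j
  induction j with
  | zero => exact fun _ => ⟨0, t, (zero_add t).symm, rfl, hinv, by simp⟩
  | succ j ih =>
    intro hj
    rw [Nat.mul_succ] at hj
    obtain ⟨t₁, t₂, rfl, h1, h2, hd⟩ := ih (by omega)
    have hi0 := OrthPrimeClasses.ne_of_pos hset
    have hc0 := c_pos hset hc
    rw [Multiset.card_add, mul_add] at hj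
    obtain ⟨p, hp⟩ : ∃ p, p ∈ t₂ := Multiset.exists_mem_of_ne_zero fun e => by
      rw [e, Multiset.card_zero] at hj; omega
    have hpf := ht p (Multiset.mem_add.2 (Or.inr hp))
    obtain ⟨-, hss⟩ := hpf.star_fac hset.cast_ne hset.deg
    have hs' : StarFactor.star r p ∈ t₂ := by
      rw [← h2]; exact Multiset.mem_map_of_mem _ hp
    obtain ⟨u, rfl⟩ := Multiset.exists_cons_of_mem hp
    rcases Nat.even_or_odd i with hev | hodd
    · have hfix := (hpf.star_eq_iff hset.cast_ne hset.ne_two hset.deg).2 hev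
      rw [if_pos hev] at hc
      subst hc
      rw [Multiset.map_cons, hfix, Multiset.cons_inj_right] at h2
      refine ⟨p ::ₘ t₁, u, ?_, by rw [Multiset.map_cons, hfix, h1], h2, ?_⟩
      · rw [Multiset.cons_add, Multiset.add_cons]
      · rw [Multiset.card_cons, mul_add, mul_one, hd, Nat.mul_succ]
    · have hne : StarFactor.star r p ≠ p := fun e =>
        Nat.not_even_iff_odd.2 hodd ((hpf.star_eq_iff hset.cast_ne hset.ne_two hset.deg).1 e)
      rw [if_neg (Nat.not_even_iff_odd.2 hodd)] at hc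
      obtain ⟨u', rfl⟩ := Multiset.exists_cons_of_mem ((Multiset.mem_cons.1 hs').resolve_left hne)
      rw [Multiset.map_cons, Multiset.map_cons, hss, Multiset.cons_swap, Multiset.cons_inj_right,
        Multiset.cons_inj_right] at h2
      refine ⟨p ::ₘ StarFactor.star r p ::ₘ t₁, u', ?_, ?_, h2, ?_⟩
      · rw [Multiset.cons_add, Multiset.cons_add, Multiset.add_cons, Multiset.add_cons]
      · rw [Multiset.map_cons, Multiset.map_cons, hss, h1, Multiset.cons_swap]
      · rw [Multiset.card_cons, Multiset.card_cons, mul_add, mul_add, hd, hc]; ring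

theorem good_of_parts (hset : Setting F r i) {t : Multiset F[X]} (ht : ∀ p ∈ t, Fac r p)
    (hinv : t.map (StarFactor.star r) = t) {l n : ℕ} (hn : l + i * Multiset.card t = n) :
    Good r n (Multiset.replicate l (X - C (1 : F)) + t) := by
  refine ⟨⟨fun q hq => ?_, ?_⟩, ?_⟩
  · rcases Multiset.mem_add.1 hq with h | h
    · rw [Multiset.eq_of_mem_replicate h]
      exact ⟨monic_X_sub_C 1, irreducible_X_sub_C 1, by rw [map_one]; exact sub_one_dvd_pow_sub_one _ _⟩
    · exact ⟨(ht q h).monic, (ht q h).irr, (ht q h).dvd⟩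
  · rw [Multiset.map_add, Multiset.sum_add, Multiset.map_replicate, natDegree_X_sub_C, Multiset.sum_replicate,
      smul_eq_mul, mul_one, Multiset.map_congr rfl fun p hp => hset.deg p (ht p hp), Multiset.map_const',
      Multiset.sum_replicate, smul_eq_mul, mul_comm, hn]
  · rw [Multiset.map_add, hinv, Multiset.map_replicate, StarFactor.star_X_sub_one hset.cast_ne]

/-- an element whose multiset splits fixes a subspace of that type -/
theorem exists_fixed (hset : Setting F r i) (hQ : (QuadraticMap.polarBilin Q).Nondegenerate) {a b d : ℕ}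
    (hcard : Fintype.card ι = 2 * d) (hab : a + b = d) {s₁ s₂ : Multiset F[X]} (h1 : Good r (2 * a) s₁)
    (h2 : Good r (2 * b) s₂) {M : Matrix ι ι F} (hM : OrthRealise.IsoDatum r (s₁ + s₂) Q M) (ε : Prop)
    (he1 : X - C 1 ∈ s₁ ∨ (ε ↔ Odd i ∨ Even (2 * a / i)))
    (he2 : X - C 1 ∈ s₂ ∨ ((IsPlus Q d ↔ ε) ↔ Odd i ∨ Even (2 * b / i))) :
    ∃ W : Submodule F (ι → F), (finrank F W = 2 * a ∧ NdOn (pB Q) W ∧ (QPlus Q W ↔ ε)) ∧
      W.map (Matrix.toLin' M) ≤ W := by
  classical
  obtain ⟨κ, _, _, k, R, A, hk, hA, hbA⟩ := OrthPrimeClasses.real_of_good hset h1 (decide ε)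
    (he1.imp id fun h => by rw [decide_eq_true_iff]; exact h)
  obtain ⟨μ, _, _, l, S, B, hl, hB, hbB⟩ := OrthPrimeClasses.real_of_good hset h2 (decide (IsPlus Q d ↔ ε))
    (he2.imp id fun h => by rw [decide_eq_true_iff]; exact h)
  rw [decide_eq_true_iff] at hbA hbB
  obtain rfl : k = a := by
    have h := OrthPrimeClasses.sum_degree_of_datum hA h1.monic
    rw [h1.1.2] at h; omega
  obtain rfl : l = b := by
    have h := OrthPrimeClasses.sum_degree_of_datum hB h2.monic
    rw [h2.1.2] at h; omega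
  have hc : Fintype.card (κ ⊕ μ) = 2 * d := by rw [Fintype.card_sum, hk, hl]; omega
  obtain ⟨e, he⟩ := exists_isometry hc hcard (sumQ_nondeg hA.nd hB.nd) hQ (by
    rw [← hab, isPlus_sum_iff hk hl hA.nd hB.nd, hbA, hbB, hab]
    tauto)
  have hAB := hA.sum hB
  obtain ⟨g, hg, hgM⟩ := OrthRealise.exists_intertwine (hset.prime.odd_of_ne_two hset.ne_two) hset.cast_ne hQ
    hAB.pres hAB.pow hM.pres hM.pow (hAB.char.trans hM.char.symm) e he
  obtain ⟨W, hWd, hW, hWt, hWi⟩ := exists_image hA.nd g hg hk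
  exact ⟨W, ⟨hWd, hW, hWt.trans hbA⟩, hWi A B _ fun x => by rw [Matrix.toLin'_apply, hgM]⟩

/-- an invariant subspace splits the multiset -/
theorem split_of_fixed (hset : Setting F r i) {a b d : ℕ}
    (hcard : Fintype.card ι = 2 * d) (hab : a + b = d) {s : Multiset F[X]} (hs : Good r (2 * d) s)
    {M : Matrix ι ι F} (hM : OrthRealise.IsoDatum r s Q M) {W : Submodule F (ι → F)} (hWd : finrank F W = 2 * a)
    (hW : NdOn (pB Q) W) (hWi : W.map (Matrix.toLin' M) ≤ W) :
    ∃ s₁ s₂, s = s₁ + s₂ ∧ Good r (2 * a) s₁ ∧ Good r (2 * b) s₂ ∧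
      (X - C 1 ∉ s₁ → (QPlus Q W ↔ Odd i ∨ Even (2 * a / i))) ∧
      (X - C 1 ∉ s₂ → ((IsPlus Q d ↔ QPlus Q W) ↔ Odd i ∨ Even (2 * b / i))) := by
  classical
  have hB := pB_refl Q
  obtain ⟨hP, ho, hsup, hdim⟩ := perp_nd hB (ndOn_top hM.nd) hW le_top
  rw [finrank_top, Module.finrank_pi, hcard] at hdim
  set P := (⊤ : Submodule F (ι → F)) ⊓ (pB Q).orthogonal W with hPdef
  have hPd : finrank F P = 2 * b := by omega
  set f := Matrix.toLin' M with hfdef
  have hinj : Function.Injective f := fun u v h => by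
    have h1 := congrArg (fun z => (M ^ (r - 1)).mulVec z) h
    simp only [hfdef, Matrix.toLin'_apply, Matrix.mulVec_mulVec, ← pow_succ,
      Nat.sub_add_cancel hset.prime.one_le, hM.pow, Matrix.one_mulVec] at h1
    exact h1
  have hfQ : ∀ v, Q (f v) = Q v := fun v => by rw [hfdef, Matrix.toLin'_apply, hM.pres]
  have hiso : ∀ u v, pB Q (f u) (f v) = pB Q u v := fun u v => by
    simp only [QuadraticMap.polarBilin_apply_apply, QuadraticMap.polar, ← map_add, hfQ]
  have hPi : P.map f ≤ P := perp_inv' hiso hinj (by simp) hWi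
  have mk : ∀ {U : Submodule F (ι → F)} {n : ℕ}, NdOn (pB Q) U → ∀ hn : finrank F U = 2 * n, U.map f ≤ U →
      ∃ (t : Multiset F[X]) (A : Matrix (Fin (2 * n)) (Fin (2 * n)) F), Good r (2 * n) t ∧
        OrthRealise.IsoDatum r t (coordQ Q (coord hn)) A ∧
        ∀ x, (coord hn (A.mulVec x) : ι → F) = f (coord hn x : ι → F) := by
    intro U n hU hn hUi
    let L := coord hn
    let g : Module.End F (Fin (2 * n) → F) :=
      L.symm.toLinearMap ∘ₗ (f.restrict fun v hv => hUi ⟨v, hv, rfl⟩) ∘ₗ L.toLinearMap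
    have hg : ∀ x, (L (g x) : ι → F) = f (L x : ι → F) := fun x => by
      show ((L (L.symm _)) : ι → F) = _
      rw [L.apply_symm_apply]
      rfl
    set A := LinearMap.toMatrix' g with hA
    have hAg : ∀ x, A.mulVec x = g x := fun x => by
      rw [hA, ← Matrix.toLin'_apply, Matrix.toLin'_toMatrix']
    have hgp : ∀ (k : ℕ) x, (L ((g ^ k) x) : ι → F) = (f ^ k) (L x : ι → F) := fun k => by
      induction k with
      | zero => simp
      | succ k ih => intro x; rw [pow_succ', pow_succ', Module.End.mul_apply, Module.End.mul_apply, hg, ih]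
    obtain ⟨t, ht, hd⟩ := OrthPrimeClasses.exists_good hset (coordQ_nondeg hU L) (A := A)
      (fun x => by rw [hAg, coordQ_apply, coordQ_apply, hg, hfQ]) (by
        have e : g ^ r = 1 := LinearMap.ext fun x => L.injective (Subtype.ext (by
          rw [hgp, hfdef, ← Matrix.toLin'_pow, hM.pow, Matrix.toLin'_one]; rfl))
        exact Matrix.toLin'.injective (by
          rw [Matrix.toLin'_pow, hA, Matrix.toLin'_toMatrix', e, Matrix.toLin'_one]; rfl))
    rw [Fintype.card_fin] at ht
    exact ⟨t, A, ht, hd, fun x => by rw [hAg, hg]⟩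
  obtain ⟨s₁, A, hs1, hdA, hA⟩ := mk hW hWd hWi
  obtain ⟨s₂, B, hs2, hdB, hB'⟩ := mk hP hPd hPi
  obtain ⟨e, he, hev⟩ := exists_iso_sum hW ho hsup (coord hWd) (coord hPd)
  have hint : e.conj (Matrix.toLin' (Matrix.fromBlocks A 0 0 B)) = f := LinearMap.ext fun v => by
    obtain ⟨x, rfl⟩ := e.surjective v
    rw [LinearEquiv.conj_apply_apply, e.symm_apply_apply, Matrix.toLin'_apply, Matrix.fromBlocks_mulVec, hev, hev,
      Sum.elim_comp_inl, Sum.elim_comp_inr, Matrix.zero_mulVec, Matrix.zero_mulVec, add_zero, zero_add, hA, hB',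
      map_add]
  have hprod : s.prod = (s₁ + s₂).prod := by
    rw [← hM.char, ← (hdA.sum hdB).char, ← Matrix.charpoly_toLin' (Matrix.fromBlocks A 0 0 B),
      ← Matrix.charpoly_toLin' M, ← LinearEquiv.charpoly_conj e, hint]
  refine ⟨s₁, s₂, PowScalarClasses.eq_of_prod_eq hs.1 ⟨fun y hy => ?_, ?_⟩ hprod, hs1, hs2, fun hz => ?_, fun hz => ?_⟩
  · rcases Multiset.mem_add.1 hy with h | h
    exacts [hs1.1.1 y h, hs2.1.1 y h]
  · rw [Multiset.map_add, Multiset.sum_add, hs1.1.2, hs2.1.2]; omega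
  · rw [← isPlus_coordQ (coord hWd) (Fintype.card_fin _),
      OrthPrimeClasses.type_of_datum hset (Fintype.card_fin _) hdA hs1 hz]
  · rw [← OrthPrimeClasses.type_of_datum hset (Fintype.card_fin _) hdB hs2 hz,
      isPlus_coordQ (coord hPd) (Fintype.card_fin _), ← qplus_top hcard, type_sum hcard hW hP ho hsup hWd hPd]
    tauto

/-- the arithmetical criterion -/
theorem allFix_iff (hset : Setting F r i) {Q₀ : F[X]} (hQ₀ : Fac r Q₀)
    (hc : c = if Even i then i else 2 * i) (hQ : (QuadraticMap.polarBilin Q).Nondegenerate) {d m : ℕ}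
    (hd : 3 ≤ d) (hcard : Fintype.card ι = 2 * d) (hm : Even m) (hm0 : 0 < m) (hm2 : m < 2 * d) (ε : Prop) :
    AllFix Q m ε r ↔ ∀ f A, f + c * A = 2 * d → 0 < A → (f = 0 → (IsPlus Q d ↔ Odd i ∨ Even A)) →
      Ok (IsPlus Q d) ε i c m f A := by
  classical
  have : Fact r.Prime := ⟨hset.prime⟩
  have : Nonempty ι := Fintype.card_pos_iff.1 (by omega)
  have hodd : Odd r := hset.prime.odd_of_ne_two hset.ne_two
  have hi0 := OrthPrimeClasses.ne_of_pos hset
  have hc0 := c_pos hset hc
  obtain ⟨a, rfl⟩ := hm.two_dvd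
  obtain ⟨b, rfl⟩ : ∃ b, d = a + b := ⟨d - a, by omega⟩
  constructor
  · intro H f A hfA hA0 hf0
    obtain ⟨t, ht, hinv, htc⟩ : ∃ t : Multiset F[X], (∀ q ∈ t, Fac r q) ∧ t.map (StarFactor.star r) = t ∧
        i * Multiset.card t = c * A := by
      obtain ⟨hQs, hQss⟩ := hQ₀.star_fac hset.cast_ne hset.deg
      rcases Nat.even_or_odd i with hev | hodd
      · refine ⟨Multiset.replicate A Q₀, fun q hq => (Multiset.eq_of_mem_replicate hq) ▸ hQ₀, ?_, ?_⟩
        · rw [Multiset.map_replicate, (hQ₀.star_eq_iff hset.cast_ne hset.ne_two hset.deg).2 hev]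
        · rw [Multiset.card_replicate, hc, if_pos hev]
      · refine ⟨Multiset.replicate A Q₀ + Multiset.replicate A (StarFactor.star r Q₀), fun q hq => ?_, ?_, ?_⟩
        · rcases Multiset.mem_add.1 hq with hq | hq <;> rw [Multiset.eq_of_mem_replicate hq]
          exacts [hQ₀, hQs]
        · rw [Multiset.map_add, Multiset.map_replicate, Multiset.map_replicate, hQss, add_comm]
        · rw [Multiset.card_add, Multiset.card_replicate, Multiset.card_replicate, hc,
            if_neg (Nat.not_even_iff_odd.2 hodd)]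
          ring
    have hgood := good_of_parts hset ht hinv (l := f) (n := 2 * (a + b)) (by omega)
    obtain ⟨M, hM⟩ := OrthPrimeClasses.exists_datum_even hset hcard hQ hgood (by
      rcases Nat.eq_zero_or_pos f with h0 | h0
      · refine Or.inr ((hf0 h0).trans ?_)
        rcases Nat.even_or_odd i with hev | hodd
        · rw [if_pos hev] at hc
          subst hc
          rw [h0, zero_add] at hfA
          rw [← hfA, Nat.mul_div_cancel_left _ hi0]
        · exact iff_of_true (Or.inl hodd) (Or.inl hodd)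
      · exact Or.inl (Multiset.mem_add.2 (Or.inl (Multiset.mem_replicate.2 ⟨h0.ne', rfl⟩))))
    obtain ⟨x, hx, hxM⟩ := OrthRealise.exists_elt hset.prime.pos ⇑Q M hM.pres hM.pow
    obtain ⟨W, ⟨hWd, hW, hWt⟩, hWi⟩ := H x ⟨x, mem_omega_of_odd hQ (by omega) hodd hx, rfl⟩
      ⟨1, by rw [← SubmonoidClass.coe_pow, hx, OneMemClass.coe_one, Units.val_one, one_smul]⟩
      fun z hz => by
        rw [hxM] at hz
        have hzz : z * z = 1 := scalar_sq hQ (g := Matrix.toLin' M) (fun v => hM.pres v) fun v => by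
          rw [Matrix.toLin'_apply, hz, Matrix.smul_mulVec, Matrix.one_mulVec]
        obtain ⟨e⟩ : Nonempty ι := inferInstance
        have hzr : z ^ r = 1 := by
          have h1 := congrArg (fun N : Matrix ι ι F => N e e) hM.pow
          simpa [hz, _root_.smul_pow] using h1
        obtain ⟨u, hu⟩ := hodd
        rw [hu, pow_succ, pow_mul, sq, hzz, one_pow, one_mul] at hzr
        rw [hzr, one_smul] at hz
        have h1 := hM.char
        rw [hz, Matrix.charpoly_one] at h1
        obtain ⟨q, hq⟩ : ∃ q, q ∈ t := Multiset.exists_mem_of_ne_zero fun e => by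
          rw [e, Multiset.card_zero, mul_zero] at htc
          rcases Nat.mul_eq_zero.1 htc.symm with h | h <;> omega
        have h2 : q ∣ (X - 1 : F[X]) ^ Fintype.card ι :=
          h1 ▸ Multiset.dvd_prod (Multiset.mem_add.2 (Or.inr hq))
        refine (ht q hq).ne (eq_of_monic_of_associated (ht q hq).monic (monic_X_sub_C 1) ?_)
        exact (ht q hq).irr.associated_of_dvd (irreducible_X_sub_C 1)
          (by rw [map_one]; exact (ht q hq).irr.prime.dvd_of_dvd_pow h2)
    rw [hxM] at hWi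
    obtain ⟨s₁, s₂, hss, h1, h2, ht1, ht2⟩ := split_of_fixed hset hcard rfl hgood hM hWd hW hWi
    obtain ⟨f₁, j₁, t₁, hst₁, htf₁, -, hn₁, hz₁, htc₁, hT₁⟩ := shape hset hc h1
    obtain ⟨f₂, j₂, t₂, hst₂, htf₂, -, hn₂, hz₂, htc₂, hT₂⟩ := shape hset hc h2
    have hcnt : ∀ u : Multiset F[X], (∀ p ∈ u, Fac r p) → u.count (X - C 1) = 0 := fun u hu =>
      Multiset.count_eq_zero.2 fun h => (hu _ h).ne rfl
    have hff : f = f₁ + f₂ := by
      have := congrArg (Multiset.count (X - C (1 : F))) hss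
      rw [hst₁, hst₂] at this
      simp only [Multiset.count_add, Multiset.count_replicate_self, hcnt t ht, hcnt t₁ htf₁, hcnt t₂ htf₂] at this
      simpa using this
    have hjj : A = j₁ + j₂ := by
      have : c * A = c * (j₁ + j₂) := by rw [mul_add]; omega
      exact Nat.eq_of_mul_eq_mul_left hc0 this
    refine ⟨j₁, f₁, by omega, hn₁, by omega, fun h0 => ?_, fun h0 => ?_⟩
    · rw [← hT₁ h0, ← hWt]
      exact ht1 (hz₁.1 h0)
    · have hf2 : f₂ = 0 := by omega
      have h3 := ht2 (hz₂.1 hf2)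
      rw [hWt, hT₂ hf2] at h3
      rw [show A - j₁ = j₂ by omega]
      exact iff_swap h3
  · intro H x hx hxr _
    obtain ⟨M, hMQ, hMr, hMi⟩ := QuadNd.exists_lift hQ hodd hx hxr
    obtain ⟨s, hs, hdat⟩ := OrthPrimeClasses.exists_good hset hQ hMQ hMr
    rw [hcard] at hs
    obtain ⟨f, A, t, hst, htf, hinv, hn, hz, htc, hT⟩ := shape hset hc hs
    obtain ⟨j, l, hjA, hl, hlf, hl0, hl1⟩ : Ok (IsPlus Q (a + b)) ε i c (2 * a) f A := by
      rcases Nat.eq_zero_or_pos A with hA0 | hA0
      · subst hA0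
        exact ⟨0, 2 * a, le_rfl, by simp, by omega,
          fun h => absurd h (by omega), fun h => absurd h (by omega)⟩
      · exact H f A hn hA0 fun h0 => (OrthPrimeClasses.type_of_datum hset hcard hdat hs (hz.1 h0)).trans (hT h0)
    obtain ⟨t₁, t₂, rfl, hi1, hi2, hd1⟩ := exists_part hset hc htf hinv j
      (by rw [htc]; exact Nat.mul_le_mul_left c hjA)
    rw [Multiset.card_add, mul_add, hd1] at htc
    have hf1 : ∀ p ∈ t₁, Fac r p := fun p hp => htf p (Multiset.mem_add.2 (Or.inl hp))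
    have hf2 : ∀ p ∈ t₂, Fac r p := fun p hp => htf p (Multiset.mem_add.2 (Or.inr hp))
    have h1 := good_of_parts hset hf1 hi1 (l := l) (n := 2 * a) (by omega)
    have h2 := good_of_parts hset hf2 hi2 (l := f - l) (n := 2 * b) (by omega)
    have hsum : s = (Multiset.replicate l (X - C (1 : F)) + t₁) + (Multiset.replicate (f - l) (X - C 1) + t₂) := by
      rw [hst, add_add_add_comm, ← Multiset.replicate_add, Nat.add_sub_cancel' hlf]
    obtain ⟨W, hW, hWi⟩ := exists_fixed hset hQ hcard rfl h1 h2 (hsum ▸ hdat) ε (by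
        rcases Nat.eq_zero_or_pos l with h0 | h0
        · refine Or.inr ((hl0 h0).trans ?_)
          rcases Nat.even_or_odd i with hev | hodd
          · rw [if_pos hev] at hc
            subst hc
            rw [h0, zero_add] at hl
            rw [← hl, Nat.mul_div_cancel_left _ hi0]
          · exact iff_of_true (Or.inl hodd) (Or.inl hodd)
        · exact Or.inl (Multiset.mem_add.2 (Or.inl (Multiset.mem_replicate.2 ⟨h0.ne', rfl⟩)))) (by
        rcases Nat.eq_zero_or_pos (f - l) with h0 | h0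
        · refine Or.inr ?_
          rcases Nat.even_or_odd i with hev | hodd
          · rw [if_pos hev] at hc
            subst hc
            have h3 : c * (A - j) = 2 * b := by rw [Nat.mul_sub]; omega
            rw [← h3, Nat.mul_div_cancel_left _ hi0]
            exact iff_swap' (hl1 (by omega))
          · have := hl1 (by omega)
            simp only [hodd, true_or, iff_true] at this ⊢
            exact this
        · exact Or.inl (Multiset.mem_add.2 (Or.inl (Multiset.mem_replicate.2 ⟨h0.ne', rfl⟩))))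
    exact ⟨W, hW, hMi W hWi⟩

end Cfsg.Agent.Classical.IsoInvariant.FreeSplit
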