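import Mathlib
import Cfsg.Agent.Lib.Classical.IsoInvariant.TypeSplit
import Cfsg.Agent.Lib.Forms.Invol.Orth
import Cfsg.Agent.Lib.Forms.Bases

/-!
# Isometries `1 + N` with `N² = 0` and totally singular image: invariant nondegenerate subspaces
-/

set_option autoImplicit false
set_option linter.unusedSectionVars false

namespace Cfsg.Agent.Classical.IsoInvariant.TsInvol

open Module
open Cfsg.Agent.Forms
open Cfsg.Agent.Forms.Elusive Cfsg.Agent.Forms.Elusive.Pieces
open Cfsg.Agent.Forms.Reflections (act act_apply act_map act_polar)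
open Cfsg.Agent.Classical.OrthTypes
open Cfsg.Agent.Classical.IsoInvariant.NdType Cfsg.Agent.Classical.IsoInvariant.EvenDim
open Cfsg.Agent.Classical.IsoInvariant.QuadNd Cfsg.Agent.Classical.IsoInvariant.TypeSplit

variable {F : Type*} [Field F] [Fintype F] {ι : Type} [Fintype ι] [DecidableEq ι]
  {Q : QuadraticForm F (ι → F)} {N : (ι → F) →ₗ[F] (ι → F)}

theorem polar_self_two (v : ι → F) : pB Q v v = 2 * Q v := pB_self v

theorem finrank_map_add (W : Submodule F (ι → F)) :
    finrank F ↥(W.map N) + finrank F ↥(W ⊓ LinearMap.ker N) = finrank F W := by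
  have h := LinearMap.finrank_range_add_finrank_ker (N.domRestrict W)
  rw [LinearMap.range_domRestrict, LinearMap.ker_domRestrict] at h
  rw [← h]
  congr 1
  refine (Submodule.comapSubtypeEquivOfLe (inf_le_left : W ⊓ LinearMap.ker N ≤ W)).finrank_eq.symm.trans ?_
  rw [Submodule.comap_inf, Submodule.comap_subtype_self, top_inf_eq]

/-- the image of a nondegenerate invariant subspace has even dimension -/
theorem even_map (hQf : ∀ v, Q (v + N v) = Q v) (hts : ∀ v, Q (N v) = 0) (hN : ∀ v, N (N v) = 0)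
    {W : Submodule F (ι → F)} (hW : NdOn (pB Q) W) (hWi : W.map N ≤ W) : Even (finrank F ↥(W.map N)) := by
  have halt : ∀ u, pB Q (N u) u = 0 := fun u => by
    have h1 := hQf u
    rw [QuadraticMap.map_add (⇑Q), hts, add_zero, add_eq_left] at h1
    rw [QuadraticMap.polarBilin_apply_apply, QuadraticMap.polar_comm]
    exact h1
  have hiso0 : ∀ u v, pB Q (N u) (N v) = 0 := fun u v => by
    rw [QuadraticMap.polarBilin_apply_apply, QuadraticMap.polar, ← map_add, hts, hts, hts]; simp
  let β : LinearMap.BilinForm F (ι → F) := (pB Q).comp N LinearMap.id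
  have hβ : ∀ u v, β u v = pB Q (N u) v := fun u v => rfl
  have hskew : ∀ u v, pB Q (N u) v = - pB Q (N v) u := fun u v => by
    have h1 := halt (u + v)
    simp only [map_add, LinearMap.add_apply, halt u, halt v] at h1
    linear_combination h1
  obtain ⟨C₀, hC₀⟩ := Submodule.exists_isCompl ((W ⊓ LinearMap.ker N).comap W.subtype)
  set C := C₀.map W.subtype with hC
  have hCW : C ≤ W := Submodule.map_subtype_le W C₀
  have hdec : ∀ w ∈ W, ∃ c ∈ C, ∃ k ∈ W ⊓ LinearMap.ker N, w = c + k := fun w hw => by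
    have hw' : (⟨w, hw⟩ : W) ∈ (W ⊓ LinearMap.ker N).comap W.subtype ⊔ C₀ := by
      rw [hC₀.sup_eq_top]; trivial
    obtain ⟨k, hk, c, hc, hkc⟩ := Submodule.mem_sup.1 hw'
    refine ⟨(c : ι → F), ⟨c, hc, rfl⟩, (k : ι → F), hk, ?_⟩
    exact (congrArg Subtype.val hkc).symm.trans (add_comm _ _)
  have hCd : finrank F C = finrank F ↥(W.map N) := by
    have h1 := finrank_map_add (N := N) W
    have h2 := Submodule.finrank_add_eq_of_isCompl hC₀
    rw [(Submodule.comapSubtypeEquivOfLe (inf_le_left : W ⊓ LinearMap.ker N ≤ W)).finrank_eq] at h2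
    rw [hC, Submodule.finrank_map_subtype_eq]
    omega
  have hA : (β.restrict C).IsAlt := fun x => halt (x : ι → F)
  have key : ∀ x : C, (∀ y : C, β.restrict C x y = 0) → x = 0 := by
    intro x hx
    have hall : ∀ w ∈ W, pB Q (N (x : ι → F)) w = 0 := fun w hw => by
      obtain ⟨c, hc, k, hk, rfl⟩ := hdec w hw
      rw [map_add, show pB Q (N (x : ι → F)) c = 0 from hx ⟨c, hc⟩, hskew, LinearMap.mem_ker.1 hk.2, map_zero,
        LinearMap.zero_apply, neg_zero, add_zero]
    have hNx : N (x : ι → F) = 0 := by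
      by_contra h0
      obtain ⟨w, hw, hne⟩ := hW _ (hWi ⟨_, hCW x.2, rfl⟩) h0
      exact hne (hall w hw)
    obtain ⟨y, hy, hyx⟩ := x.2
    have h0 : y ∈ (W ⊓ LinearMap.ker N).comap W.subtype := by
      refine ⟨y.2, LinearMap.mem_ker.2 ?_⟩
      rw [show (W.subtype y) = (x : ι → F) from hyx]
      exact hNx
    have : y = 0 := Submodule.disjoint_def.1 hC₀.disjoint y h0 hy
    refine Subtype.ext ?_
    rw [← hyx, this]; rfl
  obtain ⟨n, hn⟩ := Bases.even_finrank_of_alt (β.restrict C) hA
    ⟨key, fun y hy => key y fun x => by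
      show pB Q (N (y : ι → F)) (x : ι → F) = 0
      rw [hskew, show pB Q (N (x : ι → F)) (y : ι → F) = 0 from hy x, neg_zero]⟩
  exact ⟨n, by rw [← hCd, hn, two_mul]⟩

/-- with an image of almost maximal dimension the type of an invariant subspace is forced -/
theorem type_of_rank (hQ : (QuadraticMap.polarBilin Q).Nondegenerate) (hQf : ∀ v, Q (v + N v) = Q v)
    (hts : ∀ v, Q (N v) = 0) (hN : ∀ v, N (N v) = 0) {d a : ℕ} (hcard : Fintype.card ι = 2 * d)
    (hrank : d ≤ finrank F (LinearMap.range N) + 1) {W : Submodule F (ι → F)} (hWd : finrank F W = 2 * a)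
    (hW : NdOn (pB Q) W) (hWi : W.map N ≤ W) :
    (Even a → QPlus Q W) ∧ (Odd a → Odd d ∧ (QPlus Q W ↔ IsPlus Q d)) := by
  have hB := pB_refl Q
  obtain ⟨hP, ho, hsup, hdim⟩ := perp_nd hB (ndOn_top hQ) hW le_top
  rw [finrank_top, Module.finrank_pi, hcard] at hdim
  set P := (⊤ : Submodule F (ι → F)) ⊓ (pB Q).orthogonal W with hPdef
  have hPi : P.map N ≤ P := by
    rintro _ ⟨v, hv, rfl⟩
    refine mem_perp.2 ⟨trivial, fun w hw => ?_⟩
    have hskew : pB Q w (N v) + pB Q (N w) v + pB Q (N w) (N v) = 0 := by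
      have h1 : pB Q (w + N w) (v + N v) = pB Q w v := by
        have e : w + N w + (v + N v) = (w + v) + N (w + v) := by rw [map_add]; abel
        simp only [QuadraticMap.polarBilin_apply_apply, QuadraticMap.polar]
        rw [e, hQf, hQf, hQf]
      simp only [map_add, LinearMap.add_apply] at h1
      linear_combination h1
    have h0 : pB Q (N w) (N v) = 0 := by
      rw [QuadraticMap.polarBilin_apply_apply, QuadraticMap.polar, ← map_add, hts, hts, hts]; simp
    rwa [ho _ (hWi ⟨w, hw, rfl⟩) v hv, add_zero, h0, add_zero] at hskew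
  have hhalf : ∀ {U : Submodule F (ι → F)}, NdOn (pB Q) U → U.map N ≤ U →
      2 * finrank F ↥(U.map N) ≤ finrank F U ∧
        (2 * finrank F ↥(U.map N) = finrank F U → QPlus Q U) := fun {U} hU hUi => by
    have hs : ∀ u ∈ U.map N, Q u = 0 := by rintro _ ⟨v, -, rfl⟩; exact hts v
    refine ⟨Refl.two_le_of_iso hB hU hUi fun u hu v hv => ?_, fun h => ⟨_, hUi, hs, h⟩⟩
    rw [QuadraticMap.polarBilin_apply_apply, QuadraticMap.polar, hs u hu, hs v hv, hs _ (add_mem hu hv)]
    simp
  obtain ⟨hW1, hW2⟩ := hhalf hW hWi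
  obtain ⟨hP1, hP2⟩ := hhalf hP hPi
  obtain ⟨x, hx⟩ := even_map hQf hts hN hW hWi
  obtain ⟨y, hy⟩ := even_map hQf hts hN hP hPi
  have hr : LinearMap.range N ≤ W.map N ⊔ P.map N := by
    rw [← Submodule.map_top, ← hsup, Submodule.map_sup]
  have h1 := (Submodule.finrank_mono hr).trans (Submodule.finrank_add_le_finrank_add_finrank _ _)
  refine ⟨fun hev => hW2 ?_, fun hod => ?_⟩
  · obtain ⟨z, rfl⟩ := hev
    omega
  · obtain ⟨z, rfl⟩ := hod
    refine ⟨Nat.odd_iff.2 (by omega), ?_⟩
    have hpl := hP2 (by omega)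
    have h2 := type_sum hcard hW hP ho hsup hWd (b := y + y) (by omega)
    rw [qplus_top hcard] at h2
    tauto

/-- an element with large totally singular image -/
theorem exists_elt (p : ℕ) [hp : Fact p.Prime] [CharP F p] (hQ : (QuadraticMap.polarBilin Q).Nondegenerate)
    {d h : ℕ} (hcard : Fintype.card ι = 2 * d) (hd : 3 ≤ d) (hh : 1 ≤ h) (hle : 2 * h ≤ d)
    (hok : 2 * h < d ∨ IsPlus Q d) :
    ∃ x : Cfsg.isometryGroup F ⇑Q, x ∈ Cfsg.Omega F ⇑Q ∧ x ^ p = 1 ∧
      (∀ z : F, ((x : GL ι F) : Matrix ι ι F) ≠ z • (1 : Matrix ι ι F)) ∧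
      ∃ N : (ι → F) →ₗ[F] (ι → F), (∀ v, act x v = v + N v) ∧ (∀ v, N (N v) = 0) ∧ (∀ v, Q (N v) = 0) ∧
        finrank F (LinearMap.range N) = 2 * h := by
  classical
  -- the two models
  obtain ⟨μ, _, _, R, hμ, hR, hRt⟩ : ∃ (μ : Type) (_ : Fintype μ) (_ : DecidableEq μ) (R : QuadraticForm F (μ → F)),
      Fintype.card μ = 2 * (d - 2 * h) ∧ (QuadraticMap.polarBilin R).Nondegenerate ∧
        (IsPlus R (d - 2 * h) ↔ IsPlus Q d) := by
    by_cases hτ : IsPlus Q d
    · exact ⟨_, inferInstance, inferInstance, PlusStd.plusQ F (d - 2 * h), by simp [two_mul],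
        PlusStd.plusQ_nondeg F _, iff_of_true (isPlus_plusQ _) hτ⟩
    · obtain ⟨ζ, hζ⟩ := exists_zeta (F := F)
      obtain ⟨k, hk⟩ : ∃ k, d - 2 * h = k + 1 := ⟨d - 2 * h - 1, by have := hok.resolve_right hτ; omega⟩
      rw [hk]
      exact ⟨_, inferInstance, inferInstance, OrthForms.minQ F k 1 ζ, by simp; omega,
        OrthForms.minQ_nondeg k (QuadClass.aniso_one hζ),
        iff_of_false (not_isPlus_minQ (QuadClass.aniso_one hζ)) hτ⟩
  set P := PlusStd.plusQ F (h + h) with hPdef
  have hκ : Fintype.card (Fin (h + h) ⊕ Fin (h + h)) = 2 * (2 * h) := by simp; omega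
  obtain ⟨e, he⟩ := exists_isometry (m := d) (Q := sumQ P R) (by rw [Fintype.card_sum, hκ, hμ]; omega) hcard
    (sumQ_nondeg (PlusStd.plusQ_nondeg F _) hR) hQ (by
      rw [show d = 2 * h + (d - 2 * h) by omega, isPlus_sum_iff hκ hμ (PlusStd.plusQ_nondeg F _) hR,
        show 2 * h + (d - 2 * h) = d by omega, hRt]
      have : IsPlus P (2 * h) := by rw [two_mul]; exact isPlus_plusQ _
      tauto)
  -- the alternating map
  let J : (Fin (h + h) → F) →ₗ[F] (Fin (h + h) → F) :=
    { toFun := fun y => Fin.append (fun j => y (Fin.natAdd h j)) (fun j => - y (Fin.castAdd h j))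
      map_add' := fun y z => by
        funext k
        refine Fin.addCases (fun j => ?_) (fun j => ?_) k <;>
          simp only [Pi.add_apply, Fin.append_left, Fin.append_right, neg_add]
      map_smul' := fun t y => by
        funext k
        refine Fin.addCases (fun j => ?_) (fun j => ?_) k <;>
          simp only [Pi.smul_apply, Fin.append_left, Fin.append_right, RingHom.id_apply, smul_neg] }
  have hJinj : Function.Injective J := fun y z hyz => by
    funext k
    refine Fin.addCases (fun j => ?_) (fun j => ?_) k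
    · have := congrFun hyz (Fin.natAdd h j)
      simp only [J, LinearMap.coe_mk, AddHom.coe_mk, Fin.append_right, neg_inj] at this
      exact this
    · have := congrFun hyz (Fin.castAdd h j)
      simp only [J, LinearMap.coe_mk, AddHom.coe_mk, Fin.append_left] at this
      exact this
  have hJdot : ∀ y, ∑ k, J y k * y k = 0 := fun y => by
    rw [Fin.sum_univ_add, ← Finset.sum_add_distrib]
    refine Finset.sum_eq_zero fun j _ => ?_
    simp only [J, LinearMap.coe_mk, AddHom.coe_mk, Fin.append_left, Fin.append_right]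
    ring
  let Y : ((Fin (h + h) ⊕ Fin (h + h)) ⊕ μ → F) →ₗ[F] (Fin (h + h) → F) :=
    LinearMap.funLeft F F fun k => Sum.inl (Sum.inr k)
  let E : (Fin (h + h) → F) →ₗ[F] ((Fin (h + h) ⊕ Fin (h + h)) ⊕ μ → F) :=
    { toFun := fun y => Sum.elim (Sum.elim y 0) 0
      map_add' := fun y z => by funext k; rcases k with (k | k) | k <;> simp
      map_smul' := fun t y => by funext k; rcases k with (k | k) | k <;> simp }
  let N₀ := E ∘ₗ J ∘ₗ Y
  have hN₀ : ∀ v, N₀ v = Sum.elim (Sum.elim (J (Y v)) 0) 0 := fun v => rfl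
  have hYN : ∀ v, Y (N₀ v) = 0 := fun v => rfl
  have hN₀2 : ∀ v, N₀ (N₀ v) = 0 := fun v => by
    show E (J (Y (N₀ v))) = 0
    rw [hYN, map_zero, map_zero]
  have hQ₀ : ∀ v, sumQ P R (N₀ v) = 0 ∧ sumQ P R (v + N₀ v) = sumQ P R v := fun v => by
    refine ⟨?_, ?_⟩
    · rw [sumQ_apply, hN₀, Sum.elim_comp_inl, Sum.elim_comp_inr, QuadraticMap.map_zero, add_zero,
        PlusStd.plusQ_apply]
      simp [Cfsg.quadFormPlus]
    · rw [sumQ_apply, sumQ_apply]
      congr 1
      · rw [hPdef, PlusStd.plusQ_apply, PlusStd.plusQ_apply, Cfsg.quadFormPlus, Cfsg.quadFormPlus]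
        simp only [hN₀, Function.comp_apply, Pi.add_apply, Sum.elim_inl, Sum.elim_inr, Pi.zero_apply, add_zero,
          add_mul, Finset.sum_add_distrib, add_eq_left]
        exact hJdot (Y v)
      · congr 1
        funext k
        simp [hN₀]
  set N : (ι → F) →ₗ[F] (ι → F) := e.toLinearMap ∘ₗ N₀ ∘ₗ e.symm.toLinearMap with hNdef
  have hNv : ∀ v, N v = e (N₀ (e.symm v)) := fun v => rfl
  have hN2 : ∀ v, N (N v) = 0 := fun v => by rw [hNv, hNv, e.symm_apply_apply, hN₀2, map_zero]
  have hts : ∀ v, Q (N v) = 0 := fun v => by rw [hNv, he, (hQ₀ _).1]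
  have hQf : ∀ v, Q (v + N v) = Q v := fun v => by
    conv_lhs => rw [← e.apply_symm_apply v, hNv, e.symm_apply_apply, ← map_add, he, (hQ₀ _).2, ← he,
      e.apply_symm_apply]
  have hrank : finrank F (LinearMap.range N) = 2 * h := by
    have hY : Function.Surjective Y := LinearMap.funLeft_surjective_of_injective F F _
      fun a b hab => Sum.inr_injective (Sum.inl_injective hab)
    have hr : LinearMap.range N = LinearMap.range (e.toLinearMap ∘ₗ E ∘ₗ J) := by
      rw [hNdef, show e.toLinearMap ∘ₗ N₀ ∘ₗ e.symm.toLinearMap = (e.toLinearMap ∘ₗ E ∘ₗ J) ∘ₗ (Y ∘ₗ e.symm.toLinearMap)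
        from rfl]
      exact LinearMap.range_comp_of_range_eq_top _ (LinearMap.range_eq_top.2 (hY.comp e.symm.surjective))
    rw [hr, LinearMap.finrank_range_of_inj, Module.finrank_pi, Fintype.card_fin]
    · omega
    · intro a b hab
      exact hJinj (funext fun k => congrFun (e.injective hab) (Sum.inl (Sum.inl k)))
  -- powers
  set M := LinearMap.toMatrix' (LinearMap.id + N) with hM
  have hMv : ∀ v, M.mulVec v = v + N v := fun v => by
    rw [hM, ← Matrix.toLin'_apply, Matrix.toLin'_toMatrix', LinearMap.add_apply, LinearMap.id_apply]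
  have hpow : ∀ (n : ℕ) v, (M ^ n).mulVec v = v + (n : F) • N v := fun n => by
    induction n with
    | zero => simp
    | succ n ih =>
      intro v
      rw [pow_succ', ← Matrix.mulVec_mulVec, ih, hMv, map_add, map_smul, hN2, smul_zero, add_zero, Nat.cast_succ,
        add_smul, one_smul, add_assoc]
  have hMp : M ^ p = 1 := Matrix.ext_iff_mulVec.2 fun v => by
    rw [hpow, CharP.cast_eq_zero, zero_smul, add_zero, Matrix.one_mulVec]
  obtain ⟨x, hx, hxM⟩ := OrthRealise.exists_elt hp.out.pos ⇑Q M (fun v => by rw [hMv, hQf]) hMp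
  have hact : ∀ v, act x v = v + N v := fun v => by rw [act_apply, hxM, hMv]
  refine ⟨x, ?_, hx, fun z hz => ?_, N, hact, hN2, hts, hrank⟩
  · rcases hp.out.eq_two_or_odd' with rfl | hodd
    · rw [Invol.mem_omega_iff_rank hQ (by omega)]
      refine ⟨h, ?_⟩
      have e1 : Matrix.toLin' (Invol.mat x - 1) = N := LinearMap.ext fun v => by
        rw [Matrix.toLin'_apply, Matrix.sub_mulVec, Matrix.one_mulVec, Invol.mat, hxM, hMv, add_sub_cancel_left]
      rw [Matrix.rank, ← Matrix.toLin'_apply', e1, hrank, two_mul]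
    · exact mem_omega_of_odd hQ (by omega) hodd hx
  · have hNz : ∀ v, N v = (z - 1) • v := fun v => by
      have h1 := hMv v
      rw [← hxM, hz, Matrix.smul_mulVec, Matrix.one_mulVec] at h1
      rw [sub_smul, one_smul, h1, add_sub_cancel_left]
    obtain ⟨u, hu⟩ : ∃ u, N u ≠ 0 := by
      by_contra hall
      push Not at hall
      have : LinearMap.range N = ⊥ := LinearMap.range_eq_bot.2 (LinearMap.ext hall)
      rw [this, finrank_bot] at hrank
      omega
    have h1 := hN2 u
    rw [hNz u, map_smul, hNz u, smul_smul] at h1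
    refine hu ?_
    rw [hNz]
    rcases smul_eq_zero.1 h1 with h2 | h2
    · rw [mul_self_eq_zero.1 h2, zero_smul]
    · rw [h2, smul_zero]

end Cfsg.Agent.Classical.IsoInvariant.TsInvol
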