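import Mathlib
import Cfsg.Agent.Lib.Classical.IsoInvariant.TsInvol
import Cfsg.Agent.Lib.Forms.Elusive.Involution

/-!
# Invariant nondegenerate subspaces of each type under an involution, characteristic two
-/

set_option autoImplicit false
set_option linter.unusedSectionVars false

namespace Cfsg.Agent.Classical.IsoInvariant.InvolTwo

open Module
open Cfsg.Agent.Forms
open Cfsg.Agent.Forms.Elusive Cfsg.Agent.Forms.Elusive.Pieces
open Cfsg.Agent.Classical.OrthTypes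
open Cfsg.Agent.Classical.IsoInvariant.NdType Cfsg.Agent.Classical.IsoInvariant.EvenDim
open Cfsg.Agent.Classical.IsoInvariant.QuadNd

variable {F : Type*} [Field F] [Fintype F] {ι : Type} [Fintype ι] [DecidableEq ι]
  {Q : QuadraticForm F (ι → F)} {N : (ι → F) →ₗ[F] (ι → F)}

/-- the standing hypotheses: `1 + N` is an involutory isometry in characteristic two -/
structure Inv (Q : QuadraticForm F (ι → F)) (N : (ι → F) →ₗ[F] (ι → F)) : Prop where
  two : (2 : F) = 0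
  sq : ∀ v, N (N v) = 0
  adj : ∀ u v, pB Q (N u) v = pB Q u (N v)
  quad : ∀ v, Q (N v) = pB Q (N v) v

/-- an invariant nondegenerate subspace -/
def Good (Q : QuadraticForm F (ι → F)) (N : (ι → F) →ₗ[F] (ι → F)) (W : Submodule F (ι → F)) : Prop :=
  NdOn (pB Q) W ∧ W.map N ≤ W

/-- all fixed vectors are singular -/
def Pure (Q : QuadraticForm F (ι → F)) (N : (ι → F) →ₗ[F] (ι → F)) (W : Submodule F (ι → F)) : Prop :=
  ∀ v ∈ W, N v = 0 → Q v = 0

theorem inv_of_involution (h2 : (2 : F) = 0) {f : (ι → F) →ₗ[F] (ι → F)} (hfQ : ∀ v, Q (f v) = Q v)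
    (hff : ∀ v, f (f v) = v) : Inv Q (f - 1) := by
  have hneg : ∀ a : F, -a = a := fun a => by linear_combination -a * h2
  have hB : ∀ u v, pB Q (f u) (f v) = pB Q u v := fun u v => by
    simp only [QuadraticMap.polarBilin_apply_apply, QuadraticMap.polar, ← map_add, hfQ]
  refine ⟨h2, fun v => ?_, fun u v => ?_, fun v => ?_⟩
  · simp only [LinearMap.sub_apply, Module.End.one_apply, map_sub, hff]
    funext z
    simp only [Pi.sub_apply, Pi.zero_apply]
    linear_combination (v z - f v z) * h2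
  · simp only [LinearMap.sub_apply, Module.End.one_apply, map_sub, LinearMap.sub_apply]
    congr 1
    conv_lhs => rw [← hff v, hB]
  · have h1 := hfQ v
    rw [show f v = v + (f - 1) v by simp, QuadraticMap.map_add (⇑Q), add_assoc, add_eq_left] at h1
    rw [QuadraticMap.polarBilin_apply_apply, QuadraticMap.polar_comm]
    exact (eq_neg_of_add_eq_zero_left h1).trans (hneg _)

theorem Inv.self (hI : Inv Q N) (v : ι → F) : pB Q v v = 0 := by rw [pB_self, hI.two, zero_mul]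

theorem pure_mono {W U : Submodule F (ι → F)} (h : U ≤ W) (hW : Pure Q N W) : Pure Q N U :=
  fun v hv => hW v (h hv)

theorem not_pure_mono {W U : Submodule F (ι → F)} (h : U ≤ W) (hU : ¬ Pure Q N U) : ¬ Pure Q N W :=
  fun hW => hU (pure_mono h hW)

theorem pure_plus (hI : Inv Q N) {W : Submodule F (ι → F)} (hW : Good Q N W) (hp : Pure Q N W) :
    QPlus Q W := by
  have hs : ∀ u ∈ W ⊓ LinearMap.ker N, Q u = 0 := fun u hu => hp u hu.1 (LinearMap.mem_ker.1 hu.2)
  have h1 := TsInvol.finrank_map_add (N := N) W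
  have h2 : W.map N ≤ W ⊓ LinearMap.ker N := by
    rintro _ ⟨v, hv, rfl⟩
    exact ⟨hW.2 ⟨v, hv, rfl⟩, LinearMap.mem_ker.2 (hI.sq v)⟩
  have h3 := Submodule.finrank_mono h2
  have h4 : 2 * finrank F ↥(W ⊓ LinearMap.ker N) ≤ finrank F W :=
    Refl.two_le_of_iso (pB_refl Q) hW.1 inf_le_left fun u hu v hv => by
      rw [QuadraticMap.polarBilin_apply_apply, QuadraticMap.polar, hs u hu, hs v hv, hs _ (add_mem hu hv)]
      simp
  exact ⟨_, inf_le_left, hs, by omega⟩

theorem good_sup {U W : Submodule F (ι → F)} (hU : Good Q N U) (hW : Good Q N W) (ho : OrthTo (pB Q) U W) :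
    Good Q N (U ⊔ W) :=
  ⟨nd_sup (pB_refl Q) hU.1 hW.1 ho, by rw [Submodule.map_sup]; exact sup_le_sup hU.2 hW.2⟩

theorem good_bot : Good Q N (⊥ : Submodule F (ι → F)) :=
  ⟨fun v hv hv0 => absurd ((Submodule.mem_bot F).1 hv) hv0, by simp⟩

theorem good_perp (hI : Inv Q N) {D T : Submodule F (ι → F)} (hD : Good Q N D) (hT : Good Q N T) (hle : T ≤ D) :
    Good Q N (D ⊓ (pB Q).orthogonal T) ∧ OrthTo (pB Q) T (D ⊓ (pB Q).orthogonal T) ∧
      T ⊔ (D ⊓ (pB Q).orthogonal T) = D ∧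
      finrank F T + finrank F ↥(D ⊓ (pB Q).orthogonal T) = finrank F D := by
  obtain ⟨h1, h2, h3, h4⟩ := perp_nd (pB_refl Q) hD.1 hT.1 hle
  refine ⟨⟨h1, ?_⟩, h2, h3, h4⟩
  rintro _ ⟨v, hv, rfl⟩
  refine mem_perp.2 ⟨hD.2 ⟨v, (mem_perp.1 hv).1, rfl⟩, fun t ht => ?_⟩
  rw [← hI.adj]
  exact h2 _ (hT.2 ⟨t, ht, rfl⟩) v hv

theorem finrank_sup {U W : Submodule F (ι → F)} (hU : Good Q N U) (ho : OrthTo (pB Q) U W) :
    finrank F ↥(U ⊔ W) = finrank F U + finrank F W :=
  finrank_sup_of_disjoint (disjoint_of_orth (pB_refl Q) hU.1 ho)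

theorem pair_plane (hI : Inv Q N) {u v : ι → F} (huv : pB Q u v ≠ 0) (hNv : N v = 0)
    (hNu : N u ∈ Submodule.span F ({u, v} : Set (ι → F))) :
    Good Q N (Submodule.span F ({u, v} : Set (ι → F))) ∧
      finrank F ↥(Submodule.span F ({u, v} : Set (ι → F))) = 2 := by
  have hvu : pB Q v u ≠ 0 := by rwa [(pB_symm Q).eq]
  refine ⟨⟨fun x hx hx0 => ?_, ?_⟩, ?_⟩
  · obtain ⟨s, t, rfl⟩ := Submodule.mem_span_pair.1 hx
    by_cases hs : s = 0
    · refine ⟨u, Submodule.subset_span (Or.inl rfl), ?_⟩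
      have ht : t ≠ 0 := fun h => hx0 (by rw [hs, h]; simp)
      rw [hs]
      simp [hvu, ht, -QuadraticMap.polarBilin_apply_apply]
    · refine ⟨v, Submodule.subset_span (Or.inr rfl), ?_⟩
      simp [huv, hs, hI.self, -QuadraticMap.polarBilin_apply_apply]
  · rw [Submodule.map_span, Submodule.span_le]
    rintro _ ⟨x, hx, rfl⟩
    rcases hx with rfl | rfl
    · exact hNu
    · rw [hNv]; exact zero_mem _
  · have hli : LinearIndependent F ![u, v] := by
      rw [LinearIndependent.pair_iff]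
      intro s t hst
      refine ⟨?_, ?_⟩
      · have h1 := congrArg (fun z => pB Q z v) hst
        simpa [huv, hI.self, -QuadraticMap.polarBilin_apply_apply] using h1
      · have h1 := congrArg (fun z => pB Q z u) hst
        simpa [hvu, hI.self, -QuadraticMap.polarBilin_apply_apply] using h1
    rw [show ({u, v} : Set (ι → F)) = Set.range ![u, v] by
      rw [Matrix.range_cons, Matrix.range_cons, Matrix.range_empty, Set.union_empty]; rfl,
      finrank_span_eq_card hli, Fintype.card_fin]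

/-- a plane around a nonsingular fixed vector -/
theorem exists_plane (hI : Inv Q N) {W : Submodule F (ι → F)} (hW : Good Q N W) (hp : ¬ Pure Q N W) :
    ∃ u v, u ∈ W ∧ v ∈ W ∧ N v = 0 ∧ Q v ≠ 0 ∧ pB Q u v ≠ 0 ∧ ∃ t : F, N u = t • v := by
  have hB := pB_refl Q
  simp only [Pure] at hp
  push Not at hp
  obtain ⟨v, hv, hNv, hQv⟩ := hp
  by_cases hvI : v ∈ W.map N
  · obtain ⟨u, hu, rfl⟩ := hvI
    refine ⟨u, _, hu, hv, hNv, hQv, ?_, 1, (one_smul F _).symm⟩
    rw [(pB_symm Q).eq, ← hI.quad]; exact hQv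
  set K := W ⊓ (pB Q).orthogonal (W.map N) with hK
  obtain ⟨u, huK, huv⟩ : ∃ u ∈ K, pB Q u v ≠ 0 := by
    by_contra hall
    push Not at hall
    have hT : W.map N ⊔ F ∙ v ≤ W := sup_le hW.2 ((Submodule.span_singleton_le_iff_mem _ _).2 hv)
    have h1 := Refl.perp_dim hB hW.1 hW.2
    have h2 := Refl.perp_dim hB hW.1 hT
    have hle : K ≤ W ⊓ (pB Q).orthogonal (W.map N ⊔ F ∙ v) := by
      intro x hx
      refine mem_perp.2 ⟨hx.1, fun y hy => ?_⟩
      obtain ⟨a, ha, b, hb, rfl⟩ := Submodule.mem_sup.1 hy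
      obtain ⟨s, rfl⟩ := Submodule.mem_span_singleton.1 hb
      rw [map_add, LinearMap.add_apply, (mem_perp.1 hx).2 a ha, zero_add, map_smul, LinearMap.smul_apply,
        hB _ _ (hall x hx), smul_zero]
    have h3 := Submodule.finrank_mono hle
    have h5 : W.map N = W.map N ⊔ F ∙ v := Submodule.eq_of_le_of_finrank_le le_sup_left (by
      rw [hK] at h3; omega)
    exact hvI (by rw [h5]; exact Submodule.mem_sup_right (Submodule.mem_span_singleton_self v))
  have hNu : N u = 0 := by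
    by_contra h0
    obtain ⟨w, hw, hne⟩ := hW.1 _ (hW.2 ⟨u, huK.1, rfl⟩) h0
    exact hne (by rw [hI.adj, (pB_symm Q).eq]; exact (mem_perp.1 huK).2 _ ⟨w, hw, rfl⟩)
  exact ⟨u, v, huK.1, hv, hNv, hQv, huv, 0, by rw [hNu, zero_smul]⟩

/-- a four-dimensional pure piece -/
theorem exists_four (hI : Inv Q N) {R : Submodule F (ι → F)} (hR : Good Q N R) (hp : Pure Q N R) (h0 : R ≠ ⊥) :
    ∃ X, X ≤ R ∧ Good Q N X ∧ finrank F X = 4 := by
  obtain ⟨u, hu, hu0⟩ : ∃ u ∈ R, N u ≠ 0 := by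
    by_contra hall
    push Not at hall
    obtain ⟨x, hx, hx0⟩ := Submodule.exists_mem_ne_zero_of_ne_bot h0
    obtain ⟨w, hw, hne⟩ := hR.1 x hx hx0
    refine hne ?_
    rw [QuadraticMap.polarBilin_apply_apply, QuadraticMap.polar, hp _ hx (hall x hx), hp _ hw (hall w hw),
      hp _ (add_mem hx hw) (hall _ (add_mem hx hw))]
    simp
  obtain ⟨w, hw, huw⟩ := hR.1 _ (hR.2 ⟨u, hu, rfl⟩) hu0
  have hS := pB_symm Q
  have hz : ∀ z ∈ R, pB Q (N z) z = 0 := fun z hz => by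
    rw [← hI.quad]; exact hp _ (hR.2 ⟨z, hz, rfl⟩) (hI.sq z)
  have hwu : pB Q (N w) u ≠ 0 := by rwa [hI.adj, hS.eq]
  have hzero : ∀ a b, pB Q (N a) (N b) = 0 := fun a b => by rw [hI.adj, hI.sq, map_zero]
  set g : Fin 4 → (ι → F) := ![u, w, N u, N w] with hg
  have hpair : ∀ s : Fin 4 → F, (∀ a, pB Q (∑ k, s k • g k) (g a) = 0) → ∀ k, s k = 0 := by
    intro s hs
    have e0 := hs 2
    have e1 := hs 3
    have e2 := hs 0
    have e3 := hs 1
    simp only [hg, Fin.sum_univ_four, map_add, map_smul, LinearMap.add_apply, LinearMap.smul_apply, smul_eq_mul,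
      Matrix.cons_val_zero, Matrix.cons_val_one, Matrix.cons_val, hzero, hz u hu, hz w hw, mul_zero, add_zero,
      hS.eq u (N u), hS.eq w (N w), hS.eq u (N w), hS.eq w (N u)] at e0 e1 e2 e3
    have h1 : s 1 = 0 := by
      simpa [huw, -QuadraticMap.polarBilin_apply_apply] using e0
    have h0 : s 0 = 0 := by
      simpa [h1, hwu, -QuadraticMap.polarBilin_apply_apply] using e1
    simp only [h0, h1, zero_mul, zero_add] at e2 e3
    have h3 : s 3 = 0 := by simpa [hwu, -QuadraticMap.polarBilin_apply_apply] using e2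
    have h2 : s 2 = 0 := by simpa [h3, huw, -QuadraticMap.polarBilin_apply_apply] using e3
    intro k
    fin_cases k <;> assumption
  set X := Submodule.span F (Set.range g) with hX
  refine ⟨X, Submodule.span_le.2 ?_, ⟨fun x hx hx0 => ?_, ?_⟩, ?_⟩
  · rintro _ ⟨k, rfl⟩
    fin_cases k
    exacts [hu, hw, hR.2 ⟨u, hu, rfl⟩, hR.2 ⟨w, hw, rfl⟩]
  · obtain ⟨s, rfl⟩ := (Submodule.mem_span_range_iff_exists_fun F).1 hx
    by_contra hall
    push Not at hall
    refine hx0 ?_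
    have := hpair s fun a => hall _ (Submodule.subset_span ⟨a, rfl⟩)
    simp [this]
  · rw [hX, Submodule.map_span, Submodule.span_le]
    rintro _ ⟨_, ⟨k, rfl⟩, rfl⟩
    fin_cases k
    · exact Submodule.subset_span ⟨2, rfl⟩
    · exact Submodule.subset_span ⟨3, rfl⟩
    · show N (N u) ∈ X; rw [hI.sq]; exact zero_mem _
    · show N (N w) ∈ X; rw [hI.sq]; exact zero_mem _
  · have hli : LinearIndependent F g := Fintype.linearIndependent_iff.2 fun s hs => hpair s fun a => by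
      rw [hs, map_zero, LinearMap.zero_apply]
    rw [hX, finrank_span_eq_card hli, Fintype.card_fin]

/-- pure spaces are sums of four-dimensional pieces -/
theorem pure_pieces (hI : Inv Q N) : ∀ (n : ℕ) {R : Submodule F (ι → F)}, finrank F R ≤ n → Good Q N R →
    Pure Q N R → ∃ l, finrank F R = 4 * l ∧ ∀ b, b ≤ l → ∃ X Y, Good Q N X ∧ Good Q N Y ∧ OrthTo (pB Q) X Y ∧
      X ⊔ Y = R ∧ finrank F X = 4 * b := by
  intro n
  induction n with
  | zero =>
    intro R hn hR _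
    refine ⟨0, by omega, fun b hb => ⟨⊥, R, good_bot, hR, fun x hx => ?_, bot_sup_eq R, by simp; omega⟩⟩
    rw [(Submodule.mem_bot F).1 hx]; simp
  | succ n ih =>
    intro R hn hR hp
    by_cases h0 : R = ⊥
    · exact ih (by rw [h0, finrank_bot]; omega) hR hp
    obtain ⟨X₀, hle, hX₀, hd⟩ := exists_four hI hR hp h0
    obtain ⟨hR', ho, hsup, hdim⟩ := good_perp hI hR hX₀ hle
    obtain ⟨l, hl, hex⟩ := ih (by omega) hR' (pure_mono inf_le_left hp)
    refine ⟨l + 1, by omega, fun b hb => ?_⟩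
    rcases Nat.eq_zero_or_pos b with rfl | hb0
    · refine ⟨⊥, R, good_bot, hR, fun x hx => ?_, bot_sup_eq R, by simp⟩
      rw [(Submodule.mem_bot F).1 hx]; simp
    obtain ⟨b, rfl⟩ : ∃ b', b = b' + 1 := ⟨b - 1, by omega⟩
    obtain ⟨X, Y, hX, hY, hXY, hXYsup, hXd⟩ := hex b (by omega)
    have hXR : ∀ y ∈ X, y ∈ R ⊓ (pB Q).orthogonal X₀ := fun y hy => hXYsup ▸ Submodule.mem_sup_left hy
    have hYR : ∀ y ∈ Y, y ∈ R ⊓ (pB Q).orthogonal X₀ := fun y hy => hXYsup ▸ Submodule.mem_sup_right hy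
    have hoX : OrthTo (pB Q) X₀ X := fun x hx y hy => ho x hx y (hXR y hy)
    refine ⟨X₀ ⊔ X, Y, good_sup hX₀ hX hoX, hY, fun x hx y hy => ?_, by rw [sup_assoc, hXYsup, hsup],
      by rw [finrank_sup hX₀ hoX]; omega⟩
    obtain ⟨a, ha, c, hc, rfl⟩ := Submodule.mem_sup.1 hx
    rw [map_add, LinearMap.add_apply, ho a ha y (hYR y hy), hXY c hc y hy, add_zero]

/-- a maximal sum of planes with nonsingular fixed vectors, and a pure rest -/
theorem planes (hI : Inv Q N) : ∀ (n : ℕ) {D : Submodule F (ι → F)}, finrank F D ≤ n → Good Q N D →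
    ∃ K R k, Good Q N K ∧ Good Q N R ∧ OrthTo (pB Q) K R ∧ K ⊔ R = D ∧ Pure Q N R ∧ finrank F K = 2 * k ∧
      ∀ a, a ≤ k → ∃ X Y, Good Q N X ∧ Good Q N Y ∧ OrthTo (pB Q) X Y ∧ X ⊔ Y = K ∧ finrank F X = 2 * a ∧
        (0 < a → ¬ Pure Q N X) ∧ (a < k → ¬ Pure Q N Y) := by
  intro n
  have hbot : ∀ {D : Submodule F (ι → F)}, Good Q N D → Pure Q N D →
      ∃ K R k, Good Q N K ∧ Good Q N R ∧ OrthTo (pB Q) K R ∧ K ⊔ R = D ∧ Pure Q N R ∧ finrank F K = 2 * k ∧
        ∀ a, a ≤ k → ∃ X Y, Good Q N X ∧ Good Q N Y ∧ OrthTo (pB Q) X Y ∧ X ⊔ Y = K ∧ finrank F X = 2 * a ∧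
          (0 < a → ¬ Pure Q N X) ∧ (a < k → ¬ Pure Q N Y) := fun {D} hD hp => by
    refine ⟨⊥, D, 0, good_bot, hD, fun x hx => ?_, bot_sup_eq D, hp, by simp, fun a ha => ?_⟩
    · rw [(Submodule.mem_bot F).1 hx]; simp
    · refine ⟨⊥, ⊥, good_bot, good_bot, fun x hx => ?_, bot_sup_eq _, by simp; omega, fun h => absurd h (by omega),
        fun h => absurd h (by omega)⟩
      rw [(Submodule.mem_bot F).1 hx]; simp
  induction n with
  | zero =>
    intro D hn hD
    refine hbot hD fun v hv _ => ?_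
    rw [Submodule.finrank_eq_zero.1 (Nat.le_zero.1 hn)] at hv
    rw [(Submodule.mem_bot F).1 hv, QuadraticMap.map_zero]
  | succ n ih =>
    intro D hn hD
    by_cases hp : Pure Q N D
    · exact hbot hD hp
    obtain ⟨u, v, hu, hv, hNv, hQv, huv, t, hNu⟩ := exists_plane hI hD hp
    obtain ⟨hP, hPd⟩ := pair_plane hI huv hNv (by
      rw [hNu]; exact Submodule.smul_mem _ _ (Submodule.subset_span (Or.inr rfl)))
    set P := Submodule.span F ({u, v} : Set (ι → F)) with hPdef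
    have hPD : P ≤ D := Submodule.span_le.2 (Set.insert_subset hu (Set.singleton_subset_iff.2 hv))
    have hPp : ¬ Pure Q N P := fun h => hQv (h v (Submodule.subset_span (Or.inr rfl)) hNv)
    obtain ⟨hD', ho, hsup, hdim⟩ := good_perp hI hD hP hPD
    obtain ⟨K, R, k, hK, hR, hKR, hKRsup, hRp, hKd, hex⟩ := ih (by omega) hD'
    have hKD : ∀ y ∈ K, y ∈ D ⊓ (pB Q).orthogonal P := fun y hy => hKRsup ▸ Submodule.mem_sup_left hy
    have hRD : ∀ y ∈ R, y ∈ D ⊓ (pB Q).orthogonal P := fun y hy => hKRsup ▸ Submodule.mem_sup_right hy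
    have hoK : OrthTo (pB Q) P K := fun x hx y hy => ho x hx y (hKD y hy)
    refine ⟨P ⊔ K, R, k + 1, good_sup hP hK hoK, hR, fun x hx y hy => ?_, by rw [sup_assoc, hKRsup, hsup], hRp,
      by rw [finrank_sup hP hoK]; omega, fun a ha => ?_⟩
    · obtain ⟨a, ha, c, hc, rfl⟩ := Submodule.mem_sup.1 hx
      rw [map_add, LinearMap.add_apply, ho a ha y (hRD y hy), hKR c hc y hy, add_zero]
    rcases Nat.eq_zero_or_pos a with rfl | ha0
    · refine ⟨⊥, P ⊔ K, good_bot, good_sup hP hK hoK, fun x hx => ?_, bot_sup_eq _, by simp,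
        fun h => absurd h (by omega), fun _ => not_pure_mono le_sup_left hPp⟩
      rw [(Submodule.mem_bot F).1 hx]; simp
    obtain ⟨a, rfl⟩ : ∃ a', a = a' + 1 := ⟨a - 1, by omega⟩
    obtain ⟨X, Y, hX, hY, hXY, hXYsup, hXd, -, hYp⟩ := hex a (by omega)
    have hXK : ∀ y ∈ X, y ∈ K := fun y hy => hXYsup ▸ Submodule.mem_sup_left hy
    have hYK : ∀ y ∈ Y, y ∈ K := fun y hy => hXYsup ▸ Submodule.mem_sup_right hy
    have hoX : OrthTo (pB Q) P X := fun x hx y hy => hoK x hx y (hXK y hy)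
    refine ⟨P ⊔ X, Y, good_sup hP hX hoX, hY, fun x hx y hy => ?_, by rw [sup_assoc, hXYsup],
      by rw [finrank_sup hP hoX]; omega, fun _ => not_pure_mono le_sup_left hPp, fun h => hYp (by omega)⟩
    obtain ⟨b, hb, c, hc, rfl⟩ := Submodule.mem_sup.1 hx
    rw [map_add, LinearMap.add_apply, hoK b hb y (hYK y hy), hXY c hc y hy, add_zero]

/-- with nonsingular fixed vectors on both sides both types occur -/
theorem flip (hI : Inv Q N) {X Y : Submodule F (ι → F)} (hX : Good Q N X) (ho : OrthTo (pB Q) X Y)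
    {a : ℕ} (hXd : finrank F X = 2 * a) (hXp : ¬ Pure Q N X) (hYp : ¬ Pure Q N Y) (ε : Prop) :
    ∃ W, Good Q N W ∧ finrank F W = 2 * a ∧ (QPlus Q W ↔ ε) := by
  classical
  have hsq : ∀ c : F, ∃ e : F, e * e = c := Elusive.Inv.exists_sq hI.two
  obtain ⟨u, v, hu, hv, hNv, hQv, huv, t, hNu⟩ := exists_plane hI hX hXp
  simp only [Pure] at hYp
  push Not at hYp
  obtain ⟨w, hw, hNw, hQw⟩ := hYp
  set β := pB Q u v with hβ
  have hwX : ∀ x ∈ X, pB Q x w = 0 := fun x hx => ho x hx w hw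
  set P₀ := Submodule.span F ({u, v} : Set (ι → F)) with hP₀def
  obtain ⟨hP₀, hP₀d⟩ := pair_plane hI huv hNv (by
    rw [hNu]; exact Submodule.smul_mem _ _ (Submodule.subset_span (Or.inr rfl)))
  have hP₀X : P₀ ≤ X := Submodule.span_le.2 (Set.insert_subset hu (Set.singleton_subset_iff.2 hv))
  obtain ⟨hX', ho', hsup', hdim'⟩ := good_perp hI hX hP₀ hP₀X
  set X' := X ⊓ (pB Q).orthogonal P₀ with hX'def
  -- the family of planes
  have hplane : ∀ s : F, ∃ P, Good Q N P ∧ finrank F P = 2 ∧ OrthTo (pB Q) P X' ∧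
      ((∃ e : F, Q v * e * e + β * e + (Q u + s * s * Q w) = 0) → QPlus Q P) ∧
      ((∀ e : F, Q v * e * e + β * e + (Q u + s * s * Q w) ≠ 0) → ¬ QPlus Q P) := by
    intro s
    have huv' : pB Q (u + s • w) v = β := by
      rw [map_add, LinearMap.add_apply, map_smul, LinearMap.smul_apply, pB_refl Q _ _ (hwX v hv), smul_zero,
        add_zero]
    obtain ⟨hP, hPd⟩ := pair_plane hI (u := u + s • w) (v := v) (huv'.symm ▸ huv) hNv (by
      rw [map_add, map_smul, hNw, smul_zero, add_zero, hNu]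
      exact Submodule.smul_mem _ _ (Submodule.subset_span (Or.inr rfl)))
    have hval : ∀ x e : F, Q (x • (u + s • w) + e • v) =
        x * x * (Q u + s * s * Q w) + x * e * β + e * e * Q v := fun x e => by
      have h1 : QuadraticMap.polar (⇑Q) u w = 0 := hwX u hu
      have h2 : QuadraticMap.polar (⇑Q) (u + s • w) v = β := huv'
      rw [QuadraticMap.map_add (⇑Q), QuadraticMap.map_smul, QuadraticMap.map_smul, QuadraticMap.map_add (⇑Q),
        QuadraticMap.map_smul, QuadraticMap.polar_smul_left, QuadraticMap.polar_smul_right,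
        QuadraticMap.polar_smul_right, h1, h2]
      simp only [smul_eq_mul]
      ring
    refine ⟨_, hP, hPd, fun x hx y hy => ?_, ?_, ?_⟩
    · obtain ⟨c, e, rfl⟩ := Submodule.mem_span_pair.1 hx
      have hy' : y ∈ X := hy.1
      rw [map_add, LinearMap.add_apply, map_smul, LinearMap.smul_apply, map_smul, LinearMap.smul_apply, map_add,
        LinearMap.add_apply, map_smul, LinearMap.smul_apply, ho' u (Submodule.subset_span (Or.inl rfl)) y hy,
        ho' v (Submodule.subset_span (Or.inr rfl)) y hy, pB_refl Q _ _ (hwX y hy'), smul_zero, add_zero, smul_zero,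
        smul_zero, add_zero]
    · rintro ⟨e, he⟩
      set z : ι → F := (1 : F) • (u + s • w) + e • v with hz
      have hz0 : z ≠ 0 := fun h => huv (by
        have h1 := congrArg (fun x => pB Q x v) h
        simp only [hz, one_smul, map_add, LinearMap.add_apply, map_smul, LinearMap.smul_apply, hI.self,
          smul_zero, add_zero, map_zero, LinearMap.zero_apply] at h1
        rw [← huv', map_add, LinearMap.add_apply, map_smul, LinearMap.smul_apply]
        exact h1)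
      refine ⟨F ∙ z, (Submodule.span_singleton_le_iff_mem _ _).2 (Submodule.mem_span_pair.2 ⟨1, e, rfl⟩),
        fun x hx => ?_, by rw [hPd, finrank_span_singleton hz0]⟩
      obtain ⟨c, rfl⟩ := Submodule.mem_span_singleton.1 hx
      rw [QuadraticMap.map_smul, hz, hval, one_mul, one_mul, show (1 : F) * e * β = β * e by ring] at *
      rw [show (Q u + s * s * Q w) + β * e + e * e * Q v = 0 by linear_combination he, smul_zero]
    · rintro hall ⟨U, hU, hs, hd⟩
      rw [hPd] at hd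
      obtain ⟨z, hz, hz0⟩ := Submodule.exists_mem_ne_zero_of_ne_bot
        (show U ≠ ⊥ from fun h => by rw [h, finrank_bot] at hd; omega)
      obtain ⟨x, e, rfl⟩ := Submodule.mem_span_pair.1 (hU hz)
      have h1 := hs _ hz
      rw [hval] at h1
      by_cases hx : x = 0
      · rw [hx] at h1
        simp only [zero_mul, zero_add, mul_eq_zero, or_self, hQv, or_false] at h1
        exact hz0 (by rw [hx, h1, zero_smul, zero_smul, zero_add])
      · refine hall (e / x) ?_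
        field_simp
        linear_combination h1
  obtain ⟨ζ, hζ⟩ := exists_zeta (F := F)
  have hget : ∀ b : Prop, ∃ P, Good Q N P ∧ finrank F P = 2 ∧ OrthTo (pB Q) P X' ∧ (QPlus Q P ↔ b) := fun b => by
    by_cases hb : b
    · obtain ⟨s, hs⟩ := hsq (- Q u / Q w)
      obtain ⟨P, h1, h2, h3, h4, -⟩ := hplane s
      refine ⟨P, h1, h2, h3, iff_of_true (h4 ⟨0, ?_⟩) hb⟩
      rw [hs]; field_simp; ring
    · obtain ⟨s, hs⟩ := hsq ((ζ * β * β / Q v - Q u) / Q w)
      obtain ⟨P, h1, h2, h3, -, h5⟩ := hplane s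
      refine ⟨P, h1, h2, h3, iff_of_false (h5 fun e he => hζ (e * Q v / β) ?_) hb⟩
      rw [hs] at he
      field_simp at he ⊢
      linear_combination he
  obtain ⟨P, hP, hPd, hPo, hPt⟩ := hget (QPlus Q X' ↔ ε)
  have hd : finrank F ↥(P ⊔ X') = 2 * a := by rw [finrank_sup hP hPo]; omega
  refine ⟨P ⊔ X', good_sup hP hX' hPo, hd, ?_⟩
  -- the type of the sum
  have hP' := hP.1
  obtain ⟨e, he, -⟩ : ∃ e : (Fin (2 * 1) ⊕ Fin (2 * (a - 1)) → F) ≃ₗ[F] ↥(P ⊔ X'),
      (∀ x, Q (e x : ι → F) = sumQ (coordQ Q (coord (W := P) (k := 1) (by rw [hPd])))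
        (coordQ Q (coord (W := X') (k := a - 1) (by omega))) x) ∧ True := by
    let L₁ := coord (W := P) (k := 1) (by rw [hPd])
    let L₂ := coord (W := X') (k := a - 1) (by omega)
    let Φ : (Fin (2 * 1) ⊕ Fin (2 * (a - 1)) → F) →ₗ[F] ↥(P ⊔ X') :=
      (Submodule.inclusion le_sup_left ∘ₗ L₁.toLinearMap ∘ₗ LinearMap.funLeft F F Sum.inl) +
        (Submodule.inclusion le_sup_right ∘ₗ L₂.toLinearMap ∘ₗ LinearMap.funLeft F F Sum.inr)
    have hΦ : ∀ x, (Φ x : ι → F) = (L₁ (x ∘ Sum.inl) : ι → F) + (L₂ (x ∘ Sum.inr) : ι → F) := fun x => rfl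
    have hinj : Function.Injective Φ := (injective_iff_map_eq_zero Φ).2 fun x hx => by
      have h1 : (L₁ (x ∘ Sum.inl) : ι → F) + (L₂ (x ∘ Sum.inr) : ι → F) = 0 := by rw [← hΦ, hx]; rfl
      have h2 := (disjoint_of_orth (pB_refl Q) hP.1 hPo)
      have h3 : (L₁ (x ∘ Sum.inl) : ι → F) = 0 := Submodule.disjoint_def.1 h2 _ (L₁ _).2
        (by rw [eq_neg_of_add_eq_zero_left h1]; exact neg_mem (L₂ _).2)
      rw [h3, zero_add] at h1
      have e1 := L₁.map_eq_zero_iff.1 (Subtype.ext h3)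
      have e2 := L₂.map_eq_zero_iff.1 (Subtype.ext h1)
      funext k
      rcases k with k | k
      exacts [congrFun e1 k, congrFun e2 k]
    refine ⟨LinearEquiv.ofInjectiveOfFinrankEq Φ hinj (by
      rw [Module.finrank_pi, Fintype.card_sum, Fintype.card_fin, Fintype.card_fin, hd]; omega), fun x => ?_, trivial⟩
    show Q (Φ x : ι → F) = _
    rw [hΦ, QuadraticMap.map_add (⇑Q), sumQ_apply, coordQ_apply, coordQ_apply]
    have : QuadraticMap.polar (⇑Q) (L₁ (x ∘ Sum.inl) : ι → F) (L₂ (x ∘ Sum.inr) : ι → F) = 0 :=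
      hPo _ (L₁ _).2 _ (L₂ _).2
    rw [this, add_zero]
  rw [← isPlus_coordQ e (k := 1 + (a - 1)) (by rw [Fintype.card_sum, Fintype.card_fin, Fintype.card_fin]; omega),
    show coordQ Q e = _ from QuadraticMap.ext fun x => (coordQ_apply e x).trans (he x),
    isPlus_sum_iff (Fintype.card_fin _) (Fintype.card_fin _) (coordQ_nondeg hP.1 _) (coordQ_nondeg hX'.1 _),
    isPlus_coordQ _ (Fintype.card_fin _), isPlus_coordQ _ (Fintype.card_fin _), hPt]
  tauto

/-- when an involution fixes a subspace of the type of the whole space -/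
theorem exists_inv_type (hQ : (QuadraticMap.polarBilin Q).Nondegenerate) (hI : Inv Q N) {d a : ℕ}
    (hcard : Fintype.card ι = 2 * d) (ha : 1 ≤ a) (had : a < d) (ε : Prop)
    (hok : (ε ∧ IsPlus Q d ∧ (Even a ∨ Odd d)) ∨ (¬ ε ∧ ¬ IsPlus Q d ∧ (Odd a ∨ Even d))) :
    ∃ W, Good Q N W ∧ finrank F W = 2 * a ∧ (QPlus Q W ↔ ε) := by
  have htop : Good Q N (⊤ : Submodule F (ι → F)) := ⟨ndOn_top hQ, le_top⟩
  obtain ⟨K, R, k, hK, hR, hKR, hsup, hRp, hKd, hplanes⟩ := planes hI _ le_rfl htop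
  obtain ⟨l, hl, hpure⟩ := pure_pieces hI _ le_rfl hR hRp
  have hdim := finrank_sup hK hKR
  rw [hsup, finrank_top, Module.finrank_pi, hcard, hKd, hl] at hdim
  have hk : k = 0 → IsPlus Q d := fun h0 => by
    have hK0 : K = ⊥ := Submodule.finrank_eq_zero.1 (by omega)
    rw [hK0, bot_sup_eq] at hsup
    exact (qplus_top hcard).1 (pure_plus hI htop (hsup ▸ hRp))
  obtain ⟨ak, bl, hak, hbl, hab, hgood⟩ : ∃ ak bl, ak ≤ k ∧ bl ≤ l ∧ a = ak + 2 * bl ∧
      ((0 < ak ∧ ak < k) ∨ (ak = 0 ∧ ε) ∨ (ak = k ∧ (ε ↔ IsPlus Q d))) := by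
    by_cases hε : ε
    · obtain ⟨-, hτ, hpar⟩ := hok.resolve_right fun h => h.1 hε
      refine ⟨a - 2 * min l (a / 2), min l (a / 2), ?_, min_le_left _ _, by omega, ?_⟩
      · rcases hpar with ⟨s, hs⟩ | ⟨s, hs⟩ <;> omega
      · rcases Nat.eq_zero_or_pos (a - 2 * min l (a / 2)) with h | h
        · exact Or.inr (Or.inl ⟨h, hε⟩)
        · rcases Nat.lt_or_ge (a - 2 * min l (a / 2)) k with h' | h'
          · exact Or.inl ⟨h, h'⟩
          · refine Or.inr (Or.inr ⟨?_, iff_of_true hε hτ⟩)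
            rcases hpar with ⟨s, hs⟩ | ⟨s, hs⟩ <;> omega
    · obtain ⟨-, hτ, hpar⟩ := hok.resolve_left fun h => hε h.1
      have hk1 : 1 ≤ k := Nat.one_le_iff_ne_zero.2 fun h => hτ (hk h)
      refine ⟨a - 2 * min l ((a - 1) / 2), min l ((a - 1) / 2), ?_, min_le_left _ _, by omega, ?_⟩
      · rcases hpar with ⟨s, hs⟩ | ⟨s, hs⟩ <;> omega
      · rcases Nat.lt_or_ge (a - 2 * min l ((a - 1) / 2)) k with h' | h'
        · exact Or.inl ⟨by omega, h'⟩
        · refine Or.inr (Or.inr ⟨?_, iff_of_false hε hτ⟩)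
          rcases hpar with ⟨s, hs⟩ | ⟨s, hs⟩ <;> omega
  obtain ⟨X₁, Y₁, hX₁, hY₁, ho₁, hs₁, hd₁, hnX, hnY⟩ := hplanes ak hak
  obtain ⟨X₂, Y₂, hX₂, hY₂, ho₂, hs₂, hd₂⟩ := hpure bl hbl
  have hin : ∀ {A B : Submodule F (ι → F)}, A ≤ K → B ≤ R → OrthTo (pB Q) A B := fun hA hB x hx y hy =>
    hKR x (hA hx) y (hB hy)
  have hA1 : X₁ ≤ K := hs₁ ▸ le_sup_left
  have hB1 : Y₁ ≤ K := hs₁ ▸ le_sup_right
  have hA2 : X₂ ≤ R := hs₂ ▸ le_sup_left
  have hB2 : Y₂ ≤ R := hs₂ ▸ le_sup_right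
  have hX := good_sup hX₁ hX₂ (hin hA1 hA2)
  have hY := good_sup hY₁ hY₂ (hin hB1 hB2)
  have hXd : finrank F ↥(X₁ ⊔ X₂) = 2 * a := by rw [finrank_sup hX₁ (hin hA1 hA2)]; omega
  have hXY : OrthTo (pB Q) (X₁ ⊔ X₂) (Y₁ ⊔ Y₂) := by
    intro x hx y hy
    obtain ⟨x₁, hx₁, x₂, hx₂, rfl⟩ := Submodule.mem_sup.1 hx
    obtain ⟨y₁, hy₁, y₂, hy₂, rfl⟩ := Submodule.mem_sup.1 hy
    simp only [map_add, LinearMap.add_apply, ho₁ x₁ hx₁ y₁ hy₁, ho₂ x₂ hx₂ y₂ hy₂, hin hA1 hB2 x₁ hx₁ y₂ hy₂,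
      pB_refl Q _ _ (hin hB1 hA2 y₁ hy₁ x₂ hx₂), add_zero]
  rcases hgood with ⟨h1, h2⟩ | ⟨h1, h2⟩ | ⟨h1, h2⟩
  · exact flip hI hX hXY hXd (not_pure_mono le_sup_left (hnX h1)) (not_pure_mono le_sup_left (hnY h2)) ε
  · refine ⟨_, hX, hXd, iff_of_true (pure_plus hI hX ?_) h2⟩
    have : X₁ = ⊥ := Submodule.finrank_eq_zero.1 (by omega)
    rw [this, bot_sup_eq]
    exact pure_mono hA2 hRp
  · refine ⟨_, hX, hXd, ?_⟩
    have hY1 : Y₁ = ⊥ := by
      have h3 := finrank_sup hX₁ ho₁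
      rw [hs₁] at h3
      exact Submodule.finrank_eq_zero.1 (by omega)
    have hYp : QPlus Q (Y₁ ⊔ Y₂) := pure_plus hI hY (by rw [hY1, bot_sup_eq]; exact pure_mono hB2 hRp)
    have hall : (X₁ ⊔ X₂) ⊔ (Y₁ ⊔ Y₂) = ⊤ := by rw [sup_sup_sup_comm, hs₁, hs₂, hsup]
    have h4 := finrank_sup hX hXY
    rw [hall, finrank_top, Module.finrank_pi, hcard, hXd] at h4
    have h5 := type_sum hcard hX.1 hY.1 hXY hall hXd (b := d - a) (by omega)
    rw [qplus_top hcard] at h5
    tauto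

end Cfsg.Agent.Classical.IsoInvariant.InvolTwo
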