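import Mathlib
import Cfsg.Agent.Lib.Classical.IsoInvariant.FourthRoot
import Cfsg.Agent.Lib.Classical.IsoInvariant.NdPieces
import Cfsg.Agent.Lib.Classical.IsoInvariant.FreeSplit
import Cfsg.Agent.Lib.Classical.IsoInvariant.InvolTwo

/-!
# Elements of order two, and elements of characteristic order, fixing subspaces of a given type
-/

set_option autoImplicit false
set_option linter.unusedSectionVars false

namespace Cfsg.Agent.Classical.IsoInvariant.EvenTypeTwo

open Module
open Cfsg.Agent.Forms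
open Cfsg.Agent.Forms.Elusive Cfsg.Agent.Forms.Elusive.Pieces
open Cfsg.Agent.Forms.Reflections (act act_apply act_map act_polar)
open Cfsg.Agent.Classical.OrthTypes
open Cfsg.Agent.Classical.IsoInvariant.NdType Cfsg.Agent.Classical.IsoInvariant.EvenDim
open Cfsg.Agent.Classical.IsoInvariant.QuadNd
open Cfsg.Agent.Classical.IsoInvariant.FreeSplit (AllFix)

variable {F : Type*} [Field F] [Fintype F] {ι : Type} [Fintype ι] [DecidableEq ι]
  {Q : QuadraticForm F (ι → F)}

theorem plus_iff_sq (h2 : (2 : F) ≠ 0) {W : Submodule F (ι → F)} (hW : NdOn (pB Q) W) {a : ℕ}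
    (hWd : finrank F W = 2 * a) {δ : F} (hδ : δ ≠ 0) (hD : HasDisc (pB Q) W (δ * δ)) :
    QPlus Q W ↔ IsSquare ((-1 : F) ^ a) := by
  rw [QPlus, EvenDim.type_iff h2, plus_iff h2 (pB_symm Q) hW hD hWd]
  exact ⟨fun ⟨s, hs⟩ => ⟨s / δ, by rw [div_mul_div_comm, ← hs, mul_div_assoc, div_self (mul_ne_zero hδ hδ), mul_one]⟩,
    fun ⟨s, hs⟩ => ⟨s * δ, by rw [hs]; ring⟩⟩

/-- order two, odd characteristic -/
theorem allFix_two (hQ : (QuadraticMap.polarBilin Q).Nondegenerate) (h2 : (2 : F) ≠ 0) {d a : ℕ}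
    (hcard : Fintype.card ι = 2 * d) (ha : 1 ≤ a) (had : a < d) (ε : Prop) :
    AllFix Q (2 * a) ε 2 ↔
      (¬ ∃ g : Cfsg.isometryGroup F ⇑Q, g ∈ Cfsg.Omega F ⇑Q ∧ ∀ v, act g (act g v) = -v) ∨
        (ε ↔ IsSquare ((-1 : F) ^ a)) := by
  have : Nonempty ι := Fintype.card_pos_iff.1 (by omega)
  have hS := pB_symm Q
  constructor
  · intro H
    by_contra hcon
    push Not at hcon
    obtain ⟨⟨g, hg, hgg⟩, hne⟩ := hcon
    obtain ⟨W, ⟨hWd, hW, hWt⟩, hWi⟩ := H (g : GL ι F) ⟨g, hg, rfl⟩ ⟨-1, by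
        refine Matrix.toLin'.injective (LinearMap.ext fun v => ?_)
        rw [sq, Units.val_mul, Matrix.toLin'_mul, LinearMap.comp_apply, map_smul, Matrix.toLin'_one,
          LinearMap.smul_apply, LinearMap.id_apply, neg_one_smul]
        exact hgg v⟩ fun z hz => by
        have hgz : ∀ v, act g v = z • v := fun v => by
          rw [act_apply, hz, Matrix.smul_mulVec, Matrix.one_mulVec]
        have h1 := QuadNd.scalar_sq hQ (act_map g) hgz
        obtain ⟨i⟩ : Nonempty ι := inferInstance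
        have h3 := congrFun (hgg (Pi.single i 1)) i
        rw [hgz, hgz, smul_smul, h1] at h3
        simp at h3
        exact h2 (by linear_combination h3)
    obtain ⟨k, v, hk, -, hvv, hvg, hvo, hspan⟩ := FourthRoot.exists_planes hS h2 (g := act g)
      (fun u w => act_polar g u w) hgg _ le_rfl hW hWi
    obtain rfl : k = a := by omega
    have hD := FourthRoot.hasDisc_planes hS (g := act g) (fun u w => act_polar g u w) hvv hvg hvo hspan
    have h4 := plus_iff_sq h2 hW hWd (Finset.prod_ne_zero_iff.2 fun a _ => hvv a) hD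
    rw [hWt] at h4
    rcases hne with ⟨h5, h6⟩ | ⟨h5, h6⟩
    · exact h6 (h4.1 h5)
    · exact h5 (h4.2 h6)
  · intro hor x hx hx2 hxs
    obtain ⟨z, hz⟩ := hx2
    obtain ⟨g, hg, rfl⟩ := hx
    have hgg : ∀ v, act g (act g v) = z • v := fun v => by
      rw [act_apply, act_apply, Matrix.mulVec_mulVec, ← Units.val_mul, ← sq]
      simp only [Subgroup.coe_subtype] at hz
      rw [hz, Matrix.smul_mulVec, Matrix.one_mulVec]
    have hzz := QuadNd.scalar_sq hQ (g := act g ∘ₗ act g) (fun v => by rw [LinearMap.comp_apply, act_map, act_map])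
      (fun v => hgg v)
    rcases mul_self_eq_one_iff.1 hzz with rfl | rfl
    · simp only [one_smul] at hgg
      obtain ⟨W, hWd, hW, hWt, hWi⟩ := NdPieces.exists_invariant_two (m := 2 * a) (B := pB Q) (g := act g) hQ hS h2
        (fun u w => act_polar g u w) (LinearMap.ext fun v => hgg v) ⟨a, two_mul a⟩ (by omega)
        (by rw [Module.finrank_pi, hcard]; omega) (fun h => hxs 1 (by
          refine Matrix.toLin'.injective (LinearMap.ext fun v => ?_)
          rw [one_smul, Matrix.toLin'_one, LinearMap.id_apply]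
          exact LinearMap.congr_fun h v)) ε
      exact ⟨W, ⟨hWd, hW, (EvenDim.type_iff h2 W).trans hWt⟩, hWi⟩
    · have hgg' : ∀ v, act g (act g v) = -v := fun v => by rw [hgg, neg_one_smul]
      have hε : ε ↔ IsSquare ((-1 : F) ^ a) := hor.resolve_left (not_not.2 ⟨g, hg, hgg'⟩)
      obtain ⟨k, v, hk, -, hvv, hvg, hvo, -⟩ := FourthRoot.exists_planes hS h2 (g := act g)
        (fun u w => act_polar g u w) hgg' _ le_rfl (ndOn_top (F := F) (B := pB Q) hQ) le_top
      rw [finrank_top, Module.finrank_pi, hcard] at hk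
      let e : Fin a → Fin k := fun j => ⟨j, by omega⟩
      have he : ∀ j j', j ≠ j' → e j ≠ e j' := fun j j' h h' => h (Fin.ext (by simpa [e] using congrArg Fin.val h'))
      have hvg' : ∀ j j', pB Q (act g (v j)) (v j') = 0 := fun j j' => pB_refl Q _ _ (hvg j' j)
      set u : Fin (a + a) → (ι → F) := Fin.append (fun j => v (e j)) (fun j => act g (v (e j))) with hu
      have huo : ∀ j j', j ≠ j' → pB Q (u j) (u j') = 0 := by
        intro j j'
        refine Fin.addCases (fun j => ?_) (fun j => ?_) j <;> refine Fin.addCases (fun j' => ?_) (fun j' => ?_) j' <;>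
          intro hne <;> simp only [hu, Fin.append_left, Fin.append_right]
        · exact hvo _ _ (he _ _ fun h => hne (by rw [h]))
        · exact hvg _ _
        · exact hvg' _ _
        · exact (act_polar g _ _).trans (hvo _ _ (he _ _ fun h => hne (by rw [h])))
      have hu0 : ∀ j, pB Q (u j) (u j) ≠ 0 := by
        intro j
        refine Fin.addCases (fun j => ?_) (fun j => ?_) j <;> simp only [hu, Fin.append_left, Fin.append_right]
        · exact hvv _
        · exact fun h => hvv (e j) ((act_polar g _ _).symm.trans h)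
      set W := Submodule.span F (Set.range u) with hWdef
      have hWd : finrank F W = 2 * a := by
        rw [hWdef, finrank_span_eq_card (Bases.linearIndependent_of_orth huo hu0), Fintype.card_fin, two_mul]
      have hW : NdOn (pB Q) W := by
        intro x hx hx0
        obtain ⟨s, rfl⟩ := (Submodule.mem_span_range_iff_exists_fun F).1 hx
        obtain ⟨j, hj⟩ : ∃ j, s j ≠ 0 := by
          by_contra hall
          push Not at hall
          exact hx0 (by simp [hall])
        refine ⟨u j, Submodule.subset_span ⟨j, rfl⟩, ?_⟩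
        simp only [map_sum, map_smul, LinearMap.sum_apply, LinearMap.smul_apply, smul_eq_mul]
        rw [Finset.sum_eq_single j (fun j' _ h => by rw [huo j' j h, mul_zero]) (fun h => absurd (Finset.mem_univ j) h)]
        exact mul_ne_zero hj (hu0 j)
      have hD : HasDisc (pB Q) W ((∏ j, pB Q (v (e j)) (v (e j))) * ∏ j, pB Q (v (e j)) (v (e j))) := by
        refine ⟨a + a, u, rfl, huo, hu0, ?_⟩
        rw [Fin.prod_univ_add]
        simp only [hu, Fin.append_left, Fin.append_right]
        congr 1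
        exact Finset.prod_congr rfl fun j _ => act_polar g _ _
      refine ⟨W, ⟨hWd, hW, (plus_iff_sq h2 hW hWd (Finset.prod_ne_zero_iff.2 fun j _ => hvv _) hD).trans hε.symm⟩, ?_⟩
      rw [hWdef, Submodule.map_span, Submodule.span_le]
      rintro _ ⟨_, ⟨j, rfl⟩, rfl⟩
      refine Fin.addCases (fun j => ?_) (fun j => ?_) j <;> simp only [hu, Fin.append_left, Fin.append_right]
      · exact Submodule.subset_span ⟨Fin.natAdd a j, Fin.append_right _ _ j⟩
      · show act g (act g (v (e j))) ∈ W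
        rw [hgg']
        exact neg_mem (Submodule.subset_span ⟨Fin.castAdd a j, Fin.append_left _ _ j⟩)

/-- order two in characteristic two, sufficiency -/
theorem allFix_two_char_two (hQ : (QuadraticMap.polarBilin Q).Nondegenerate) (h2 : (2 : F) = 0) {d a : ℕ}
    (hcard : Fintype.card ι = 2 * d) (ha : 1 ≤ a) (had : a < d) (ε : Prop)
    (hok : (ε ∧ IsPlus Q d ∧ (Even a ∨ Odd d)) ∨ (¬ ε ∧ ¬ IsPlus Q d ∧ (Odd a ∨ Even d))) :
    AllFix Q (2 * a) ε 2 := by
  have : Nonempty ι := Fintype.card_pos_iff.1 (by omega)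
  intro x hx hx2 _
  obtain ⟨z, hz⟩ := hx2
  obtain ⟨g, hg, rfl⟩ := hx
  have hgg : ∀ v, act g (act g v) = z • v := fun v => by
    rw [act_apply, act_apply, Matrix.mulVec_mulVec, ← Units.val_mul, ← sq]
    simp only [Subgroup.coe_subtype] at hz
    rw [hz, Matrix.smul_mulVec, Matrix.one_mulVec]
  have hzz := QuadNd.scalar_sq hQ (g := act g ∘ₗ act g) (fun v => by rw [LinearMap.comp_apply, act_map, act_map])
    (fun v => hgg v)
  have hz1 : z = 1 := by
    rcases mul_self_eq_one_iff.1 hzz with h | h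
    · exact h
    · rw [h]; linear_combination -h2
  simp only [hz1, one_smul] at hgg
  obtain ⟨W, hW, hWd, hWt⟩ := InvolTwo.exists_inv_type hQ (InvolTwo.inv_of_involution h2 (act_map g) hgg) hcard ha had
    ε hok
  refine ⟨W, ⟨hWd, hW.1, hWt⟩, ?_⟩
  rintro _ ⟨v, hv, rfl⟩
  show act g v ∈ W
  rw [show act g v = v + (act g - 1 : (ι → F) →ₗ[F] (ι → F)) v by simp]
  exact add_mem hv (hW.2 ⟨v, hv, rfl⟩)

/-- a derangement in characteristic order -/
theorem not_allFix_char (p : ℕ) [hp : Fact p.Prime] [CharP F p] (hQ : (QuadraticMap.polarBilin Q).Nondegenerate)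
    {d a : ℕ} (hcard : Fintype.card ι = 2 * d) (hd : 3 ≤ d) (ha : 1 ≤ a) (had : a < d) (ε : Prop)
    (hτ : Odd d ∨ IsPlus Q d)
    (hbad : (Even a ∧ ¬ ε) ∨ (Odd a ∧ (Even d ∨ ¬ (ε ↔ IsPlus Q d)))) :
    ¬ AllFix Q (2 * a) ε p := by
  intro H
  obtain ⟨x, hx, hxp, hxs, N, hN, hN2, hts, hrank⟩ := TsInvol.exists_elt p hQ hcard hd
    (h := d / 2) (by omega) (by omega) (hτ.imp (fun h => by obtain ⟨k, rfl⟩ := h; omega) id)
  obtain ⟨W, ⟨hWd, hW, hWt⟩, hWi⟩ := H x ⟨x, hx, rfl⟩
    ⟨1, by rw [← SubmonoidClass.coe_pow, hxp, OneMemClass.coe_one, Units.val_one, one_smul]⟩ hxs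
  have hQf : ∀ v, Q (v + N v) = Q v := fun v => by rw [← hN, act_map]
  have hWN : W.map N ≤ W := by
    rintro _ ⟨v, hv, rfl⟩
    rw [show N v = act x v - v by rw [hN, add_sub_cancel_left]]
    exact sub_mem (hWi ⟨v, hv, rfl⟩) hv
  obtain ⟨h1, h3⟩ := TsInvol.type_of_rank hQ hQf hts hN2 hcard (by omega) hWd hW hWN
  rcases hbad with ⟨he, hε⟩ | ⟨ho, hb⟩
  · exact hε (hWt.1 (h1 he))
  · obtain ⟨hdo, h4⟩ := h3 ho
    rcases hb with h | h
    · exact Nat.not_odd_iff_even.2 h hdo
    · exact h (hWt.symm.trans h4)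

end Cfsg.Agent.Classical.IsoInvariant.EvenTypeTwo
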