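import Mathlib

/-!
# Arithmetic of subspaces of a given type fixed by elements of odd prime order
-/

set_option autoImplicit false

namespace Cfsg.Agent.Classical.IsoInvariant.FreeArith

/-- an element with `f` fixed dimensions and `A` moved blocks fixes one -/
abbrev Fixes (τ ε : Prop) (i c m f A : ℕ) : Prop :=
  ∃ j l, j ≤ A ∧ l + c * j = m ∧ l ≤ f ∧ (l = 0 → (ε ↔ (Odd i ∨ Even j))) ∧
    (l = f → (τ ↔ (ε ↔ (Odd i ∨ Even (A - j)))))

variable {i c d m : ℕ}

/-- the elements that matter -/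
theorem criterion (τ ε : Prop) (hm : 0 < m) (hm2 : m < 2 * d) (hc2 : c ≤ 2 * d) (hc : 0 < c) :
    (∀ f A, f + c * A = 2 * d → 0 < A → (f = 0 → (τ ↔ Odd i ∨ Even A)) → Fixes τ ε i c m f A) ↔
      ((((2 * d) % c = 0 → (τ ↔ Odd i ∨ Even ((2 * d) / c))) →
          m % c ≤ (2 * d) % c ∧ (m % c = 0 → (ε ↔ Odd i ∨ Even (m / c))) ∧
            (m % c = (2 * d) % c → (τ ↔ (ε ↔ (Odd i ∨ Even ((2 * d) / c - m / c)))))) ∧
        ((2 * d) % c = 0 → m % c = 0 →
          (ε ↔ Odd i ∨ Even (m / c)) ∨ (τ ↔ (ε ↔ (Odd i ∨ Even ((2 * d) / c - m / c)))))) := by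
  obtain ⟨N, k, hN, hk, hkc⟩ : ∃ N k, N = (2 * d) / c ∧ k = (2 * d) % c ∧ k < c :=
    ⟨_, _, rfl, rfl, Nat.mod_lt _ hc⟩
  obtain ⟨M, l₀, hM, hl, hlc⟩ : ∃ M l₀, M = m / c ∧ l₀ = m % c ∧ l₀ < c := ⟨_, _, rfl, rfl, Nat.mod_lt _ hc⟩
  rw [← hN, ← hk, ← hM, ← hl]
  have hNk : c * N + k = 2 * d := by rw [hN, hk]; exact Nat.div_add_mod _ _
  have hMl : c * M + l₀ = m := by rw [hM, hl]; exact Nat.div_add_mod _ _
  have hN1 : 1 ≤ N := hN ▸ (Nat.one_le_div_iff hc).2 hc2
  have hMN : M ≤ N := by rw [hM, hN]; exact Nat.div_le_div_right hm2.le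
  have huniq : ∀ j l, l + c * j = m → l < c → j = M ∧ l = l₀ := fun j l h hlt => by
    rw [hM, hl, ← h]
    exact ⟨by rw [Nat.add_mul_div_left _ _ hc, Nat.div_eq_of_lt hlt, zero_add],
      by rw [Nat.add_mul_mod_self_left, Nat.mod_eq_of_lt hlt]⟩
  constructor
  · intro H
    refine ⟨fun h0 => ?_, fun h0 hl0 => ?_⟩
    · obtain ⟨j, l, -, hjl, hlk, h1, h2⟩ := H k N (by omega) hN1 h0
      obtain ⟨rfl, rfl⟩ := huniq j l hjl (by omega)
      exact ⟨hlk, h1, h2⟩
    · have hM1 : 1 ≤ M := Nat.one_le_iff_ne_zero.2 fun e => by rw [e, mul_zero] at hMl; omega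
      have hlt : M < N := by
        refine lt_of_le_of_ne hMN fun e => ?_
        rw [e] at hMl; omega
      obtain ⟨N', rfl⟩ : ∃ N', N = N' + 1 := ⟨N - 1, by omega⟩
      rw [Nat.mul_succ] at hNk
      obtain ⟨j, l, hjA, hjl, hlk, h1, h2⟩ := H c N' (by omega) (by omega) fun e => absurd e hc.ne'
      rcases Nat.lt_or_ge l c with hlt' | hge
      · obtain ⟨rfl, rfl⟩ := huniq j l hjl hlt'
        exact Or.inl (h1 hl0)
      · obtain rfl : l = c := le_antisymm hlk hge
        obtain ⟨rfl, -⟩ : j + 1 = M ∧ 0 = l₀ := huniq (j + 1) 0 (by rw [Nat.mul_succ]; omega) hc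
        exact Or.inr (by rw [Nat.add_sub_add_right]; exact h2 rfl)
  · rintro ⟨H0, H1⟩ f A hfA hA hf0
    obtain ⟨u, hu, hfu⟩ : ∃ u, A + u = N ∧ f = k + c * u := by
      have hAN : A ≤ N := by
        rw [hN, Nat.le_div_iff_mul_le hc, mul_comm]; omega
      obtain ⟨u, hu⟩ := Nat.exists_eq_add_of_le hAN
      refine ⟨u, hu.symm, ?_⟩
      rw [hu, mul_add] at hNk
      omega
    rcases Nat.eq_zero_or_pos u with h0 | h0
    · subst h0
      rw [mul_zero, add_zero] at hfu
      rw [add_zero] at hu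
      subst hu hfu
      obtain ⟨h1, h2, h3⟩ := H0 hf0
      exact ⟨M, l₀, hMN, by omega, h1, h2, h3⟩
    have hcu : c ≤ c * u := Nat.le_mul_of_pos_right c h0
    rcases Nat.lt_or_ge A M with hAM | hAM
    · have h1 : c * (A + 1) ≤ c * M := Nat.mul_le_mul_left c hAM
      rw [Nat.mul_succ] at h1
      exact ⟨A, m - c * A, le_rfl, by omega, by omega, fun h => absurd h (by omega), fun h => absurd h (by omega)⟩
    by_cases hgood : l₀ = 0 → (ε ↔ Odd i ∨ Even M)
    · exact ⟨M, l₀, hAM, by omega, by omega, hgood, fun h => absurd h (by omega)⟩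
    have hl0 : l₀ = 0 := by
      by_contra h
      exact hgood fun e => absurd e h
    obtain ⟨M', rfl⟩ : ∃ M', M = M' + 1 :=
      ⟨M - 1, by have : M ≠ 0 := fun e => by rw [e, mul_zero] at hMl; omega
                 omega⟩
    rw [Nat.mul_succ] at hMl
    refine ⟨M', c, by omega, by omega, by omega, fun h => absurd h hc.ne', fun h => ?_⟩
    have hu1 : u = 1 := by
      by_contra h'
      have : c * 2 ≤ c * u := Nat.mul_le_mul_left c (by omega)
      omega
    rw [hu1, mul_one] at hfu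
    rw [show A - M' = N - (M' + 1) by omega]
    exact (H1 (by omega) hl0).resolve_left fun h' => hgood fun _ => h'

/-- the moved dimension fits, and short subspaces see little of the fixed space -/
theorem bounds (hc : c = if Even i then i else 2 * i) (hc0 : 0 < c) {τ ε : Prop} {a e : ℕ} (hae : a + e = d)
    (hm : m = 2 * a) (ha : 1 ≤ a) (he : 1 ≤ e)
    (hidx : i ∣ 2 * d ∨ (∃ b, e < b ∧ b < d ∧ i ∣ 2 * b) ∨ (i ∣ 2 * e ∧ (i ∣ e ↔ ¬ (τ ↔ ε)))) :
    c ≤ 2 * d ∧ (m < c → (2 * d) % c < m ∨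
      ((2 * d) % c = m ∧ ((Odd i ∨ Even ((2 * d) / c)) ↔ ¬ (τ ↔ ε)))) := by
  have hcd : ∀ x, i ∣ 2 * x → c ∣ 2 * x := fun x hx => by
    rw [hc]; split_ifs with h
    · exact hx
    · exact Nat.mul_dvd_mul_left 2 ((Nat.coprime_two_right.2 (Nat.not_even_iff_odd.1 h)).dvd_of_dvd_mul_left hx)
  rcases hidx with h | ⟨b, hb, hbd, h⟩ | ⟨h, hiff⟩
  · have h1 := Nat.mod_eq_zero_of_dvd (hcd d h)
    exact ⟨Nat.le_of_dvd (by omega) (hcd d h), fun _ => by omega⟩
  · obtain ⟨u, hu⟩ := hcd b h
    refine ⟨(Nat.le_of_dvd (by omega) (hcd b h)).trans (by omega), fun hlt => ?_⟩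
    have h2 : 2 * d - c * u < c := by
      clear hcd h hc
      omega
    have h1 : (2 * d) % c = 2 * d - c * u := by
      rw [show 2 * d = (2 * d - c * u) + c * u by omega, Nat.add_mul_mod_self_left,
        Nat.mod_eq_of_lt h2]
      omega
    omega
  · obtain ⟨u, hu⟩ := hcd e h
    refine ⟨(Nat.le_of_dvd (by omega) (hcd e h)).trans (by omega), fun hlt => Or.inr ?_⟩
    have h0 : 2 * d = m + c * u := by omega
    refine ⟨by rw [h0, Nat.add_mul_mod_self_left, Nat.mod_eq_of_lt hlt], ?_⟩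
    rw [h0, Nat.add_mul_div_left _ _ hc0, Nat.div_eq_of_lt hlt, zero_add, ← hiff]
    rcases Nat.even_or_odd i with hev | hodd
    · rw [if_pos hev] at hc
      subst hc
      simp only [Nat.not_odd_iff_even.2 hev, false_or]
      constructor
      · rintro ⟨w, rfl⟩
        exact ⟨w, by rw [mul_add] at hu; omega⟩
      · rintro ⟨w, rfl⟩
        exact ⟨w, Nat.eq_of_mul_eq_mul_left hc0 (by rw [← hu, mul_add, two_mul])⟩
    · exact iff_of_true (Or.inl hodd) ((Nat.coprime_two_right.2 hodd).dvd_of_dvd_mul_left h)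

theorem div_data (he : Even i) (hc : c = if Even i then i else 2 * i) (hc0 : 0 < c) (hm2 : m < 2 * d) :
    c = i ∧ ((2 * d) + m - 2 * ((2 * d) % c)) / i = (2 * d) / c + m / c ∨ m % c ≠ (2 * d) % c := by
  rw [if_pos he] at hc
  subst hc
  by_cases h : m % c = (2 * d) % c
  · refine Or.inl ⟨rfl, ?_⟩
    have h1 := Nat.div_add_mod (2 * d) c
    have h3 := Nat.div_add_mod m c
    rw [show 2 * d + m - 2 * ((2 * d) % c) = c * ((2 * d) / c + m / c) by rw [mul_add]; omega,
      Nat.mul_div_cancel_left _ hc0]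
  · exact Or.inr h

variable {a e : ℕ}

/-- plus space, elliptic subspaces -/
theorem plus_minus (hi0 : 0 < i) (hc : c = if Even i then i else 2 * i) (hae : a + e = d) (ha : 1 ≤ a) (he : 1 ≤ e)
    (hm : m = 2 * a)
    (hidx : i ∣ 2 * d ∨ (∃ b, e < b ∧ b < d ∧ i ∣ 2 * b) ∨ (i ∣ 2 * e ∧ (i ∣ e ↔ ¬ (True ↔ False)))) :
    (∀ f A, f + c * A = 2 * d → 0 < A → (f = 0 → (True ↔ Odd i ∨ Even A)) → Fixes True False i c m f A) ↔
      ((Odd i ∧ c ≤ m ∧ 0 < m % c ∧ m % c < (2 * d) % c) ∨
       (Even i ∧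
         (((2 * d) % c = 0 ∧ (Odd ((2 * d) / i) ∨ (m % c = 0 ∧ Odd (m / i)))) ∨
          (i ≤ m ∧ ((0 < m % c ∧ m % c < (2 * d) % c) ∨
                    (0 < m % c ∧ m % c = (2 * d) % c ∧ Odd ((2 * d + m - 2 * ((2 * d) % c)) / i)) ∨
                    (m % c = 0 ∧ 0 < (2 * d) % c ∧ Odd (m / i))))))) := by
  have hc0 : 0 < c := by rw [hc]; split_ifs <;> omega
  obtain ⟨hc2, hsmall⟩ := bounds hc hc0 hae hm ha he hidx
  clear hidx
  rw [criterion True False (by omega) (by omega) hc2 hc0]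
  have hMN : m / c ≤ (2 * d) / c := Nat.div_le_div_right (by omega)
  have hlt : c ≤ m ∨ (m % c = m ∧ m / c = 0) :=
    (le_or_gt c m).imp id fun h => ⟨Nat.mod_eq_of_lt h, Nat.div_eq_of_lt h⟩
  rcases Nat.even_or_odd i with hev | hodd
  · simp only [Nat.not_odd_iff_even.2 hev, hev, false_or, true_and, false_and, iff_false, false_iff, true_iff,
      not_true, iff_true] at hsmall ⊢
    rcases div_data hev hc hc0 (show m < 2 * d by omega) with ⟨hci, hd'⟩ | hd'
    · rw [hd', ← hci]
      simp only [Nat.even_iff, Nat.odd_iff, imp_iff_not_or, not_false_eq_true, not_true_eq_false, and_true, true_and, and_false, false_and, or_true, true_or, or_false,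
        false_or, iff_true, true_iff, iff_false, false_iff, not_not] at hsmall ⊢
      omega
    · rw [if_pos hev] at hc
      subst hc
      simp only [Nat.even_iff, Nat.odd_iff, imp_iff_not_or, not_false_eq_true, not_true_eq_false, and_true, true_and, and_false, false_and, or_true, true_or, or_false,
        false_or, iff_true, true_iff, iff_false, false_iff, not_not] at hsmall ⊢
      omega
  · simp only [hodd, Nat.not_even_iff_odd.2 hodd, true_or, true_and, false_and, or_false, iff_false, false_iff,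
      true_iff, not_true, iff_true] at hsmall ⊢
    simp only [imp_iff_not_or, not_false_eq_true, not_true_eq_false, and_true, true_and, and_false, false_and, or_true, true_or, or_false,
        false_or, iff_true, true_iff, iff_false, false_iff, not_not] at hsmall ⊢
    rw [if_neg (Nat.not_even_iff_odd.2 hodd)] at hc
    omega

/-- plus space, hyperbolic subspaces -/
theorem plus_plus (hi0 : 0 < i) (hc : c = if Even i then i else 2 * i) (hae : a + e = d) (ha : 1 ≤ a) (he : 1 ≤ e)
    (hm : m = 2 * a)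
    (hidx : i ∣ 2 * d ∨ (∃ b, e < b ∧ b < d ∧ i ∣ 2 * b) ∨ (i ∣ 2 * e ∧ (i ∣ e ↔ ¬ (True ↔ True)))) :
    (∀ f A, f + c * A = 2 * d → 0 < A → (f = 0 → (True ↔ Odd i ∨ Even A)) → Fixes True True i c m f A) ↔
      ((Odd i ∧ c ≤ m ∧ m % c ≤ (2 * d) % c) ∨
       (Even i ∧
         (((2 * d) % c = 0 ∧ (Odd ((2 * d) / i) ∨ (m % c = 0 ∧ Even (m / i)))) ∨
          (i ≤ m ∧ ((m % c < (2 * d) % c ∧ 0 < m % c) ∨
                    ((2 * d) % c = m % c ∧ 0 < m % c ∧ Even ((2 * d + m - 2 * ((2 * d) % c)) / i)) ∨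
                    (0 < (2 * d) % c ∧ m % c = 0 ∧ Even (m / i))))))) := by
  have hc0 : 0 < c := by rw [hc]; split_ifs <;> omega
  obtain ⟨hc2, hsmall⟩ := bounds hc hc0 hae hm ha he hidx
  clear hidx
  rw [criterion True True (by omega) (by omega) hc2 hc0]
  have hMN : m / c ≤ (2 * d) / c := Nat.div_le_div_right (by omega)
  have hlt : c ≤ m ∨ (m % c = m ∧ m / c = 0) :=
    (le_or_gt c m).imp id fun h => ⟨Nat.mod_eq_of_lt h, Nat.div_eq_of_lt h⟩
  rcases Nat.even_or_odd i with hev | hodd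
  · simp only [Nat.not_odd_iff_even.2 hev, hev, false_or, true_and, false_and, true_iff,
      not_true, iff_true, iff_false] at hsmall ⊢
    rcases div_data hev hc hc0 (show m < 2 * d by omega) with ⟨hci, hd'⟩ | hd'
    · rw [hd', ← hci]
      simp only [Nat.even_iff, Nat.odd_iff, imp_iff_not_or, not_false_eq_true, not_true_eq_false, and_true, true_and, and_false, false_and, or_true, true_or, or_false,
        false_or, iff_true, true_iff, iff_false, false_iff, not_not] at hsmall ⊢
      omega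
    · rw [if_pos hev] at hc
      subst hc
      simp only [Nat.even_iff, Nat.odd_iff, imp_iff_not_or, not_false_eq_true, not_true_eq_false, and_true, true_and, and_false, false_and, or_true, true_or, or_false,
        false_or, iff_true, true_iff, iff_false, false_iff, not_not] at hsmall ⊢
      omega
  · simp only [hodd, Nat.not_even_iff_odd.2 hodd, true_or, true_and, false_and, or_false,
      true_iff, not_true, iff_true, iff_false] at hsmall ⊢
    simp only [imp_iff_not_or, not_false_eq_true, not_true_eq_false, and_true, true_and, and_false, false_and, or_true, true_or, or_false,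
        false_or, iff_true, true_iff, iff_false, false_iff, not_not] at hsmall ⊢
    rw [if_neg (Nat.not_even_iff_odd.2 hodd)] at hc
    omega

/-- minus space, elliptic subspaces -/
theorem minus_minus (hi0 : 0 < i) (hc : c = if Even i then i else 2 * i) (hae : a + e = d) (ha : 1 ≤ a) (he : 1 ≤ e)
    (hm : m = 2 * a)
    (hidx : i ∣ 2 * d ∨ (∃ b, e < b ∧ b < d ∧ i ∣ 2 * b) ∨ (i ∣ 2 * e ∧ (i ∣ e ↔ ¬ (False ↔ False)))) :
    (∀ f A, f + c * A = 2 * d → 0 < A → (f = 0 → (False ↔ Odd i ∨ Even A)) → Fixes False False i c m f A) ↔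
      ((Odd i ∧ ((2 * d) % c = 0 ∨ (c ≤ m ∧ 0 < m % c ∧ m % c ≤ (2 * d) % c))) ∨
       (Even i ∧
         (((2 * d) % c = 0 ∧ (Even ((2 * d) / i) ∨ (m % c = 0 ∧ Odd (m / i)))) ∨
          (0 < (2 * d) % c ∧ i ≤ m ∧ ((0 < m % c ∧ m % c < (2 * d) % c) ∨ (m % c = 0 ∧ Odd (m / i)) ∨
                                      (m % c = (2 * d) % c ∧ Even ((2 * d + m - 2 * ((2 * d) % c)) / i))))))) := by
  have hc0 : 0 < c := by rw [hc]; split_ifs <;> omega
  obtain ⟨hc2, hsmall⟩ := bounds hc hc0 hae hm ha he hidx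
  clear hidx
  rw [criterion False False (by omega) (by omega) hc2 hc0]
  have hMN : m / c ≤ (2 * d) / c := Nat.div_le_div_right (by omega)
  have hlt : c ≤ m ∨ (m % c = m ∧ m / c = 0) :=
    (le_or_gt c m).imp id fun h => ⟨Nat.mod_eq_of_lt h, Nat.div_eq_of_lt h⟩
  rcases Nat.even_or_odd i with hev | hodd
  · simp only [Nat.not_odd_iff_even.2 hev, hev, false_or, true_and, false_and, iff_false, false_iff,
      not_true, iff_true, not_not] at hsmall ⊢
    rcases div_data hev hc hc0 (show m < 2 * d by omega) with ⟨hci, hd'⟩ | hd'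
    · rw [hd', ← hci]
      simp only [Nat.even_iff, Nat.odd_iff, imp_iff_not_or, not_false_eq_true, not_true_eq_false, and_true, true_and, and_false, false_and, or_true, true_or, or_false,
        false_or, iff_true, true_iff, iff_false, false_iff, not_not] at hsmall ⊢
      omega
    · rw [if_pos hev] at hc
      subst hc
      simp only [Nat.even_iff, Nat.odd_iff, imp_iff_not_or, not_false_eq_true, not_true_eq_false, and_true, true_and, and_false, false_and, or_true, true_or, or_false,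
        false_or, iff_true, true_iff, iff_false, false_iff, not_not] at hsmall ⊢
      omega
  · simp only [hodd, Nat.not_even_iff_odd.2 hodd, true_or, true_and, false_and, or_false, iff_false,
      false_iff, not_true, iff_true, not_not] at hsmall ⊢
    simp only [imp_iff_not_or, not_false_eq_true, not_true_eq_false, and_true, true_and, and_false, false_and, or_true, true_or, or_false,
        false_or, iff_true, true_iff, iff_false, false_iff, not_not] at hsmall ⊢
    rw [if_neg (Nat.not_even_iff_odd.2 hodd)] at hc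
    omega

end Cfsg.Agent.Classical.IsoInvariant.FreeArith
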