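import Mathlib

/-!
# Multisets invariant under an involution of a finite set, and the arithmetic of their pairs
-/

set_option autoImplicit false

namespace Cfsg.Agent.Classical.IsoInvariant.Herm

variable {α : Type*} {σ : α → α} {P : Finset α} {sd : Prop}

/-- `σ` is an involution of `P`, fixing every point if `sd` and no point otherwise -/
structure Invol (σ : α → α) (P : Finset α) (sd : Prop) : Prop where
  mem : ∀ x ∈ P, σ x ∈ P
  inv : ∀ x ∈ P, σ (σ x) = x
  fix : sd → ∀ x ∈ P, σ x = x
  free : ¬ sd → ∀ x ∈ P, σ x ≠ x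

open _root_.Classical in
/-- the pairs present in every invariant multiset of `a` points -/
noncomputable def pr (sd : Prop) (t a : ℕ) : ℕ := if sd then (a + 1 - t) / 2 else a / 2

theorem Invol.exists_pairs (h : Invol σ P sd) :
    ∀ (j : ℕ) {S : Multiset α}, (∀ x ∈ S, x ∈ P) → S.map σ = S → j ≤ pr sd P.card (Multiset.card S) →
      ∃ b u, S = b + b.map σ + u ∧ Multiset.card b = j ∧ u.map σ = u := by
  classical
  intro j
  induction j with
  | zero => exact fun {S} _ hinv _ => ⟨0, S, by simp, rfl, hinv⟩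
  | succ j ih =>
    intro S hS hinv hj
    obtain ⟨p, hp, T, hST⟩ : ∃ p, p ∈ P ∧ ∃ T, S = p ::ₘ σ p ::ₘ T := by
      by_cases hsd : sd
      · rw [pr, if_pos hsd] at hj
        obtain ⟨p, hp, hp2⟩ : ∃ p ∈ S, 2 ≤ S.count p := by
          by_contra hcon
          push Not at hcon
          have hn : S.Nodup := Multiset.nodup_iff_count_le_one.2 fun x => by
            by_cases hx : x ∈ S
            · exact Nat.lt_succ_iff.1 (hcon x hx)
            · rw [Multiset.count_eq_zero.2 hx]; omega
          have := Finset.card_le_card (show (⟨S, hn⟩ : Finset α) ⊆ P from fun x hx => hS x hx)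
          rw [Finset.card_mk] at this
          omega
        obtain ⟨T, hT⟩ := Multiset.le_iff_exists_add.1 (Multiset.le_count_iff_replicate_le.1 hp2)
        exact ⟨p, hS p hp, T, by rw [h.fix hsd p (hS p hp), hT]; simp [Multiset.replicate_succ]⟩
      · rw [pr, if_neg hsd] at hj
        obtain ⟨p, hp⟩ : ∃ p, p ∈ S := Multiset.exists_mem_of_ne_zero fun e => by
          rw [e, Multiset.card_zero] at hj; omega
        have hne : σ p ≠ p := h.free hsd p (hS p hp)
        have hs' : σ p ∈ S := by rw [← hinv]; exact Multiset.mem_map_of_mem _ hp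
        obtain ⟨T, rfl⟩ := Multiset.exists_cons_of_mem hp
        obtain ⟨T', rfl⟩ := Multiset.exists_cons_of_mem ((Multiset.mem_cons.1 hs').resolve_left hne)
        exact ⟨p, hS p hp, T', rfl⟩
    subst hST
    rw [Multiset.map_cons, Multiset.map_cons, h.inv p hp, Multiset.cons_swap, Multiset.cons_inj_right,
      Multiset.cons_inj_right] at hinv
    obtain ⟨b, u, rfl, hb, hu⟩ := ih (fun x hx => hS x (Multiset.mem_cons_of_mem (Multiset.mem_cons_of_mem hx)))
      hinv (by
        simp only [pr, Multiset.card_cons] at hj ⊢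
        split_ifs with hsd <;> simp only [hsd, if_true, if_false] at hj <;> omega)
    refine ⟨p ::ₘ b, u, ?_, by rw [Multiset.card_cons, hb], hu⟩
    simp [Multiset.map_cons, Multiset.cons_add, Multiset.add_cons]
    rw [Multiset.cons_swap]

theorem Invol.even_card (h : Invol σ P sd) (hsd : ¬ sd) {S : Multiset α} (hS : ∀ x ∈ S, x ∈ P)
    (hinv : S.map σ = S) : Even (Multiset.card S) := by
  classical
  obtain ⟨b, u, hSbu, hb, hu⟩ := h.exists_pairs (Multiset.card S / 2) hS hinv (by rw [pr, if_neg hsd])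
  have hc : Multiset.card S = Multiset.card b + Multiset.card b + Multiset.card u := by
    rw [hSbu, Multiset.card_add, Multiset.card_add, Multiset.card_map]
  by_contra hodd
  rw [Nat.even_iff] at hodd
  obtain ⟨x, rfl⟩ := Multiset.card_eq_one.1 (show Multiset.card u = 1 by omega)
  refine h.free hsd x (hS x (hSbu ▸ Multiset.mem_add.2 (Or.inr (Multiset.mem_singleton_self x)))) ?_
  rw [Multiset.map_singleton, Multiset.singleton_inj] at hu
  exact hu

open _root_.Classical in
/-- invariant sub-multisets of every possible size -/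
theorem Invol.exists_sub (h : Invol σ P sd) {S : Multiset α} (hS : ∀ x ∈ S, x ∈ P) (hinv : S.map σ = S) {e : ℕ}
    (he : e ≤ Multiset.card S) (hev : ¬ sd → Even e) : ∃ T ≤ S, T.map σ = T ∧ Multiset.card T = e := by
  by_cases hsd : sd
  · obtain ⟨T, hT⟩ : ∃ T, T ≤ S ∧ Multiset.card T = e := by
      induction S using Multiset.induction generalizing e with
      | empty => exact ⟨0, le_rfl, by simp at he ⊢; omega⟩
      | cons a S ih =>
        rw [Multiset.card_cons] at he
        rcases Nat.lt_or_ge (Multiset.card S) e with hlt | hge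
        · exact ⟨a ::ₘ S, le_rfl, by rw [Multiset.card_cons]; omega⟩
        · obtain ⟨T, hT, hTc⟩ := ih (fun x hx => hS x (Multiset.mem_cons_of_mem hx)) (by
            conv_rhs => rw [← Multiset.map_id' S]
            exact Multiset.map_congr rfl fun x hx => h.fix hsd x (hS x (Multiset.mem_cons_of_mem hx))) hge
            (fun hn => absurd hsd hn)
          exact ⟨T, hT.trans (Multiset.le_cons_self _ _), hTc⟩
    refine ⟨T, hT.1, ?_, hT.2⟩
    conv_rhs => rw [← Multiset.map_id' T]
    exact Multiset.map_congr rfl fun x hx => h.fix hsd x (hS x (Multiset.mem_of_le hT.1 hx))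
  · obtain ⟨j, rfl⟩ := (hev hsd).two_dvd
    obtain ⟨b, u, hSbu, hb, -⟩ := h.exists_pairs j hS hinv (by rw [pr, if_neg hsd]; omega)
    have hbP : ∀ x ∈ b, x ∈ P := fun x hx =>
      hS x (hSbu ▸ Multiset.mem_add.2 (Or.inl (Multiset.mem_add.2 (Or.inl hx))))
    refine ⟨b + b.map σ, hSbu ▸ Multiset.le_add_right _ _, ?_, by simp [hb, two_mul]⟩
    rw [Multiset.map_add, Multiset.map_map, add_comm]
    congr 1
    conv_rhs => rw [← Multiset.map_id' b]
    exact Multiset.map_congr rfl fun x hx => h.inv x (hbP x hx)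

/-- a multiset with as few pairs as possible -/
theorem Invol.exists_test (h : Invol σ P sd) (hP : P.Nonempty) {a : ℕ} (hev : ¬ sd → Even a) :
    ∃ S : Multiset α, (∀ x ∈ S, x ∈ P) ∧ S.map σ = S ∧ Multiset.card S = a ∧
      ∀ b, b + b.map σ ≤ S → Multiset.card b ≤ pr sd P.card a := by
  classical
  obtain ⟨p₀, hp₀⟩ := hP
  by_cases hsd : sd
  · rcases Nat.eq_zero_or_pos a with rfl | ha
    · refine ⟨0, by simp, rfl, rfl, fun b hb => ?_⟩
      have := Multiset.card_le_card hb
      simp at this
      simp [this]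
    obtain ⟨T, hT0, hTP, hTc⟩ := Finset.exists_subsuperset_card_eq
      (Finset.singleton_subset_iff.2 hp₀) (n := min a P.card)
      (by have := Finset.card_pos.2 ⟨p₀, hp₀⟩; rw [Finset.card_singleton]; omega) (min_le_right _ _)
    have hS : ∀ x ∈ T.val + Multiset.replicate (a - P.card) p₀, x ∈ P := fun x hx => by
      rcases Multiset.mem_add.1 hx with hx | hx
      · exact hTP hx
      · rw [Multiset.eq_of_mem_replicate hx]; exact hp₀
    refine ⟨_, hS, by rw [Multiset.map_congr rfl fun x hx => h.fix hsd x (hS x hx), Multiset.map_id'],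
      by rw [Multiset.card_add, Multiset.card_replicate, Finset.card_val, hTc]; omega, fun b hle => ?_⟩
    rw [pr, if_pos hsd]
    have hb : ∀ x ∈ b, x ∈ P := fun x hx => hS x (Multiset.mem_of_le hle (Multiset.mem_add.2 (Or.inl hx)))
    rw [Multiset.map_congr rfl fun x hx => h.fix hsd x (hb x hx), Multiset.map_id'] at hle
    have hb0 : ∀ x ∈ b, x = p₀ := fun x hx => by
      by_contra hne
      have h1 := Multiset.le_iff_count.1 hle x
      simp only [Multiset.count_add] at h1
      have h4 : ¬ p₀ = x := fun e => hne e.symm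
      rw [Multiset.count_replicate, if_neg h4] at h1
      have h2 := Multiset.count_pos.2 hx
      have h3 := Multiset.nodup_iff_count_le_one.1 T.nodup x
      omega
    have h1 := Multiset.le_iff_count.1 hle p₀
    rw [Multiset.count_add, Multiset.count_add, Multiset.count_replicate_self,
      Multiset.count_eq_card.2 (fun x hx => (hb0 x hx).symm)] at h1
    have h3 := Multiset.nodup_iff_count_le_one.1 T.nodup p₀
    rcases Nat.lt_or_ge a P.card with hlt | hge <;> omega
  · obtain ⟨a, rfl⟩ := (hev hsd).two_dvd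
    refine ⟨Multiset.replicate a p₀ + Multiset.replicate a (σ p₀), fun x hx => ?_, ?_, ?_, fun b hle => ?_⟩
    · rcases Multiset.mem_add.1 hx with hx | hx <;> rw [Multiset.eq_of_mem_replicate hx]
      exacts [hp₀, h.mem p₀ hp₀]
    · rw [Multiset.map_add, Multiset.map_replicate, Multiset.map_replicate, h.inv p₀ hp₀, add_comm]
    · rw [Multiset.card_add, Multiset.card_replicate, Multiset.card_replicate, two_mul]
    · have h1 := Multiset.card_le_card hle
      simp only [Multiset.card_add, Multiset.card_replicate, Multiset.card_map] at h1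
      rw [pr, if_neg hsd]
      omega

/-- the shapes whose elements fix a non-degenerate subspace -/
def AllND (c n m : ℕ) : Prop :=
  ∀ f A, f + c * A = n → 0 < A → ∃ e, e ≤ A ∧ c * e ≤ m ∧ m - c * e ≤ f

theorem allND_iff {c n m : ℕ} (hc : 0 < c) (hmn : m ≤ n) (hcount : ∃ a, n - m < a ∧ a ≤ n ∧ c ∣ a) :
    AllND c n m ↔ c ≤ m ∧ m % c ≤ n % c := by
  obtain ⟨a, ha1, ha2, hca⟩ := hcount
  have hm := Nat.div_add_mod m c
  have hn := Nat.div_add_mod n c
  have hml := Nat.mod_lt m hc
  have hnl := Nat.mod_lt n hc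
  constructor
  · intro H
    have hcm : c ≤ m := by
      by_contra hlt
      obtain ⟨A, rfl⟩ := hca
      obtain ⟨e, -, he, he'⟩ := H (n - c * A) A (by omega) (Nat.pos_of_ne_zero fun h => by
        rw [h, mul_zero] at ha1; omega)
      rcases Nat.eq_zero_or_pos e with rfl | hep
      · rw [mul_zero] at he'; omega
      · have := Nat.le_mul_of_pos_right c hep; omega
    refine ⟨hcm, ?_⟩
    obtain ⟨e, -, he, he'⟩ := H (n % c) (n / c) (by omega) (Nat.div_pos (by
      have := Nat.le_of_dvd (by omega) hca; omega) hc)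
    obtain rfl : e = m / c := by
      refine le_antisymm ((Nat.le_div_iff_mul_le hc).2 (by rwa [mul_comm])) (Nat.lt_succ_iff.1 ?_)
      rw [Nat.div_lt_iff_lt_mul hc, Nat.succ_eq_add_one, add_mul, one_mul, mul_comm]
      omega
    omega
  · rintro ⟨-, hle⟩ f A hfA -
    rcases Nat.le_total A (m / c) with hA | hA
    · refine ⟨A, le_rfl, (Nat.mul_le_mul_left c hA).trans (by omega), ?_⟩
      omega
    · refine ⟨m / c, hA, by omega, ?_⟩
      have : n % c ≤ f := by
        rw [← hfA, Nat.add_mul_mod_self_left]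
        exact Nat.mod_le _ _
      omega

open _root_.Classical in
/-- the shapes whose elements fix a totally isotropic subspace -/
def AllTS (sd : Prop) (b t n m : ℕ) : Prop :=
  ∀ f a, f + b * a = n → 0 < a → (¬ sd → Even a) →
    ∃ j, j ≤ pr sd t a ∧ b * j ≤ m ∧ 2 * (m - b * j) ≤ f

theorem allTS_iff_free {b t n m : ℕ} (hb : 0 < b) (hsd : ¬ sd) (hmn : 2 * m ≤ n)
    (hcount : ∃ a, n - 2 * m < a ∧ a ≤ n ∧ 2 * b ∣ a) :
    AllTS sd b t n m ↔ b ≤ m ∧ 2 * (m % b) ≤ n % (2 * b) := by
  classical
  have e : AllTS sd b t n m ↔ AllND (2 * b) n (2 * m) := by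
    constructor
    · intro H f A hfA hA
      obtain ⟨j, hj, hjm, hjf⟩ := H f (2 * A) (by rw [← hfA]; ring) (by omega) fun _ => even_two_mul A
      rw [pr, if_neg hsd] at hj
      refine ⟨j, by omega, by rw [mul_assoc]; omega, by rw [mul_assoc]; omega⟩
    · intro H f a hfa ha hev
      obtain ⟨A, rfl⟩ := (hev hsd).two_dvd
      obtain ⟨j, hj, hjm, hjf⟩ := H f A (by rw [← hfa]; ring) (by omega)
      rw [mul_assoc] at hjm hjf
      exact ⟨j, by rw [pr, if_neg hsd]; omega, by omega, by omega⟩
  rw [e, allND_iff (by omega) hmn hcount, Nat.mul_mod_mul_left]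
  omega

theorem allTS_iff_fixed {b t n m : ℕ} (hb : 0 < b) (ht : 0 < t) (hsd : sd) (hmn : 2 * m ≤ n)
    (hcount : ∃ a, n - 2 * m < a ∧ a ≤ n ∧ b ∣ a) :
    AllTS sd b t n m ↔ b ≤ m ∧ 2 * (m % b) ≤ n % b ∧ t + 2 * (m / b) ≤ n / b := by
  classical
  obtain ⟨a, ha1, ha2, hba⟩ := hcount
  have hm := Nat.div_add_mod m b
  have hn := Nat.div_add_mod n b
  have hml := Nat.mod_lt m hb
  have hnl := Nat.mod_lt n hb
  have hJ : ∀ a, pr sd t a = (a + 1 - t) / 2 := fun a => if_pos hsd
  have heq : ∀ j, b * j ≤ m → m < b * j + b → j = m / b := fun j h1 h2 =>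
    (Nat.div_eq_of_lt_le (by rw [mul_comm]; exact h1) (by
      rw [add_mul, one_mul, mul_comm]; exact h2)).symm
  constructor
  · intro H
    have hbm : b ≤ m := by
      by_contra hlt
      obtain ⟨A, rfl⟩ := hba
      obtain ⟨j, -, hj, hj'⟩ := H (n - b * A) A (by omega) (Nat.pos_of_ne_zero fun h => by
        rw [h, mul_zero] at ha1; omega) fun h => absurd hsd h
      rcases Nat.eq_zero_or_pos j with rfl | hjp
      · rw [mul_zero] at hj'; omega
      · have := Nat.le_mul_of_pos_right b hjp; omega
    have hN : 2 ≤ n / b := (Nat.le_div_iff_mul_le hb).2 (by omega)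
    obtain ⟨j, -, h2, h3⟩ := H (n % b) (n / b) (by omega) (by omega) fun h => absurd hsd h
    obtain rfl := heq j h2 (by omega)
    refine ⟨hbm, by omega, ?_⟩
    have hsplit : b * (n / b) = b * (n / b - 1) + b := by
      obtain ⟨N, hN'⟩ : ∃ N, n / b = N + 1 := ⟨n / b - 1, by omega⟩
      rw [hN', Nat.add_sub_cancel, mul_add, mul_one]
    obtain ⟨j, h1', h2', h3'⟩ := H (n % b + b) (n / b - 1) (by omega) (by omega) fun h => absurd hsd h
    obtain rfl := heq j h2' (by omega)
    rw [hJ] at h1'
    have : 1 ≤ m / b := (Nat.le_div_iff_mul_le hb).2 (by omega)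
    omega
  · rintro ⟨-, hl, htN⟩ f a hfa - -
    rw [hJ]
    have hkf : n % b ≤ f := by
      rw [← hfa, Nat.add_mul_mod_self_left]
      exact Nat.mod_le _ _
    rcases Nat.le_total (m / b) ((a + 1 - t) / 2) with hle | hle
    · exact ⟨m / b, hle, by omega, by omega⟩
    · refine ⟨(a + 1 - t) / 2, le_rfl, (Nat.mul_le_mul_left b hle).trans (by omega), ?_⟩
      have h1 : b * a ≤ b * (2 * ((a + 1 - t) / 2) + t) := Nat.mul_le_mul_left b (by omega)
      have h2 : b * (t + 2 * (m / b)) ≤ b * (n / b) := Nat.mul_le_mul_left b htN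
      rw [mul_add, mul_left_comm] at h1 h2
      omega

end Cfsg.Agent.Classical.IsoInvariant.Herm
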