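import Mathlib
import Cfsg.Agent.Lib.Forms.Max.UnitaryBase
import Cfsg.Agent.Lib.Forms.Elusive.Semisimple
import Cfsg.Agent.SUClassCount.Group

/-!
# Invariant non-degenerate and totally isotropic subspaces of unitary maps
-/

set_option autoImplicit false
set_option linter.unusedSectionVars false

namespace Cfsg.Agent.Classical.IsoInvariant.Herm

open Module Polynomial Matrix
open Cfsg.Agent.Forms Cfsg.Agent.Forms.Max.Unitary Cfsg.Agent.Classical.Unitary
open Cfsg.Agent.Forms.Elusive (exists_compl finrank_sup_of_disjoint isSemisimple_of_pow)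

variable {F : Type*} [Field F] [Fintype F] {q : ℕ} (hF : Fintype.card F = q ^ 2) {n m k : ℕ}

/-- the linear map of an invertible matrix -/
noncomputable abbrev lin (g : GL (Fin n) F) : (Fin n → F) →ₗ[F] (Fin n → F) :=
  Matrix.toLin' (g : Matrix (Fin n) (Fin n) F)

theorem lin_mul (g h : GL (Fin n) F) (v : Fin n → F) : lin (g * h) v = lin g (lin h v) := by
  simp only [lin, Units.val_mul, Matrix.toLin'_apply, Matrix.mulVec_mulVec]

theorem lin_one (v : Fin n → F) : lin (1 : GL (Fin n) F) v = v := by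
  simp [lin]

theorem lin_injective (g : GL (Fin n) F) : Function.Injective (lin g) := fun a b h => by
  have := congrArg (lin g⁻¹) h
  rwa [← lin_mul, ← lin_mul, inv_mul_cancel, lin_one, lin_one] at this

theorem lin_surjective (g : GL (Fin n) F) : Function.Surjective (lin g) := fun v =>
  ⟨lin g⁻¹ v, by rw [← lin_mul, mul_inv_cancel, lin_one]⟩

theorem mem_GU {g : GL (Fin n) F} :
    g ∈ Cfsg.GU n F q ↔ ∀ u v, Cfsg.hermForm n F q (lin g u) (lin g v) = Cfsg.hermForm n F q u v := by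
  simp only [lin, Matrix.toLin'_apply]
  exact Iff.rfl

/-- a pulled back map -/
theorem exists_pull {a : (Fin m → F) →ₗ[F] (Fin n → F)} (ha : Function.Injective a) (g : GL (Fin n) F)
    (hinv : ∀ u, lin g (a u) ∈ LinearMap.range a) :
    ∃ A : GL (Fin m) F, ∀ u, lin g (a u) = a (lin A u) := by
  obtain ⟨f, hf⟩ : ∃ f : (Fin m → F) →ₗ[F] (Fin m → F), ∀ u, a (f u) = lin g (a u) := by
    refine ⟨(LinearEquiv.ofInjective a ha).symm.toLinearMap ∘ₗ ((lin g) ∘ₗ a).codRestrict (LinearMap.range a) hinv,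
      fun u => ?_⟩
    exact congrArg Subtype.val ((LinearEquiv.ofInjective a ha).apply_symm_apply _)
  have hinj : Function.Injective f := fun u v h => by
    have := congrArg a h
    rw [hf, hf] at this
    exact ha (lin_injective g this)
  have hu : IsUnit (LinearMap.toMatrix' f) := by
    rw [← Matrix.mulVec_injective_iff_isUnit]
    intro u v h
    rw [LinearMap.toMatrix'_mulVec, LinearMap.toMatrix'_mulVec] at h
    exact hinj h
  refine ⟨hu.unit, fun u => ?_⟩
  rw [← hf]
  simp [lin]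

theorem pull_pow {a : (Fin m → F) →ₗ[F] (Fin n → F)} (ha : Function.Injective a) {g : GL (Fin n) F}
    {A : GL (Fin m) F} (h : ∀ u, lin g (a u) = a (lin A u)) {r : ℕ} {z : F}
    (hr : (g : Matrix (Fin n) (Fin n) F) ^ r = z • 1) : (A : Matrix (Fin m) (Fin m) F) ^ r = z • 1 := by
  have hpow : ∀ (j : ℕ) u, ((lin g) ^ j) (a u) = a (((lin A) ^ j) u) := by
    intro j
    induction j with
    | zero => intro u; rfl
    | succ j ih => intro u; rw [pow_succ', pow_succ', Module.End.mul_apply, Module.End.mul_apply, ih, h]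
  refine Matrix.ext_iff_mulVec.2 fun u => ha ?_
  have h1 := hpow r u
  rw [lin, lin, ← Matrix.toLin'_pow, ← Matrix.toLin'_pow, hr, Matrix.toLin'_apply, Matrix.toLin'_apply,
    Matrix.smul_mulVec, Matrix.one_mulVec] at h1
  rw [← h1, Matrix.smul_mulVec, Matrix.one_mulVec, map_smul]

/-- the characteristic polynomial along a block decomposition -/
theorem charpoly_of_equiv {M N : Type*} [AddCommGroup M] [Module F M] [FiniteDimensional F M] [AddCommGroup N]
    [Module F N] [FiniteDimensional F N] (f : (M × N) ≃ₗ[F] (Fin n → F)) (g : GL (Fin n) F) (A : M →ₗ[F] M)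
    (B : N →ₗ[F] N) (h : ∀ p : M × N, lin g (f p) = f (A p.1, B p.2)) :
    (g : Matrix (Fin n) (Fin n) F).charpoly = A.charpoly * B.charpoly := by
  have e : lin g = f.conj (A.prodMap B) := LinearMap.ext fun v => by
    obtain ⟨p, rfl⟩ := f.surjective v
    rw [h, LinearEquiv.conj_apply_apply, f.symm_apply_apply]
    rfl
  rw [← Matrix.charpoly_toLin', show Matrix.toLin' (g : Matrix (Fin n) (Fin n) F) = lin g from rfl, e,
    LinearEquiv.charpoly_conj, LinearMap.charpoly_prodMap]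

include hF

/-- the adjoint identity -/
theorem H_theta (g : GL (Fin n) F) (u v : Fin n → F) :
    Cfsg.hermForm n F q (lin g u) (lin (SUClassCount2481.theta hF g) v) = Cfsg.hermForm n F q u v := by
  set T := SUClassCount2481.theta hF g with hT
  have hTv : (T : Matrix (Fin n) (Fin n) F) = UnitaryConj.adj hF ((g⁻¹ : GL (Fin n) F) : Matrix (Fin n) (Fin n) F) := by
    rw [← SUClassCount2481.val_theta_inv, map_inv, inv_inv]
  have hs : (fun i => (lin T v) i ^ q) =
      (((g⁻¹ : GL (Fin n) F) : Matrix (Fin n) (Fin n) F))ᵀ *ᵥ (fun i => v i ^ q) := by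
    funext i
    show (((T : Matrix (Fin n) (Fin n) F) *ᵥ v) i) ^ q = _
    rw [← HermStd.qHom_apply hF, RingHom.map_mulVec, hTv]
    congr 1
    ext a b
    simp [UnitaryConj.adj, HermStd.qHom_qHom hF, HermStd.pow_q_q hF]
  rw [H_eq_dot, H_eq_dot, hs]
  show ((g : Matrix (Fin n) (Fin n) F) *ᵥ u) ⬝ᵥ _ = _
  rw [dotProduct_mulVec, Matrix.vecMul_transpose, Matrix.mulVec_mulVec, Units.inv_mul, Matrix.one_mulVec]

theorem theta_unique {g T : GL (Fin n) F}
    (h : ∀ u v, Cfsg.hermForm n F q (lin g u) (lin T v) = Cfsg.hermForm n F q u v) :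
    T = SUClassCount2481.theta hF g := by
  refine Units.ext (mat_ext fun v => ?_)
  have h1 : ∀ w, Cfsg.hermForm n F q w (lin T v - lin (SUClassCount2481.theta hF g) v) = 0 := fun w => by
    obtain ⟨u, rfl⟩ := lin_surjective g w
    rw [H_sub_right hF, h, H_theta hF, sub_self]
  exact sub_eq_zero.1 (eq_zero_of_H hF fun w => (H_eq_zero_comm hF).1 (h1 w))

/-- the adjoint inverse has the dual characteristic polynomial -/
theorem charpoly_theta (g : GL (Fin n) F) :
    ((SUClassCount2481.theta hF g : GL (Fin n) F) : Matrix (Fin n) (Fin n) F).charpoly =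
      SUClassCount2481.cd hF (g : Matrix (Fin n) (Fin n) F).charpoly := by
  classical
  set M := (g : Matrix (Fin n) (Fin n) F).map (HermStd.qHom hF) with hM
  have hMu : IsUnit M := (g.isUnit.map (HermStd.qHom hF).mapMatrix)
  have hT : ((SUClassCount2481.theta hF g : GL (Fin n) F) : Matrix (Fin n) (Fin n) F) = (M⁻¹)ᵀ := by
    rw [← Matrix.transpose_transpose (((SUClassCount2481.theta hF g : GL (Fin n) F)) : Matrix (Fin n) (Fin n) F)]
    congr 1
    symm
    refine Matrix.inv_eq_left_inv ?_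
    have h1 : UnitaryConj.adj hF (g : Matrix (Fin n) (Fin n) F) *
        ((SUClassCount2481.theta hF g : GL (Fin n) F) : Matrix (Fin n) (Fin n) F) = 1 := by
      rw [← SUClassCount2481.val_theta_inv, Units.inv_mul]
    have h2 := congrArg Matrix.transpose h1
    rwa [Matrix.transpose_mul, UnitaryConj.adj, Matrix.transpose_transpose, Matrix.transpose_one] at h2
  have hrev : M.charpolyRev = (((g : Matrix (Fin n) (Fin n) F).charpoly).map (HermStd.qHom hF)).reverse := by
    rw [← Matrix.reverse_charpoly, hM, Matrix.charpoly_map]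
  rw [SUClassCount2481.cd, ← hrev]
  refine eq_of_monic_of_associated (Matrix.charpoly_monic _) (Polynomial.monic_normalize ?_) ?_
  · rw [hrev, ne_eq, Polynomial.reverse_eq_zero]
    exact ((Matrix.charpoly_monic _).map _).ne_zero
  · refine Associated.trans ?_ (associated_normalize _)
    rw [hT, Matrix.charpoly_transpose, Matrix.charpoly_inv M hMu]
    refine associated_unit_mul_left _ _ (IsUnit.mul (IsUnit.pow _ isUnit_one.neg) ?_)
    rw [Polynomial.isUnit_C, isUnit_ringInverse]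
    exact (Matrix.isUnit_iff_isUnit_det M).1 hMu

theorem cd_charpoly_of_mem {g : GL (Fin n) F} (hg : g ∈ Cfsg.GU n F q) :
    SUClassCount2481.cd hF (g : Matrix (Fin n) (Fin n) F).charpoly = (g : Matrix (Fin n) (Fin n) F).charpoly := by
  rw [← charpoly_theta hF g, (SUClassCount2481.mem_iff hF g).1 hg]

/-- concatenation -/
noncomputable def appendL (F : Type*) [Field F] (m k : ℕ) :
    ((Fin m → F) × (Fin k → F)) ≃ₗ[F] (Fin (m + k) → F) where
  toFun p := Fin.append p.1 p.2
  invFun w := (fun i => w (Fin.castAdd k i), fun i => w (Fin.natAdd m i))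
  map_add' p p' := by ext i; refine Fin.addCases (fun j => ?_) (fun j => ?_) i <;> simp
  map_smul' c p := by ext i; refine Fin.addCases (fun j => ?_) (fun j => ?_) i <;> simp
  left_inv p := by ext i <;> simp
  right_inv w := by ext i; refine Fin.addCases (fun j => ?_) (fun j => ?_) i <;> simp

omit hF in
theorem appendL_apply (a : Fin m → F) (b : Fin k → F) : appendL F m k (a, b) = Fin.append a b := rfl

theorem H_appendL (a c : Fin m → F) (b d : Fin k → F) :
    Cfsg.hermForm (m + k) F q (appendL F m k (a, b)) (appendL F m k (c, d)) =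
      Cfsg.hermForm m F q a c + Cfsg.hermForm k F q b d := by
  rw [appendL_apply, appendL_apply, Cfsg.hermForm]
  simp [Cfsg.hermForm, Fin.sum_univ_add]

/-- an isometry gives an element of the group -/
theorem exists_gu_of_preserves (f : (Fin n → F) →ₗ[F] (Fin n → F))
    (h : ∀ u v, Cfsg.hermForm n F q (f u) (f v) = Cfsg.hermForm n F q u v) :
    ∃ g : GL (Fin n) F, g ∈ Cfsg.GU n F q ∧ ∀ v, lin g v = f v := by
  have hM : ∀ u v, Cfsg.hermForm n F q (LinearMap.toMatrix' f *ᵥ u) (LinearMap.toMatrix' f *ᵥ v) =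
      Cfsg.hermForm n F q u v := fun u v => by
    rw [LinearMap.toMatrix'_mulVec, LinearMap.toMatrix'_mulVec, h]
  refine ⟨GeneralLinearGroup.mkOfDetNeZero _ (det_ne_zero_of_preserves hF hM), hM, fun v => ?_⟩
  simp [lin, GeneralLinearGroup.mkOfDetNeZero]

/-- moving a property of subspaces defined by the form along unitary conjugacy -/
theorem exists_of_conj {x B : GL (Fin n) F} (hx : x ∈ Cfsg.GU n F q) (hB : B ∈ Cfsg.GU n F q) (hc : IsConj B x) :
    ∃ u : GL (Fin n) F, u ∈ Cfsg.GU n F q ∧ ∀ v, lin x (lin u v) = lin u (lin B v) := by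
  obtain ⟨c, hc⟩ := isConj_iff.1 hc
  obtain ⟨u, hu, hux⟩ := SUClassCount2481.exists_unitary_conj hF hB hx hc
  refine ⟨u, hu, fun v => ?_⟩
  rw [← lin_mul, ← lin_mul, ← hux]
  congr 2
  group

/-- an orthonormal parametrisation of a non-degenerate subspace -/
theorem exists_isometry_sub {W : Submodule F (Fin n → F)}
    (hW : ∀ w ∈ W, w ≠ 0 → ∃ x ∈ W, Cfsg.hermForm n F q w x ≠ 0) (hd : finrank F W = m) :
    ∃ a : (Fin m → F) →ₗ[F] (Fin n → F), Function.Injective a ∧ LinearMap.range a = W ∧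
      ∀ u v, Cfsg.hermForm n F q (a u) (a v) = Cfsg.hermForm m F q u v := by
  classical
  subst hd
  set d := finrank F W
  let b : Module.Basis (Fin d) F W := Module.finBasis F W
  let a₀ : (Fin d → F) →ₗ[F] (Fin n → F) := W.subtype ∘ₗ b.equivFun.symm.toLinearMap
  have ha₀ : Function.Injective a₀ := W.injective_subtype.comp b.equivFun.symm.injective
  have hr₀ : LinearMap.range a₀ = W := by
    rw [LinearMap.range_comp, LinearEquiv.range, Submodule.map_top, Submodule.range_subtype]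
  set G : Matrix (Fin d) (Fin d) F := Matrix.of fun i j => Cfsg.hermForm n F q (a₀ (Pi.single j 1)) (a₀ (Pi.single i 1))
    with hG
  have hform : ∀ u v, Cfsg.hermForm n F q (a₀ u) (a₀ v) = u ⬝ᵥ (Gᵀ *ᵥ fun i => v i ^ q) := by
    intro u v
    conv_lhs => rw [pi_eq_sum_univ' u, pi_eq_sum_univ' v]
    simp only [map_sum, map_smul, H_sum_left, H_sum_right hF, H_smul_left, H_smul_right]
    simp only [dotProduct, Matrix.mulVec, Matrix.transpose_apply, hG, Matrix.of_apply, Finset.mul_sum]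
    rw [Finset.sum_comm]
    exact Finset.sum_congr rfl fun i _ => Finset.sum_congr rfl fun j _ => by ring
  have hherm : UnitaryConj.adj hF G = G := by
    ext i j
    simp only [UnitaryConj.adj, Matrix.transpose_apply, Matrix.map_apply, hG, Matrix.of_apply, HermStd.qHom_apply]
    exact H_conj hF _ _
  have hGu : IsUnit G := by
    rw [Matrix.isUnit_iff_isUnit_det, isUnit_iff_ne_zero]
    intro h0
    rw [← Matrix.det_transpose] at h0
    obtain ⟨c, hc0, hc⟩ := Matrix.exists_mulVec_eq_zero_iff.2 h0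
    have hcq : (fun i => (c i ^ q) ^ q) = c := funext fun i => pow_qq hF _
    have hne : a₀ (fun i => c i ^ q) ≠ 0 := fun h => hc0 (by
      have h1 : (fun i => c i ^ q) = 0 := ha₀ (by rw [h, map_zero])
      funext i
      exact eq_zero_of_pow_eq_zero (congrFun h1 i))
    obtain ⟨x, hx, hne'⟩ := hW _ (hr₀ ▸ LinearMap.mem_range_self a₀ _) hne
    obtain ⟨u, rfl⟩ := (hr₀.symm ▸ hx : x ∈ LinearMap.range a₀)
    refine hne' ((H_eq_zero_comm hF).1 ?_)
    rw [hform, hcq, hc, dotProduct_zero]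
  obtain ⟨Y, -, hY⟩ := UnitaryConj.exists_root hF G hGu hherm
  refine ⟨a₀ ∘ₗ lin Y⁻¹, ha₀.comp (lin_injective _), ?_, fun u v => ?_⟩
  · rw [LinearMap.range_comp, LinearMap.range_eq_top.2 (lin_surjective _), Submodule.map_top, hr₀]
  · show Cfsg.hermForm n F q (a₀ (lin Y⁻¹ u)) (a₀ (lin Y⁻¹ v)) = _
    rw [hform, H_eq_dot]
    set w := lin Y⁻¹ v
    have hv : lin Y w = v := by rw [← lin_mul, mul_inv_cancel, lin_one]
    have hσ : (fun i => v i ^ q) = (Y : Matrix (Fin d) (Fin d) F).map (HermStd.qHom hF) *ᵥ fun i => w i ^ q := by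
      funext i
      rw [← hv]
      show (((Y : Matrix (Fin d) (Fin d) F) *ᵥ w) i) ^ q = _
      rw [← HermStd.qHom_apply hF, RingHom.map_mulVec]
      rfl
    rw [hσ, ← hY, Matrix.transpose_mul, UnitaryConj.adj, Matrix.transpose_transpose, ← Matrix.mulVec_mulVec,
      Matrix.dotProduct_mulVec _ (Y : Matrix (Fin d) (Fin d) F)ᵀ, Matrix.vecMul_transpose]
    congr 1
    show (Y : Matrix (Fin d) (Fin d) F) *ᵥ lin Y⁻¹ u = u
    exact (lin_mul Y Y⁻¹ u).symm.trans (by rw [mul_inv_cancel, lin_one])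

/-- the unitary map induced on an invariant non-degenerate subspace -/
theorem exists_induced {x : GL (Fin n) F} (hx : x ∈ Cfsg.GU n F q) {W : Submodule F (Fin n → F)}
    (hW : ∀ w ∈ W, w ≠ 0 → ∃ y ∈ W, Cfsg.hermForm n F q w y ≠ 0) (hd : finrank F W = m)
    (hi : W.map (lin x) ≤ W) :
    ∃ (a : (Fin m → F) →ₗ[F] (Fin n → F)) (y : GL (Fin m) F), Function.Injective a ∧ LinearMap.range a = W ∧
      y ∈ Cfsg.GU m F q ∧ ∀ u, lin x (a u) = a (lin y u) := by
  obtain ⟨a, ha, hr, hiso⟩ := exists_isometry_sub hF hW hd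
  obtain ⟨y, hy⟩ := exists_pull ha x fun u => by
    rw [hr]; exact hi ⟨a u, hr ▸ LinearMap.mem_range_self a u, rfl⟩
  refine ⟨a, y, ha, hr, mem_GU.2 fun u v => ?_, hy⟩
  rw [← hiso, ← hy, ← hy, mem_GU.1 hx, hiso]

theorem perp_inv {x : GL (Fin n) F} (hx : x ∈ Cfsg.GU n F q) {W : Submodule F (Fin n → F)}
    (hi : W.map (lin x) ≤ W) : (perp q W).map (lin x) ≤ perp q W := by
  rintro _ ⟨v, hv, rfl⟩
  refine mem_perp.2 fun w hw => ?_
  have heq : W.map (lin x) = W := Submodule.eq_of_le_of_finrank_eq hi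
    ((Submodule.equivMapOfInjective _ (lin_injective x) W).finrank_eq).symm
  obtain ⟨w', hw', rfl⟩ := (heq.symm ▸ hw : w ∈ W.map (lin x))
  rw [mem_GU.1 hx]
  exact mem_perp.1 hv w' hw'

/-- an invariant non-degenerate subspace gives two blocks -/
theorem split_nd {x : GL (Fin n) F} (hx : x ∈ Cfsg.GU n F q) {W : Submodule F (Fin n → F)}
    (hW : ∀ w ∈ W, w ≠ 0 → ∃ y ∈ W, Cfsg.hermForm n F q w y ≠ 0) (hd : finrank F W = m)
    (hi : W.map (lin x) ≤ W) :
    ∃ (y₁ : GL (Fin m) F) (y₂ : GL (Fin (n - m)) F) (f : ((Fin m → F) × (Fin (n - m) → F)) ≃ₗ[F] (Fin n → F)),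
      y₁ ∈ Cfsg.GU m F q ∧ y₂ ∈ Cfsg.GU (n - m) F q ∧
        ∀ p : (Fin m → F) × (Fin (n - m) → F), lin x (f p) = f (lin y₁ p.1, lin y₂ p.2) := by
  have hsum := finrank_perp hF W
  obtain ⟨a, y₁, ha, hra, hy₁, hay⟩ := exists_induced hF hx hW hd hi
  obtain ⟨b, y₂, hb, hrb, hy₂, hby⟩ := exists_induced hF hx (perp_nondeg hF hW) (m := n - m) (by omega)
    (perp_inv hF hx hi)
  have hinj : Function.Injective (a.coprod b) := by
    rw [← LinearMap.ker_eq_bot, LinearMap.ker_coprod_of_disjoint_range _ _ (by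
      rw [hra, hrb]; exact (isCompl_perp hF hW).disjoint), LinearMap.ker_eq_bot.2 ha, LinearMap.ker_eq_bot.2 hb,
      Submodule.prod_bot]
  refine ⟨y₁, y₂, LinearEquiv.ofBijective (a.coprod b) ⟨hinj,
    (LinearMap.injective_iff_surjective_of_finrank_eq_finrank ?_).1 hinj⟩, hy₁, hy₂, fun p => ?_⟩
  · rw [Module.finrank_prod, Module.finrank_fin_fun, Module.finrank_fin_fun, Module.finrank_fin_fun]
    omega
  · show lin x (a.coprod b p) = a.coprod b (lin y₁ p.1, lin y₂ p.2)
    rw [LinearMap.coprod_apply, LinearMap.coprod_apply, map_add, hay, hby]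

/-- two unitary blocks -/
theorem exists_block {y₁ : GL (Fin m) F} {y₂ : GL (Fin k) F} (h₁ : y₁ ∈ Cfsg.GU m F q) (h₂ : y₂ ∈ Cfsg.GU k F q) :
    ∃ B : GL (Fin (m + k)) F, B ∈ Cfsg.GU (m + k) F q ∧
      (∀ p : (Fin m → F) × (Fin k → F), lin B (appendL F m k p) = appendL F m k (lin y₁ p.1, lin y₂ p.2)) ∧
      ∃ W : Submodule F (Fin (m + k) → F), finrank F W = m ∧
        (∀ w ∈ W, w ≠ 0 → ∃ y ∈ W, Cfsg.hermForm (m + k) F q w y ≠ 0) ∧ W.map (lin B) ≤ W := by
  set e := appendL F m k with he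
  obtain ⟨B, hB, hBe⟩ := exists_gu_of_preserves hF
    (e.conj ((lin y₁).prodMap (lin y₂))) fun u v => by
      obtain ⟨⟨a, b⟩, rfl⟩ := e.surjective u
      obtain ⟨⟨c, d⟩, rfl⟩ := e.surjective v
      simp only [LinearEquiv.conj_apply_apply, LinearEquiv.symm_apply_apply, LinearMap.prodMap_apply, he]
      rw [H_appendL hF, H_appendL hF, mem_GU.1 h₁, mem_GU.1 h₂]
  have hBp : ∀ p : (Fin m → F) × (Fin k → F), lin B (e p) = e (lin y₁ p.1, lin y₂ p.2) := fun p => by
    rw [hBe, LinearEquiv.conj_apply_apply, e.symm_apply_apply]; rfl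
  refine ⟨B, hB, hBp, LinearMap.range (e.toLinearMap ∘ₗ LinearMap.inl F _ _), ?_, ?_, ?_⟩
  · rw [LinearMap.finrank_range_of_inj, Module.finrank_fin_fun]
    intro u v h
    exact (Prod.ext_iff.1 (e.injective h)).1
  · rintro _ ⟨a, rfl⟩ hne
    have ha : a ≠ 0 := fun h => hne (by rw [h, map_zero])
    obtain ⟨v, hv⟩ : ∃ v, Cfsg.hermForm m F q a v ≠ 0 := by
      by_contra hc
      push Not at hc
      exact ha (eq_zero_of_H hF hc)
    refine ⟨_, LinearMap.mem_range_self _ v, ?_⟩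
    show Cfsg.hermForm (m + k) F q (e (a, 0)) (e (v, 0)) ≠ 0
    rwa [he, H_appendL hF, H_zero_left, add_zero]
  · rintro _ ⟨_, ⟨a, rfl⟩, rfl⟩
    refine ⟨lin y₁ a, ?_⟩
    show e (lin y₁ a, 0) = lin B (e (a, 0))
    rw [hBp, map_zero]

/-- an element similar to two unitary blocks fixes a non-degenerate subspace -/
theorem fixes_nd {x B : GL (Fin n) F} (hx : x ∈ Cfsg.GU n F q) (hB : B ∈ Cfsg.GU n F q) (hc : IsConj B x)
    {W : Submodule F (Fin n → F)} (hW : ∀ w ∈ W, w ≠ 0 → ∃ y ∈ W, Cfsg.hermForm n F q w y ≠ 0)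
    (hi : W.map (lin B) ≤ W) :
    ∃ W' : Submodule F (Fin n → F), finrank F W' = finrank F W ∧
      (∀ w ∈ W', w ≠ 0 → ∃ y ∈ W', Cfsg.hermForm n F q w y ≠ 0) ∧ W'.map (lin x) ≤ W' := by
  obtain ⟨u, hu, hux⟩ := exists_of_conj hF hx hB hc
  refine ⟨W.map (lin u), ((Submodule.equivMapOfInjective _ (lin_injective u) W).finrank_eq).symm, ?_, ?_⟩
  · rintro _ ⟨w, hw, rfl⟩ hne
    obtain ⟨y, hy, hwy⟩ := hW w hw fun h => hne (by rw [h, map_zero])
    exact ⟨_, ⟨y, hy, rfl⟩, by rwa [mem_GU.1 hu]⟩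
  · rintro _ ⟨_, ⟨w, hw, rfl⟩, rfl⟩
    rw [hux]
    exact ⟨_, hi ⟨w, hw, rfl⟩, rfl⟩

theorem fixes_ts {x B : GL (Fin n) F} (hx : x ∈ Cfsg.GU n F q) (hB : B ∈ Cfsg.GU n F q) (hc : IsConj B x)
    {W : Submodule F (Fin n → F)} (hW : ∀ u ∈ W, ∀ v ∈ W, Cfsg.hermForm n F q u v = 0)
    (hi : W.map (lin B) ≤ W) :
    ∃ W' : Submodule F (Fin n → F), finrank F W' = finrank F W ∧
      (∀ u ∈ W', ∀ v ∈ W', Cfsg.hermForm n F q u v = 0) ∧ W'.map (lin x) ≤ W' := by
  obtain ⟨u, hu, hux⟩ := exists_of_conj hF hx hB hc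
  refine ⟨W.map (lin u), ((Submodule.equivMapOfInjective _ (lin_injective u) W).finrank_eq).symm, ?_, ?_⟩
  · rintro _ ⟨a, ha, rfl⟩ _ ⟨b, hb, rfl⟩
    rw [mem_GU.1 hu]
    exact hW a ha b hb
  · rintro _ ⟨_, ⟨w, hw, rfl⟩, rfl⟩
    rw [hux]
    exact ⟨_, hi ⟨w, hw, rfl⟩, rfl⟩

/-- an invariant totally isotropic subspace gives a dual pair of blocks and a unitary block -/
theorem split_ts {x : GL (Fin n) F} (hx : x ∈ Cfsg.GU n F q) {r : ℕ} {z : F} (hr : (r : F) ≠ 0) (hz : z ≠ 0)
    (hxr : (x : Matrix (Fin n) (Fin n) F) ^ r = z • 1) {W : Submodule F (Fin n → F)}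
    (hW : ∀ u ∈ W, ∀ v ∈ W, Cfsg.hermForm n F q u v = 0) (hd : finrank F W = m) (hi : W.map (lin x) ≤ W) :
    2 * m ≤ n ∧ ∃ (A : GL (Fin m) F) (y : GL (Fin (n - 2 * m)) F), y ∈ Cfsg.GU (n - 2 * m) F q ∧
      (A : Matrix (Fin m) (Fin m) F) ^ r = z • 1 ∧
      (y : Matrix (Fin (n - 2 * m)) (Fin (n - 2 * m)) F) ^ r = z • 1 ∧
      (x : Matrix (Fin n) (Fin n) F).charpoly = (A : Matrix (Fin m) (Fin m) F).charpoly *
        SUClassCount2481.cd hF (A : Matrix (Fin m) (Fin m) F).charpoly *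
        (y : Matrix (Fin (n - 2 * m)) (Fin (n - 2 * m)) F).charpoly := by
  classical
  have hss : Module.End.IsSemisimple (lin x) := isSemisimple_of_pow (r := r) (c := z) (fun v => by
    rw [lin, ← Matrix.toLin'_pow, hxr, Matrix.toLin'_apply, Matrix.smul_mulVec, Matrix.one_mulVec]) hr hz
  have hWP : W ≤ perp q W := fun w hw => mem_perp.2 fun v hv => hW w hw v hv
  have hPi := perp_inv hF hx hi
  obtain ⟨U, hUi, hUP, hWU, hsupU, hdimU⟩ := exists_compl hss hi hPi hWP
  obtain ⟨C, hCi, -, hPC, hsupC, hdimC⟩ := exists_compl hss hPi (le_top : (⊤ : Submodule F (Fin n → F)).map (lin x) ≤ ⊤) le_top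
  have hP := finrank_perp hF W
  rw [finrank_top, Module.finrank_fin_fun] at hdimC
  rw [hd] at hP hdimU
  have hUd : finrank F U = n - 2 * m := by omega
  have hCd : finrank F C = m := by omega
  have hUnd : ∀ w ∈ U, w ≠ 0 → ∃ v ∈ U, Cfsg.hermForm n F q w v ≠ 0 := by
    intro w hw hw0
    by_contra hc
    push Not at hc
    refine hw0 (Submodule.disjoint_def.1 hWU w ?_ hw)
    rw [← perp_perp hF W, mem_perp]
    intro v hv
    obtain ⟨a, ha, b, hb, rfl⟩ := Submodule.mem_sup.1 (hsupU.symm ▸ hv : v ∈ W ⊔ U)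
    rw [H_add_right hF, mem_perp.1 (hUP hw) a ha, hc b hb, add_zero]
  refine ⟨by omega, ?_⟩
  obtain ⟨b, y, hb, hrb, hy, hby⟩ := exists_induced hF hx hUnd hUd hUi
  let a : (Fin m → F) →ₗ[F] (Fin n → F) :=
    W.subtype ∘ₗ (Module.finBasisOfFinrankEq F W hd).equivFun.symm.toLinearMap
  have ha : Function.Injective a :=
    W.injective_subtype.comp (Module.finBasisOfFinrankEq F W hd).equivFun.symm.injective
  have hra : LinearMap.range a = W := by
    rw [LinearMap.range_comp, LinearEquiv.range, Submodule.map_top, Submodule.range_subtype]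
  obtain ⟨A, hA⟩ := exists_pull ha x fun u => by
    rw [hra]; exact hi ⟨a u, hra ▸ LinearMap.mem_range_self a u, rfl⟩
  -- the pairing of the complement with `W`
  let L : C →ₗ[F] (Fin m → F) := (LinearMap.pi fun i => hlin q (a (Pi.single i 1))) ∘ₗ C.subtype
  have hL : Function.Injective L := by
    rw [← LinearMap.ker_eq_bot, Submodule.eq_bot_iff]
    rintro ⟨c, hc⟩ h0
    refine Subtype.ext (Submodule.disjoint_def.1 hPC c (mem_perp.2 fun w hw => ?_) hc)
    obtain ⟨u, rfl⟩ := (hra.symm ▸ hw : w ∈ LinearMap.range a)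
    rw [pi_eq_sum_univ' u, map_sum, H_sum_right hF]
    refine Finset.sum_eq_zero fun i _ => ?_
    rw [map_smul, H_smul_right, show Cfsg.hermForm n F q c (a (Pi.single i 1)) = 0 from
      congrFun (LinearMap.mem_ker.1 h0) i, mul_zero]
  let Le : C ≃ₗ[F] (Fin m → F) := LinearEquiv.ofBijective L ⟨hL,
    (LinearMap.injective_iff_surjective_of_finrank_eq_finrank (by rw [hCd, Module.finrank_fin_fun])).1 hL⟩
  let c : (Fin m → F) →ₗ[F] (Fin n → F) := C.subtype ∘ₗ Le.symm.toLinearMap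
  have hc : Function.Injective c := C.injective_subtype.comp Le.symm.injective
  have hrc : LinearMap.range c = C := by
    rw [LinearMap.range_comp, LinearEquiv.range, Submodule.map_top, Submodule.range_subtype]
  have hdual : ∀ v u, Cfsg.hermForm n F q (c v) (a u) = Cfsg.hermForm m F q v u := fun v u => by
    have h1 : ∀ i, Cfsg.hermForm n F q (c v) (a (Pi.single i 1)) = v i := fun i =>
      congrFun (Le.apply_symm_apply v) i
    conv_lhs => rw [pi_eq_sum_univ' u]
    rw [map_sum, H_sum_right hF]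
    refine Finset.sum_congr rfl fun i _ => ?_
    rw [map_smul, H_smul_right, h1, mul_comm]
  obtain ⟨D, hD⟩ := exists_pull hc x fun u => by
    rw [hrc]; exact hCi ⟨c u, hrc ▸ LinearMap.mem_range_self c u, rfl⟩
  have hDA : D = SUClassCount2481.theta hF A := theta_unique hF fun u v => by
    have h1 := mem_GU.1 hx (c v) (a u)
    rw [hD, hA, hdual, hdual] at h1
    rw [← H_conj hF, h1, H_conj hF]
  have hpairinj : Function.Injective (a.coprod b) := by
    rw [← LinearMap.ker_eq_bot, LinearMap.ker_coprod_of_disjoint_range _ _ (by rw [hra, hrb]; exact hWU),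
      LinearMap.ker_eq_bot.2 ha, LinearMap.ker_eq_bot.2 hb, Submodule.prod_bot]
  have hinj : Function.Injective ((a.coprod b).coprod c) := by
    rw [← LinearMap.ker_eq_bot, LinearMap.ker_coprod_of_disjoint_range _ _ (by
      rw [LinearMap.range_coprod, hra, hrb, hrc, hsupU]; exact hPC), LinearMap.ker_eq_bot.2 hpairinj,
      LinearMap.ker_eq_bot.2 hc, Submodule.prod_bot]
  let f : (((Fin m → F) × (Fin (n - 2 * m) → F)) × (Fin m → F)) ≃ₗ[F] (Fin n → F) :=
    LinearEquiv.ofBijective _ ⟨hinj, (LinearMap.injective_iff_surjective_of_finrank_eq_finrank (by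
      simp only [Module.finrank_prod, Module.finrank_fin_fun]; omega)).1 hinj⟩
  refine ⟨A, y, hy, pull_pow ha hA hxr, pull_pow hb hby hxr, ?_⟩
  rw [charpoly_of_equiv f x ((lin A).prodMap (lin y)) (lin D) fun p => by
    show lin x ((a.coprod b).coprod c p) = (a.coprod b).coprod c ((lin A).prodMap (lin y) p.1, lin D p.2)
    simp only [LinearMap.coprod_apply, LinearMap.prodMap_apply, map_add, hA, hby, hD]]
  rw [LinearMap.charpoly_prodMap, lin, lin, lin, Matrix.charpoly_toLin', Matrix.charpoly_toLin',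
    Matrix.charpoly_toLin', hDA, charpoly_theta hF]
  ring

/-- an isometry of the hyperbolic model -/
theorem exists_hyper : ∃ h : ((Fin m → F) × (Fin m → F)) ≃ₗ[F] (Fin (m + m) → F),
    ∀ a a' c c', Cfsg.hermForm (m + m) F q (h (a, a')) (h (c, c')) =
      Cfsg.hermForm m F q a c' + Cfsg.hermForm m F q a' c := by
  have hS : ∀ w ∈ (⊤ : Submodule F (Fin 2 → F)), w ≠ 0 → ∃ v ∈ (⊤ : Submodule F (Fin 2 → F)),
      Cfsg.hermForm 2 F q w v ≠ 0 := fun w _ hw => by
    by_contra hc
    push Not at hc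
    exact hw (eq_zero_of_H hF fun v => hc v trivial)
  obtain ⟨e, he, he0, hee⟩ := exists_iso hF hS (by simp)
  obtain ⟨f, -, hff, hef⟩ := exists_iso_partner hF hS he he0 hee
  have hfe : Cfsg.hermForm 2 F q f e = 1 := by rw [← H_conj hF, hef, one_pow]
  simp only [Cfsg.hermForm, Fin.sum_univ_two] at hee hff hef hfe
  let g : ((Fin m → F) × (Fin m → F)) →ₗ[F] (Fin (m + m) → F) := (appendL F m m).toLinearMap ∘ₗ
    (LinearMap.prod (e 0 • LinearMap.fst F (Fin m → F) (Fin m → F) + f 0 • LinearMap.snd F (Fin m → F) (Fin m → F))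
      (e 1 • LinearMap.fst F (Fin m → F) (Fin m → F) + f 1 • LinearMap.snd F (Fin m → F) (Fin m → F)))
  have hg : ∀ a a' c c', Cfsg.hermForm (m + m) F q (g (a, a')) (g (c, c')) =
      Cfsg.hermForm m F q a c' + Cfsg.hermForm m F q a' c := by
    intro a a' c c'
    show Cfsg.hermForm (m + m) F q (appendL F m m (e 0 • a + f 0 • a', e 1 • a + f 1 • a'))
      (appendL F m m (e 0 • c + f 0 • c', e 1 • c + f 1 • c')) = _
    rw [H_appendL hF]
    simp only [H_add_left, H_add_right hF, H_smul_left, H_smul_right]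
    linear_combination (Cfsg.hermForm m F q a c) * hee + (Cfsg.hermForm m F q a' c') * hff +
      (Cfsg.hermForm m F q a c') * hef + (Cfsg.hermForm m F q a' c) * hfe
  have hinj : Function.Injective g := by
    rw [← LinearMap.ker_eq_bot, Submodule.eq_bot_iff]
    rintro ⟨a, a'⟩ h0
    rw [LinearMap.mem_ker] at h0
    refine Prod.ext (eq_zero_of_H hF fun v => ?_) (eq_zero_of_H hF fun v => ?_)
    · have := hg a a' 0 v
      rw [h0, H_zero_left, H_zero_right hF, add_zero] at this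
      exact this.symm
    · have := hg a a' v 0
      rw [h0, H_zero_left, H_zero_right hF, zero_add] at this
      exact this.symm
  exact ⟨LinearEquiv.ofBijective g ⟨hinj, (LinearMap.injective_iff_surjective_of_finrank_eq_finrank (by
    simp [Module.finrank_prod])).1 hinj⟩, hg⟩

/-- a dual pair of blocks and a unitary block -/
theorem exists_ts_block (A : GL (Fin m) F) {y : GL (Fin k) F} (hy : y ∈ Cfsg.GU k F q) :
    ∃ (B : GL (Fin (m + m + k)) F) (e : (((Fin m → F) × (Fin m → F)) × (Fin k → F)) ≃ₗ[F] (Fin (m + m + k) → F)),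
      B ∈ Cfsg.GU (m + m + k) F q ∧
      (∀ p : ((Fin m → F) × (Fin m → F)) × (Fin k → F), lin B (e p) =
        e ((lin A p.1.1, lin (SUClassCount2481.theta hF A) p.1.2), lin y p.2)) ∧
      ∃ W : Submodule F (Fin (m + m + k) → F), finrank F W = m ∧
        (∀ u ∈ W, ∀ v ∈ W, Cfsg.hermForm (m + m + k) F q u v = 0) ∧ W.map (lin B) ≤ W := by
  obtain ⟨h, hh⟩ := exists_hyper hF (m := m)
  set T := SUClassCount2481.theta hF A with hT
  let e : (((Fin m → F) × (Fin m → F)) × (Fin k → F)) ≃ₗ[F] (Fin (m + m + k) → F) :=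
    (h.prodCongr (LinearEquiv.refl F _)).trans (appendL F (m + m) k)
  have he : ∀ a a' b c c' d, Cfsg.hermForm (m + m + k) F q (e ((a, a'), b)) (e ((c, c'), d)) =
      Cfsg.hermForm m F q a c' + Cfsg.hermForm m F q a' c + Cfsg.hermForm k F q b d := fun a a' b c c' d => by
    show Cfsg.hermForm (m + m + k) F q (appendL F (m + m) k (h (a, a'), b)) (appendL F (m + m) k (h (c, c'), d)) = _
    rw [H_appendL hF, hh]
  obtain ⟨B, hB, hBe⟩ := exists_gu_of_preserves hF (e.conj (((lin A).prodMap (lin T)).prodMap (lin y))) fun u v => by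
    obtain ⟨⟨⟨a, a'⟩, b⟩, rfl⟩ := e.surjective u
    obtain ⟨⟨⟨c, c'⟩, d⟩, rfl⟩ := e.surjective v
    simp only [LinearEquiv.conj_apply_apply, LinearEquiv.symm_apply_apply, LinearMap.prodMap_apply]
    rw [he, he, hT, H_theta hF, mem_GU.1 hy, ← H_conj hF (lin A c), H_theta hF, H_conj hF]
  have hBp : ∀ p : ((Fin m → F) × (Fin m → F)) × (Fin k → F),
      lin B (e p) = e ((lin A p.1.1, lin T p.1.2), lin y p.2) := fun p => by
    rw [hBe, LinearEquiv.conj_apply_apply, e.symm_apply_apply]; rfl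
  refine ⟨B, e, hB, hBp, LinearMap.range (e.toLinearMap ∘ₗ LinearMap.inl F _ _ ∘ₗ LinearMap.inl F _ _), ?_, ?_, ?_⟩
  · rw [LinearMap.finrank_range_of_inj, Module.finrank_fin_fun]
    intro u v h
    exact (Prod.ext_iff.1 (Prod.ext_iff.1 (e.injective h)).1).1
  · rintro _ ⟨a, rfl⟩ _ ⟨c, rfl⟩
    show Cfsg.hermForm (m + m + k) F q (e ((a, 0), 0)) (e ((c, 0), 0)) = 0
    rw [he, H_zero_right hF, H_zero_left, H_zero_left, add_zero, add_zero]
  · rintro _ ⟨_, ⟨a, rfl⟩, rfl⟩
    refine ⟨lin A a, ?_⟩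
    show e ((lin A a, 0), 0) = lin B (e ((a, 0), 0))
    rw [hBp, map_zero, map_zero]

end Cfsg.Agent.Classical.IsoInvariant.Herm
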