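import Mathlib
import Cfsg.Agent.Lib.Classical.IsoInvariant.HermModel
import Cfsg.Agent.Lib.Classical.PowScalarClasses

/-!
# Invariant subspaces of semisimple unitary maps through their factor multisets
-/

set_option autoImplicit false
set_option linter.unusedSectionVars false

namespace Cfsg.Agent.Classical.IsoInvariant.Herm

open Module Polynomial Matrix
open Cfsg.Agent.Forms Cfsg.Agent.Classical.PowScalarClasses
open SUClassCount2481 (cd)

variable {F : Type*} [Field F] [Fintype F] {q : ℕ} (hF : Fintype.card F = q ^ 2) {n m k r : ℕ} {z : F}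

/-- `x` fixes a non-degenerate subspace of dimension `m` -/
def FixND (q m : ℕ) (x : GL (Fin n) F) : Prop :=
  ∃ W : Submodule F (Fin n → F), finrank F W = m ∧
    (∀ u ∈ W, u ≠ 0 → ∃ v ∈ W, Cfsg.hermForm n F q u v ≠ 0) ∧ W.map (lin x) ≤ W

/-- `x` fixes a totally isotropic subspace of dimension `m` -/
def FixTS (q m : ℕ) (x : GL (Fin n) F) : Prop :=
  ∃ W : Submodule F (Fin n → F), finrank F W = m ∧
    (∀ u ∈ W, ∀ v ∈ W, Cfsg.hermForm n F q u v = 0) ∧ W.map (lin x) ≤ W

theorem coeff_zero_of_dvd (hr : 0 < r) (hz : z ≠ 0) {p : F[X]} (h : p ∣ X ^ r - C z) : p.coeff 0 ≠ 0 := by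
  intro h0
  obtain ⟨g, hg⟩ := h
  have := congrArg (fun f : F[X] => f.coeff 0) hg
  simp [h0, hr.ne', coeff_X_pow, hr.ne, hz] at this

include hF

theorem z_ne_zero (hzq : z ^ (q + 1) = 1) : z ≠ 0 := fun h => by simp [h] at hzq

theorem cd_binom (hr : 0 < r) (hzq : z ^ (q + 1) = 1) : cd hF (X ^ r - C z) = X ^ r - C z := by
  have hz := z_ne_zero hF hzq
  have h0 : (X ^ r - C z).coeff 0 ≠ 0 := by simp [coeff_X_pow, hr.ne, hr.ne', hz]
  have hd : (X ^ r - C z).natDegree = r := natDegree_X_pow_sub_C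
  ext i
  rcases le_or_gt i r with hi | hi
  · rw [SUClassCount2481.coeff_cd hF h0 (by rw [hd]; exact hi), hd]
    have hq : q ≠ 0 := Unitary.q_ne_zero hF
    have hneg : (-z) ^ q = -(z ^ q) := by
      rw [← HermStd.qHom_apply hF, map_neg, HermStd.qHom_apply]
    have hzz : (z ^ q)⁻¹ = z := inv_eq_of_mul_eq_one_left (by rw [← pow_succ']; exact hzq)
    rcases Nat.eq_zero_or_pos i with rfl | hi0
    · rw [Nat.sub_zero]
      simp [coeff_X_pow, coeff_C, hr.ne, hr.ne', hneg, inv_neg, hzz]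
    · rcases eq_or_ne i r with rfl | hne
      · rw [Nat.sub_self]
        simp [coeff_X_pow, hr.ne, hr.ne', hneg, hz, inv_neg, coeff_C, hi0.ne']
      · simp [coeff_X_pow, coeff_C, hne, hi0.ne', show r - i ≠ r by omega, show r - i ≠ 0 by omega, zero_pow hq]
  · rw [coeff_eq_zero_of_natDegree_lt, coeff_eq_zero_of_natDegree_lt]
    · omega
    · rw [SUClassCount2481.natDegree_cd hF h0]; omega

theorem cd_multiset_prod (s : Multiset F[X]) : cd hF s.prod = (s.map (cd hF)).prod := by
  induction s using Multiset.induction with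
  | empty => simp [SUClassCount2481.cd_one hF]
  | cons p s ih => rw [Multiset.map_cons, Multiset.prod_cons, Multiset.prod_cons, SUClassCount2481.cd_mul, ih]

/-- the factors that are allowed -/
theorem cd_factor (hr : 0 < r) (hzq : z ^ (q + 1) = 1) {p : F[X]}
    (hp : p.Monic ∧ Irreducible p ∧ p ∣ X ^ r - C z) :
    ((cd hF p).Monic ∧ Irreducible (cd hF p) ∧ cd hF p ∣ X ^ r - C z) ∧ (cd hF p).natDegree = p.natDegree ∧
      cd hF (cd hF p) = p := by
  have h0 := coeff_zero_of_dvd hr (z_ne_zero hF hzq) hp.2.2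
  refine ⟨⟨SUClassCount2481.cd_monic hF h0, SUClassCount2481.cd_irreducible hF hp.1 h0 hp.2.1, ?_⟩,
    SUClassCount2481.natDegree_cd hF h0, SUClassCount2481.cd_cd hF hp.1 h0⟩
  obtain ⟨g, hg⟩ := hp.2.2
  rw [← cd_binom hF hr hzq, hg, SUClassCount2481.cd_mul]
  exact dvd_mul_right _ _

theorem admissible_map_cd (hr : 0 < r) (hzq : z ^ (q + 1) = 1) {s : Multiset F[X]} (hs : Admissible r n z s) :
    Admissible r n z (s.map (cd hF)) := by
  refine ⟨fun p hp => ?_, ?_⟩
  · obtain ⟨p', hp', rfl⟩ := Multiset.mem_map.1 hp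
    exact (cd_factor hF hr hzq (hs.1 p' hp')).1
  · rw [Multiset.map_map, ← hs.2]
    exact congrArg Multiset.sum (Multiset.map_congr rfl fun p hp => (cd_factor hF hr hzq (hs.1 p hp)).2.1)

theorem map_cd_cd (hr : 0 < r) (hzq : z ^ (q + 1) = 1) {s : Multiset F[X]} (hs : Admissible r n z s) :
    (s.map (cd hF)).map (cd hF) = s := by
  rw [Multiset.map_map]
  conv_rhs => rw [← Multiset.map_id s]
  exact Multiset.map_congr rfl fun p hp => (cd_factor hF hr hzq (hs.1 p hp)).2.2

theorem inv_of_charpoly (hr : 0 < r) (hzq : z ^ (q + 1) = 1) {x : GL (Fin n) F} (hx : x ∈ Cfsg.GU n F q)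
    {s : Multiset F[X]} (hs : Admissible r n z s) (hχ : (x : Matrix (Fin n) (Fin n) F).charpoly = s.prod) :
    s.map (cd hF) = s := by
  refine eq_of_prod_eq (admissible_map_cd hF hr hzq hs) hs ?_
  rw [← cd_multiset_prod hF, ← hχ, cd_charpoly_of_mem hF hx]

omit hF in
theorem admissible_add {a b : ℕ} {s t : Multiset F[X]} (hs : Admissible r a z s) (ht : Admissible r b z t) :
    Admissible r (a + b) z (s + t) :=
  ⟨fun p hp => (Multiset.mem_add.1 hp).elim (hs.1 p) (ht.1 p), by
    rw [Multiset.map_add, Multiset.sum_add, hs.2, ht.2]⟩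

/-- every self-dual admissible multiset occurs in the unitary group -/
theorem exists_elt (hr : (r : F) ≠ 0) (hzq : z ^ (q + 1) = 1) {s : Multiset F[X]} (hs : Admissible r k z s)
    (hinv : s.map (cd hF) = s) :
    ∃ y : GL (Fin k) F, y ∈ Cfsg.GU k F q ∧ (y : Matrix (Fin k) (Fin k) F) ^ r = z • 1 ∧
      (y : Matrix (Fin k) (Fin k) F).charpoly = s.prod := by
  have hz := z_ne_zero hF hzq
  have hr0 : 0 < r := Nat.pos_of_ne_zero fun h => hr (by rw [h, Nat.cast_zero])
  obtain ⟨M, hM, hMc⟩ := exists_matrix r z s hs.1 k hs.2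
  have hMu : IsUnit M := by
    refine IsUnit.of_mul_eq_one (z⁻¹ • M ^ (r - 1)) ?_
    rw [mul_smul_comm, ← pow_succ', Nat.sub_add_cancel hr0, hM, smul_smul, inv_mul_cancel₀ hz, one_smul]
  obtain ⟨A, rfl⟩ := hMu
  have hT : ((SUClassCount2481.theta hF A : GL (Fin k) F) : Matrix (Fin k) (Fin k) F) ^ r = z • 1 := by
    have h1 : A ^ r = Units.map (Matrix.scalar (Fin k)).toMonoidHom (Units.mk0 z hz) := Units.ext (by
      rw [Units.val_pow_eq_pow_val, hM, Units.coe_map]
      show z • (1 : Matrix (Fin k) (Fin k) F) = Matrix.scalar (Fin k) z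
      exact (Matrix.smul_one_eq_diagonal z).trans rfl)
    rw [← Units.val_pow_eq_pow_val, ← map_pow, h1]
    set u : GL (Fin k) F := Units.map (Matrix.scalar (Fin k)).toMonoidHom (Units.mk0 z hz) with hu
    have hu' : (u : Matrix (Fin k) (Fin k) F) = z • 1 := by
      rw [← hM, ← Units.val_pow_eq_pow_val, h1]
    have h2 : u ∈ Cfsg.GU k F q := mem_GU.2 fun a b => by
      simp only [lin, hu', Matrix.toLin'_apply, Matrix.smul_mulVec, Matrix.one_mulVec]
      rw [Unitary.H_smul_left, Unitary.H_smul_right, ← mul_assoc, ← pow_succ', hzq, one_mul]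
    rw [(SUClassCount2481.mem_iff hF u).1 h2, hu']
  obtain ⟨⟨B, hB⟩, hc⟩ := (Cfsg.Agent.S2588.result hF A).2 (by
    obtain ⟨c, hc⟩ := isConj_iff.1 (isConj_of_charpoly hr hz hM hT (by
      rw [charpoly_theta hF, hMc, cd_multiset_prod hF, hinv]))
    have hTv : ((SUClassCount2481.theta hF A : GL (Fin k) F) : Matrix (Fin k) (Fin k) F) =
        (UnitaryConj.adj hF (A : Matrix (Fin k) (Fin k) F))⁻¹ := by
      rw [← SUClassCount2481.val_theta_inv, ← Matrix.coe_units_inv, inv_inv]
    show IsConj (A : Matrix (Fin k) (Fin k) F) (UnitaryConj.adj hF (A : Matrix (Fin k) (Fin k) F))⁻¹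
    rw [← hTv, ← hc]
    exact ⟨c, by show _ * _ = _ * _; simp⟩)
  obtain ⟨c, hc⟩ := isConj_iff.1 (show IsConj A B from hc)
  refine ⟨B, hB, ?_, ?_⟩
  · rw [← hc, ← Units.val_pow_eq_pow_val, conj_pow, Units.val_mul, Units.val_mul, Units.val_pow_eq_pow_val, hM,
      mul_smul_comm, mul_one, smul_mul_assoc, Units.mul_inv]
  · rw [← hc, Units.val_mul, Units.val_mul, Matrix.coe_units_inv, Matrix.charpoly_units_conj, hMc]

omit hF in
theorem pow_of_block {M N : Type*} [AddCommGroup M] [Module F M] [AddCommGroup N] [Module F N]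
    (f : (M × N) ≃ₗ[F] (Fin n → F)) (g : GL (Fin n) F) (A : M →ₗ[F] M) (B : N →ₗ[F] N)
    (h : ∀ p : M × N, lin g (f p) = f (A p.1, B p.2)) (hA : ∀ u, (A ^ r) u = z • u) (hB : ∀ u, (B ^ r) u = z • u) :
    (g : Matrix (Fin n) (Fin n) F) ^ r = z • 1 := by
  have hpow : ∀ (j : ℕ) (p : M × N), ((lin g) ^ j) (f p) = f ((A ^ j) p.1, (B ^ j) p.2) := by
    intro j
    induction j with
    | zero => intro p; rfl
    | succ j ih =>
      intro p
      rw [pow_succ', pow_succ', pow_succ', Module.End.mul_apply, ih, h]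
      rfl
  refine Matrix.toLin'.injective (LinearMap.ext fun v => ?_)
  obtain ⟨p, rfl⟩ := f.surjective v
  rw [Matrix.toLin'_pow, hpow, hA, hB, Matrix.toLin'_apply, Matrix.smul_mulVec, Matrix.one_mulVec, ← map_smul]
  rfl

omit hF in
theorem lin_pow_apply {A : GL (Fin n) F} (hA : (A : Matrix (Fin n) (Fin n) F) ^ r = z • 1) (u : Fin n → F) :
    ((lin A) ^ r) u = z • u := by
  rw [lin, ← Matrix.toLin'_pow, hA, Matrix.toLin'_apply, Matrix.smul_mulVec, Matrix.one_mulVec]

/-- **non-degenerate invariant subspaces of a semisimple element** -/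
theorem fixND_iff (hr : (r : F) ≠ 0) (hzq : z ^ (q + 1) = 1) {x : GL (Fin n) F} (hx : x ∈ Cfsg.GU n F q)
    (hxr : (x : Matrix (Fin n) (Fin n) F) ^ r = z • 1) {s : Multiset F[X]} (hs : Admissible r n z s)
    (hχ : (x : Matrix (Fin n) (Fin n) F).charpoly = s.prod) :
    FixND q m x ↔ ∃ t, t ≤ s ∧ t.map (cd hF) = t ∧ (t.map natDegree).sum = m := by
  have hz := z_ne_zero hF hzq
  have hr0 : 0 < r := Nat.pos_of_ne_zero fun h => hr (by rw [h, Nat.cast_zero])
  constructor
  · rintro ⟨W, hd, hW, hi⟩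
    have hmn : m ≤ n := hd ▸ (Submodule.finrank_le W).trans (by rw [Module.finrank_fin_fun])
    obtain ⟨y₁, y₂, f, h1, h2, hf⟩ := split_nd hF hx hW hd hi
    have hy₁ : (y₁ : Matrix (Fin m) (Fin m) F) ^ r = z • 1 :=
      pull_pow (a := f.toLinearMap ∘ₗ LinearMap.inl F _ _) (f.injective.comp fun a b h => (Prod.ext_iff.1 h).1)
        (fun u => by
          show lin x (f (u, 0)) = f (lin y₁ u, 0)
          rw [hf, map_zero]) hxr
    have hy₂ : (y₂ : Matrix (Fin (n - m)) (Fin (n - m)) F) ^ r = z • 1 :=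
      pull_pow (a := f.toLinearMap ∘ₗ LinearMap.inr F _ _) (f.injective.comp fun a b h => (Prod.ext_iff.1 h).2)
        (fun u => by
          show lin x (f (0, u)) = f (0, lin y₂ u)
          rw [hf, map_zero]) hxr
    obtain ⟨t, ht, htc⟩ := admissible_factors hr hz hy₁
    obtain ⟨u, hu, huc⟩ := admissible_factors hr hz hy₂
    have hadd := admissible_add ht hu
    rw [Nat.add_sub_cancel' hmn] at hadd
    have hstu : s = t + u := eq_of_prod_eq hs hadd (by
      rw [Multiset.prod_add, ← hχ, charpoly_of_equiv f x (lin y₁) (lin y₂) hf, ← htc, ← huc, lin, lin,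
        Matrix.charpoly_toLin', Matrix.charpoly_toLin'])
    exact ⟨t, hstu ▸ Multiset.le_add_right _ _, inv_of_charpoly hF hr0 hzq h1 ht htc, ht.2⟩
  · rintro ⟨t, hle, hti, htd⟩
    obtain ⟨u, rfl⟩ := Multiset.le_iff_exists_add.1 hle
    have hinv := inv_of_charpoly hF hr0 hzq hx hs hχ
    rw [Multiset.map_add, hti, add_right_inj] at hinv
    have ht : Admissible r m z t := ⟨fun p hp => hs.1 p (Multiset.mem_add.2 (Or.inl hp)), htd⟩
    obtain ⟨k, hk⟩ : ∃ k, (u.map natDegree).sum = k := ⟨_, rfl⟩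
    have hu : Admissible r k z u := ⟨fun p hp => hs.1 p (Multiset.mem_add.2 (Or.inr hp)), hk⟩
    have hn : n = m + k := by rw [← hs.2, Multiset.map_add, Multiset.sum_add, htd, hk]
    subst hn
    obtain ⟨y₁, h1, h1r, h1c⟩ := exists_elt hF hr hzq ht hti
    obtain ⟨y₂, h2, h2r, h2c⟩ := exists_elt hF hr hzq hu hinv
    obtain ⟨B, hB, hBe, W, hWd, hW, hWi⟩ := exists_block hF h1 h2
    have hBr := pow_of_block (appendL F m k) B (lin y₁) (lin y₂) hBe (lin_pow_apply h1r) (lin_pow_apply h2r)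
    have hBc := charpoly_of_equiv (appendL F m k) B (lin y₁) (lin y₂) hBe
    rw [lin, lin, Matrix.charpoly_toLin', Matrix.charpoly_toLin', h1c, h2c, ← Multiset.prod_add] at hBc
    obtain ⟨W', hW'd, hW', hW'i⟩ := fixes_nd hF hx hB (isConj_of_charpoly hr hz hBr hxr (hBc.trans hχ.symm)) hW hWi
    exact ⟨W', hW'd.trans hWd, hW', hW'i⟩

/-- **totally isotropic invariant subspaces of a semisimple element** -/
theorem fixTS_iff (hr : (r : F) ≠ 0) (hzq : z ^ (q + 1) = 1) {x : GL (Fin n) F} (hx : x ∈ Cfsg.GU n F q)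
    (hxr : (x : Matrix (Fin n) (Fin n) F) ^ r = z • 1) {s : Multiset F[X]} (hs : Admissible r n z s)
    (hχ : (x : Matrix (Fin n) (Fin n) F).charpoly = s.prod) :
    FixTS q m x ↔ ∃ t, t + t.map (cd hF) ≤ s ∧ (t.map natDegree).sum = m := by
  have hz := z_ne_zero hF hzq
  have hr0 : 0 < r := Nat.pos_of_ne_zero fun h => hr (by rw [h, Nat.cast_zero])
  constructor
  · rintro ⟨W, hd, hW, hi⟩
    obtain ⟨h2m, A, y, hy, hAr, hyr, hc⟩ := split_ts hF hx hr hz hxr hW hd hi
    obtain ⟨t, ht, htc⟩ := admissible_factors hr hz hAr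
    obtain ⟨u, hu, huc⟩ := admissible_factors hr hz hyr
    have hadd := admissible_add (admissible_add ht (admissible_map_cd hF hr0 hzq ht)) hu
    rw [← two_mul, Nat.add_sub_cancel' h2m] at hadd
    have hstu : s = t + t.map (cd hF) + u := eq_of_prod_eq hs hadd (by
      rw [Multiset.prod_add, Multiset.prod_add, ← cd_multiset_prod hF, ← htc, ← huc, ← hχ, hc])
    exact ⟨t, hstu ▸ Multiset.le_add_right _ _, ht.2⟩
  · rintro ⟨t, hle, htd⟩
    obtain ⟨u, rfl⟩ := Multiset.le_iff_exists_add.1 hle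
    have ht : Admissible r m z t :=
      ⟨fun p hp => hs.1 p (Multiset.mem_add.2 (Or.inl (Multiset.mem_add.2 (Or.inl hp)))), htd⟩
    have hinv := inv_of_charpoly hF hr0 hzq hx hs hχ
    rw [Multiset.map_add, Multiset.map_add, map_cd_cd hF hr0 hzq ht, add_comm (t.map (cd hF)) t,
      add_right_inj] at hinv
    obtain ⟨k, hk⟩ : ∃ k, (u.map natDegree).sum = k := ⟨_, rfl⟩
    have hu : Admissible r k z u := ⟨fun p hp => hs.1 p (Multiset.mem_add.2 (Or.inr hp)), hk⟩
    have hn : n = m + m + k := by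
      rw [← hs.2, Multiset.map_add, Multiset.map_add, Multiset.sum_add, Multiset.sum_add, htd, hk,
        (admissible_map_cd hF hr0 hzq ht).2]
    subst hn
    obtain ⟨M, hM, hMc⟩ := exists_matrix r z t ht.1 m ht.2
    have hMu : IsUnit M := by
      refine IsUnit.of_mul_eq_one (z⁻¹ • M ^ (r - 1)) ?_
      rw [mul_smul_comm, ← pow_succ', Nat.sub_add_cancel hr0, hM, smul_smul, inv_mul_cancel₀ hz, one_smul]
    obtain ⟨A, rfl⟩ := hMu
    obtain ⟨y, hy, hyr, hyc⟩ := exists_elt hF hr hzq hu hinv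
    obtain ⟨B, e, hB, hBe, W, hWd, hW, hWi⟩ := exists_ts_block hF A hy
    have hTr : ((SUClassCount2481.theta hF A : GL (Fin m) F) : Matrix (Fin m) (Fin m) F) ^ r = z • 1 := by
      refine Matrix.toLin'.injective (LinearMap.ext fun v => ?_)
      rw [Matrix.toLin'_pow, Matrix.toLin'_apply, Matrix.smul_mulVec, Matrix.one_mulVec]
      refine sub_eq_zero.1 (Unitary.eq_zero_of_H hF fun w => (Unitary.H_eq_zero_comm hF).1 ?_)
      have hT : ∀ (j : ℕ) u v, Cfsg.hermForm m F q (((lin A) ^ j) u)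
          (((lin (SUClassCount2481.theta hF A)) ^ j) v) = Cfsg.hermForm m F q u v := by
        intro j
        induction j with
        | zero => intro u v; rfl
        | succ j ih => intro u v; rw [pow_succ', pow_succ', Module.End.mul_apply, Module.End.mul_apply, H_theta hF, ih]
      have h1 := hT r (z⁻¹ • w) v
      rw [lin_pow_apply hM, smul_smul, mul_inv_cancel₀ hz, one_smul] at h1
      rw [Unitary.H_sub_right hF, h1, Unitary.H_smul_right, Unitary.H_smul_left, sub_eq_zero]
      congr 1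
      exact inv_eq_of_mul_eq_one_right (by rw [← pow_succ']; exact hzq)
    have hBr := pow_of_block e B ((lin A).prodMap (lin (SUClassCount2481.theta hF A))) (lin y) hBe (fun p => by
      have hp : ∀ j : ℕ, ((lin A).prodMap (lin (SUClassCount2481.theta hF A))) ^ j =
          ((lin A) ^ j).prodMap ((lin (SUClassCount2481.theta hF A)) ^ j) := fun j => by
        induction j with
        | zero => rfl
        | succ j ih => rw [pow_succ, pow_succ, pow_succ, ih]; rfl
      rw [hp, LinearMap.prodMap_apply, lin_pow_apply hM, lin_pow_apply hTr]; rfl) (lin_pow_apply hyr)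
    have hBc := charpoly_of_equiv e B ((lin A).prodMap (lin (SUClassCount2481.theta hF A))) (lin y) hBe
    rw [LinearMap.charpoly_prodMap, lin, lin, lin, Matrix.charpoly_toLin', Matrix.charpoly_toLin',
      Matrix.charpoly_toLin', charpoly_theta hF, hMc, hyc, cd_multiset_prod hF, ← Multiset.prod_add,
      ← Multiset.prod_add] at hBc
    obtain ⟨W', hW'd, hW', hW'i⟩ := fixes_ts hF hx hB (isConj_of_charpoly hr hz hBr hxr (hBc.trans hχ.symm)) hW hWi
    exact ⟨W', hW'd.trans hWd, hW', hW'i⟩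

end Cfsg.Agent.Classical.IsoInvariant.Herm
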