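import Mathlib
import Cfsg.Agent.Lib.Classical.IsoInvariant.HermSemi
import Cfsg.Agent.Lib.Classical.IsoInvariant.HermPairs
import Cfsg.Agent.Lib.Classical.OrthPrimeClasses

/-!
# Elements of order `r` of a unitary group: the duality on the factors and the two criteria
-/

set_option autoImplicit false
set_option linter.unusedSectionVars false

namespace Cfsg.Agent.Classical.IsoInvariant.Herm

open Module Polynomial Matrix
open Cfsg.Agent.Forms Cfsg.Agent.Classical.PowScalarClasses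
open SUClassCount2481 (cd)
open Cfsg.Agent.Classical.StarFactor (Fac)
open Cfsg.Agent.Classical.OrthPrimeClasses (Setting ne_of_pos)

variable {F : Type*} [Field F] [Fintype F] {q : ℕ} (hF : Fintype.card F = q ^ 2) {n m r b : ℕ}

omit [Fintype F] in
theorem sd_iff {r q : ℕ} [hr : Fact r.Prime] (hr2 : r ≠ 2) (hq : (q : ZMod r) ≠ 0) :
    (∃ j : ℕ, (q : ZMod r) ^ (2 * j) = -(q : ZMod r)) ↔ orderOf (q : ZMod r) % 4 = 2 := by
  set i := orderOf (q : ZMod r) with hi
  have hne : (-1 : ZMod r) ≠ 1 := by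
    intro h
    have h2 : ((2 : ℕ) : ZMod r) = 0 := by push_cast; linear_combination -h
    exact hr2 ((Nat.prime_dvd_prime_iff_eq hr.out Nat.prime_two).1 ((ZMod.natCast_eq_zero_iff 2 r).1 h2))
  have hpos : 0 < i := orderOf_pos_iff.2 ((isUnit_iff_ne_zero.2 hq).isOfFinOrder)
  constructor
  · rintro ⟨j, hj⟩
    have he : (q : ZMod r) ^ (2 * j + 2 * i - 1) = -1 := by
      refine mul_right_cancel₀ hq ?_
      rw [← pow_succ, show 2 * j + 2 * i - 1 + 1 = 2 * j + 2 * i by omega, pow_add, hj, two_mul i, pow_add,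
        pow_orderOf_eq_one]
      ring
    have hnd : ¬ i ∣ 2 * j + 2 * i - 1 := fun h => hne (he.symm.trans (orderOf_dvd_iff_pow_eq_one.1 h))
    have hd : i ∣ 2 * (2 * j + 2 * i - 1) := orderOf_dvd_iff_pow_eq_one.2 (by
      rw [mul_comm, pow_mul, he, neg_one_sq])
    rcases Nat.even_or_odd' i with ⟨h, h2 | h2⟩
    · rw [h2] at hd
      have := Nat.dvd_of_mul_dvd_mul_left two_pos hd
      have ho : Odd h := Odd.of_dvd_nat ⟨j + i - 1, by omega⟩ this
      rw [Nat.odd_iff] at ho
      omega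
    · exact absurd (((Nat.coprime_two_right.2 ⟨h, h2⟩).dvd_of_dvd_mul_left hd)) hnd
  · intro h4
    obtain ⟨h, hh⟩ : ∃ h, i = 4 * h + 2 := ⟨i / 4, by omega⟩
    have he : (q : ZMod r) ^ (2 * h + 1) = -1 := by
      have h1 : ((q : ZMod r) ^ (2 * h + 1)) ^ 2 = 1 := by
        rw [← pow_mul, show (2 * h + 1) * 2 = i by omega, pow_orderOf_eq_one]
      rcases sq_eq_one_iff.1 h1 with h1 | h1
      · have := Nat.le_of_dvd (by omega) (orderOf_dvd_of_pow_eq_one h1)
        omega
      · exact h1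
    exact ⟨h + 1, by rw [show 2 * (h + 1) = 2 * h + 1 + 1 by ring, pow_succ, he, neg_one_mul]⟩

include hF

theorem cd_eq_iff [hr : Fact r.Prime] (hset : Setting F r b) {p : F[X]} (hp : Fac r p) :
    cd hF p = p ↔ orderOf (q : ZMod r) % 4 = 2 := by
  classical
  have hq2 := HermStd.one_lt_q hF
  have hqr : (q : ZMod r) ≠ 0 := fun h => by
    have hb := ne_of_pos hset
    rw [← hset.ord, hF, Nat.cast_pow, h, zero_pow two_ne_zero, orderOf_zero] at hb
    exact lt_irrefl 0 hb
  rw [← sd_iff hset.ne_two hqr]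
  haveI : Fact (Irreducible p) := ⟨hp.irr⟩
  haveI : Module.Finite F (AdjoinRoot p) := (AdjoinRoot.powerBasis hp.irr.ne_zero).finite
  set K := AdjoinRoot p
  set ζ : K := AdjoinRoot.root p with hζdef
  obtain ⟨p₀, hp₀⟩ := CharP.exists F
  haveI := hp₀
  haveI : Fact p₀.Prime := ⟨CharP.char_is_prime F p₀⟩
  haveI : CharP K p₀ := charP_of_injective_algebraMap (algebraMap F K).injective p₀
  obtain ⟨k, -, hk⟩ := FiniteField.card F p₀
  obtain ⟨j₀, -, hj₀⟩ := (Nat.dvd_prime_pow (Fact.out : p₀.Prime)).1 (hk ▸ hF ▸ dvd_pow_self q two_ne_zero)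
  haveI : ExpChar K p₀ := ExpChar.prime Fact.out
  let φ : K →+* K := iterateFrobenius K p₀ j₀
  have hφ : ∀ x : K, φ x = x ^ q := fun x => by rw [iterateFrobenius_def, hj₀]
  have hζr : ζ ^ r = 1 := StarFactor.root_pow r hp.dvd
  have haev : aeval ζ p = 0 := by rw [aeval_def]; exact AdjoinRoot.eval₂_root p
  have hζ1 : ζ ≠ 1 := fun h => by
    rw [h, ← map_one (algebraMap F K), aeval_algebraMap_apply, map_eq_zero_iff _ (algebraMap F K).injective,
      coe_aeval_eq_eval] at haev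
    exact hp.ne (eq_of_monic_of_associated hp.monic (monic_X_sub_C 1)
      ((irreducible_X_sub_C (1 : F)).associated_of_dvd hp.irr (dvd_iff_isRoot.2 haev)).symm)
  have hord : orderOf ζ = r := orderOf_eq_prime hζr hζ1
  have hζ0 : ζ ≠ 0 := fun h => by rw [h, zero_pow hr.out.ne_zero] at hζr; exact zero_ne_one hζr
  have hexp : ∀ a c : ℕ, ζ ^ a = ζ ^ c ↔ (a : ZMod r) = c := fun a c => by
    rw [ZMod.natCast_eq_natCast_iff, ← hord]
    have h := pow_inj_mod (x := Units.mk0 ζ hζ0) (n := a) (m := c)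
    rw [← orderOf_units, Units.val_mk0, ← Units.val_inj, Units.val_pow_eq_pow_val, Units.val_pow_eq_pow_val,
      Units.val_mk0] at h
    exact h.trans Iff.rfl
  -- the roots
  have hF' : ∀ (x : K) (j : ℕ), aeval x p = 0 → aeval (x ^ (Fintype.card F) ^ j) p = 0 := by
    intro x j hx
    induction j generalizing x with
    | zero => simpa using hx
    | succ j ih =>
      rw [pow_succ', pow_mul]
      refine ih _ ?_
      have := congrArg (FiniteField.frobeniusAlgHom F K) hx
      rwa [← aeval_algHom_apply, map_zero, FiniteField.coe_frobeniusAlgHom] at this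
  have hroots : ∀ x : K, aeval x p = 0 → ∃ j : ℕ, x = ζ ^ q ^ (2 * j) := by
    intro x hx
    by_contra hno
    push Not at hno
    let S : Finset K := insert x ((Finset.range b).image fun j => ζ ^ q ^ (2 * j))
    have hS : ∀ y ∈ S, y ∈ p.aroots K := fun y hy => by
      rw [mem_aroots]
      refine ⟨hp.irr.ne_zero, ?_⟩
      rcases Finset.mem_insert.1 hy with rfl | hy
      · exact hx
      · obtain ⟨j, -, rfl⟩ := Finset.mem_image.1 hy
        rw [pow_mul, ← hF]
        exact hF' ζ j haev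
    have hcard : S.card ≤ b := by
      refine (Finset.card_le_card (fun y hy => Multiset.mem_toFinset.2 (hS y hy))).trans ?_
      refine (Multiset.toFinset_card_le _).trans ?_
      rw [← hset.deg p hp]
      exact (card_roots' _).trans (natDegree_map _).le
    rw [Finset.card_insert_of_notMem (fun h => by
        obtain ⟨j, -, hj⟩ := Finset.mem_image.1 h
        exact hno j hj.symm), Finset.card_image_of_injOn, Finset.card_range] at hcard
    · omega
    · intro a ha c hc hac
      simp only [Finset.coe_range, Set.mem_Iio] at ha hc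
      have h1 := (hexp _ _).1 hac
      rw [Nat.cast_pow, Nat.cast_pow, pow_mul, pow_mul, ← Nat.cast_pow, ← hF] at h1
      exact pow_injOn_Iio_orderOf (by rw [Set.mem_Iio, hset.ord]; exact ha) (by rw [Set.mem_Iio, hset.ord]; exact hc) h1
  -- the dual root
  have hp0 : p.coeff 0 ≠ 0 := coeff_zero_of_dvd hr.out.pos one_ne_zero hp.dvd
  obtain ⟨hcd, -, -⟩ := cd_factor hF hr.out.pos (z := (1 : F)) (one_pow _) ⟨hp.monic, hp.irr, hp.dvd⟩
  have hdual : aeval (ζ ^ q)⁻¹ (cd hF p) = 0 := by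
    have h1 : eval₂ (algebraMap F K) (ζ ^ q) (p.map (HermStd.qHom hF)) = 0 := by
      have hcomp : (algebraMap F K).comp (HermStd.qHom hF) = φ.comp (algebraMap F K) :=
        RingHom.ext fun a => by simp [hφ]
      rw [eval₂_map, hcomp, ← hφ, ← hom_eval₂, ← aeval_def, haev, map_zero]
    letI : Invertible (ζ ^ q) := invertibleOfNonzero (pow_ne_zero q hζ0)
    have h2 := (eval₂_reverse_eq_zero_iff (algebraMap F K) (ζ ^ q) (p.map (HermStd.qHom hF))).2 h1
    rw [invOf_eq_inv] at h2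
    rw [SUClassCount2481.cd_eq hF hp0, map_mul, aeval_def, h2, zero_mul]
  have hconv : ∀ j : ℕ, (ζ ^ q)⁻¹ = ζ ^ q ^ (2 * j) ↔ (q : ZMod r) ^ (2 * j) = -(q : ZMod r) := fun j => by
    rw [eq_comm, ← mul_eq_one_iff_eq_inv₀ (pow_ne_zero q hζ0), ← pow_add, ← orderOf_dvd_iff_pow_eq_one, hord,
      ← ZMod.natCast_eq_zero_iff, Nat.cast_add, Nat.cast_pow, add_eq_zero_iff_eq_neg']
    exact ⟨fun h => eq_neg_of_add_eq_zero_left (by linear_combination h), fun h => by rw [h, neg_neg]⟩
  constructor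
  · intro h
    obtain ⟨j, hj⟩ := hroots _ (h ▸ hdual)
    exact ⟨j, (hconv j).1 hj⟩
  · rintro ⟨j, hj⟩
    have h2 : aeval (ζ ^ q)⁻¹ p = 0 := by
      rw [(hconv j).2 hj, pow_mul, ← hF]
      exact hF' ζ j haev
    exact (minpoly.eq_of_irreducible_of_monic hcd.2.1 hdual hcd.1).trans
      (minpoly.eq_of_irreducible_of_monic hp.irr h2 hp.monic).symm

theorem cd_X_sub_one : cd hF (X - C (1 : F)) = X - C 1 := by
  have := cd_binom hF (r := 1) (z := (1 : F)) one_pos (one_pow _)
  rwa [pow_one] at this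

theorem invol [Fact r.Prime] (hset : Setting F r b) {P : Finset F[X]} (hP : ∀ x, x ∈ P ↔ Fac r x) :
    Invol (cd hF) P (orderOf (q : ZMod r) % 4 = 2) := by
  have hr : r.Prime := hset.prime
  have h1 : ∀ x, Fac r x → Fac r (cd hF x) ∧ cd hF (cd hF x) = x := fun x hx => by
    obtain ⟨h, -, hcc⟩ := cd_factor hF hr.pos (z := (1 : F)) (one_pow _) ⟨hx.monic, hx.irr, hx.dvd⟩
    exact ⟨⟨h.1, h.2.1, h.2.2, fun e => hx.ne (by rw [← hcc, e, cd_X_sub_one hF])⟩, hcc⟩
  exact ⟨fun x hx => (hP _).2 (h1 x ((hP x).1 hx)).1, fun x hx => (h1 x ((hP x).1 hx)).2,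
    fun h x hx => (cd_eq_iff hF hset ((hP x).1 hx)).2 h,
    fun h x hx e => h ((cd_eq_iff hF hset ((hP x).1 hx)).1 e)⟩

omit hF in
theorem admissible_parts (hset : Setting F r b) {S : Multiset F[X]} (hS : ∀ p ∈ S, Fac r p) {f : ℕ}
    (hn : f + b * Multiset.card S = n) : Admissible r n 1 (Multiset.replicate f (X - C 1) + S) := by
  refine ⟨fun p hp => ?_, ?_⟩
  · rcases Multiset.mem_add.1 hp with hp | hp
    · rw [Multiset.eq_of_mem_replicate hp]
      exact ⟨monic_X_sub_C 1, irreducible_X_sub_C 1, by rw [map_one]; exact sub_one_dvd_pow_sub_one _ _⟩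
    · exact ⟨(hS p hp).monic, (hS p hp).irr, (hS p hp).dvd⟩
  · rw [Multiset.map_add, Multiset.sum_add, Multiset.map_replicate, natDegree_X_sub_C, Multiset.sum_replicate,
      smul_eq_mul, mul_one, Multiset.map_congr rfl fun p hp => hset.deg p (hS p hp), Multiset.map_const',
      Multiset.sum_replicate, smul_eq_mul, mul_comm, hn]

/-- the shape of a self-dual multiset -/
theorem shape (hset : Setting F r b) {s : Multiset F[X]} (hs : Admissible r n 1 s) (hinv : s.map (cd hF) = s) :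
    ∃ (f : ℕ) (S : Multiset F[X]), s = Multiset.replicate f (X - C 1) + S ∧ (∀ p ∈ S, Fac r p) ∧
      S.map (cd hF) = S ∧ f + b * Multiset.card S = n := by
  classical
  set S := s.filter fun p => p ≠ X - C 1
  have hS : ∀ p ∈ S, Fac r p := fun p hp => by
    obtain ⟨hp, hne⟩ := Multiset.mem_filter.1 hp
    exact ⟨(hs.1 p hp).1, (hs.1 p hp).2.1, (hs.1 p hp).2.2, hne⟩
  have hst : s = Multiset.replicate (s.count (X - C 1)) (X - C 1) + S := by
    rw [← Multiset.filter_eq', Multiset.filter_add_not]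
  refine ⟨_, S, hst, hS, ?_, ?_⟩
  · rw [hst, Multiset.map_add, Multiset.map_replicate, cd_X_sub_one hF] at hinv
    exact add_left_cancel hinv
  · have h2 := hs.2
    rw [hst, Multiset.map_add, Multiset.sum_add, Multiset.map_replicate, natDegree_X_sub_C, Multiset.sum_replicate,
      smul_eq_mul, mul_one, Multiset.map_congr rfl fun p hp => hset.deg p (hS p hp), Multiset.map_const',
      Multiset.sum_replicate, smul_eq_mul, mul_comm] at h2
    exact h2

theorem det_pow_q {x : GL (Fin n) F} (hx : x ∈ Cfsg.GU n F q) :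
    (x : Matrix (Fin n) (Fin n) F).det ^ (q + 1) = 1 :=
  HermStd.det_norm hF _ hx

omit hF in
theorem det_pow_of_pow {x : GL (Fin n) F} {z : F} (hxr : (x : Matrix (Fin n) (Fin n) F) ^ r = z • 1) :
    (x : Matrix (Fin n) (Fin n) F).det ^ r = z ^ n := by
  rw [← Matrix.det_pow, hxr, Matrix.det_smul, Matrix.det_one, mul_one, Fintype.card_fin]

open _root_.Classical in
/-- the block size -/
noncomputable def csize (sd : Prop) (b : ℕ) : ℕ := if sd then b else 2 * b

variable [Fact r.Prime]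

/-- a shape test element -/
theorem exists_test_elt (hset : Setting F r b) (hmu : ∀ u : F, u ^ (q + 1) = 1 → u ^ r = 1 → u = 1)
    (hn : 0 < n) {S : Multiset F[X]} (hS : ∀ p ∈ S, Fac r p) (hS0 : S ≠ 0) (hinv : S.map (cd hF) = S) {f : ℕ}
    (hfn : f + b * Multiset.card S = n) :
    ∃ y : GL (Fin n) F, y ∈ Cfsg.GU n F q ∧ (y : Matrix (Fin n) (Fin n) F).det = 1 ∧
      (y : Matrix (Fin n) (Fin n) F) ^ r = (1 : F) • 1 ∧
      (∀ z : F, (y : Matrix (Fin n) (Fin n) F) ≠ z • 1) ∧
      (y : Matrix (Fin n) (Fin n) F).charpoly = (Multiset.replicate f (X - C 1) + S).prod := by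
  obtain ⟨y, hy, hyr, hyc⟩ := exists_elt hF hset.cast_ne (one_pow (q + 1)) (admissible_parts hset hS hfn) (by
    rw [Multiset.map_add, Multiset.map_replicate, cd_X_sub_one hF, hinv])
  refine ⟨y, hy, hmu _ (det_pow_q hF hy) (by rw [det_pow_of_pow hyr, one_pow]), hyr, fun z hz => ?_, hyc⟩
  obtain ⟨e⟩ : Nonempty (Fin n) := ⟨⟨0, hn⟩⟩
  have hne : (Pi.single e 1 : Fin n → F) e = 1 := Pi.single_eq_same _ _
  have h1 := mem_GU.1 hy (Pi.single e 1) (Pi.single e 1)
  simp only [lin, hz, Matrix.toLin'_apply, Matrix.smul_mulVec, Matrix.one_mulVec, Unitary.H_smul_left,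
    Unitary.H_smul_right, Unitary.H_single_right hF, hne, mul_one] at h1
  have hzr := congrArg (fun M : Matrix (Fin n) (Fin n) F => M e e) hyr
  rw [hz, _root_.smul_pow, one_pow, Matrix.smul_apply, Matrix.smul_apply, Matrix.one_apply_eq, smul_eq_mul,
    smul_eq_mul, mul_one, mul_one] at hzr
  simp only [Pi.smul_apply, hne, smul_eq_mul, mul_one] at h1
  have hz1 : z = 1 := hmu z (by rw [pow_succ]; exact h1) hzr
  rw [hz, hz1, one_smul, Matrix.charpoly_one] at hyc
  obtain ⟨p, hp⟩ := Multiset.exists_mem_of_ne_zero hS0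
  have h2 : p ∣ (X - 1 : F[X]) ^ Fintype.card (Fin n) :=
    hyc ▸ Multiset.dvd_prod (Multiset.mem_add.2 (Or.inr hp))
  refine (hS p hp).ne (eq_of_monic_of_associated (hS p hp).monic (monic_X_sub_C 1) ?_)
  exact (hS p hp).irr.associated_of_dvd (irreducible_X_sub_C 1)
    (by rw [map_one]; exact (hS p hp).irr.prime.dvd_of_dvd_pow h2)

theorem fixND_of_all (hset : Setting F r b) {P : Finset F[X]} (hP : ∀ x, x ∈ P ↔ Fac r x) (hmn : m ≤ n)
    (hall : AllND (csize (orderOf (q : ZMod r) % 4 = 2) b) n m) {y : GL (Fin n) F} (hy : y ∈ Cfsg.GU n F q)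
    (hyr : (y : Matrix (Fin n) (Fin n) F) ^ r = (1 : F) • 1) : FixND q m y := by
  classical
  obtain ⟨s, hs, hχ⟩ := admissible_factors hset.cast_ne one_ne_zero hyr
  obtain ⟨f, S, rfl, hS, hinv, hfn⟩ :=
    shape hF hset hs (inv_of_charpoly hF hset.prime.pos (one_pow _) hy hs hχ)
  rw [fixND_iff hF hset.cast_ne (one_pow _) hy hyr hs hχ]
  have hI := invol hF hset hP
  have hSP : ∀ p ∈ S, p ∈ P := fun p hp => (hP p).2 (hS p hp)
  suffices h : ∃ e, e ≤ Multiset.card S ∧ (¬ orderOf (q : ZMod r) % 4 = 2 → Even e) ∧ b * e ≤ m ∧ m - b * e ≤ f by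
    obtain ⟨e, he, hev, hem, hef⟩ := h
    obtain ⟨T, hT, hTinv, hTc⟩ := hI.exists_sub hSP hinv he hev
    refine ⟨Multiset.replicate (m - b * e) (X - C 1) + T,
      add_le_add ((Multiset.replicate_le_replicate _).2 hef) hT, by
        rw [Multiset.map_add, Multiset.map_replicate, cd_X_sub_one hF, hTinv], ?_⟩
    exact (admissible_parts hset (fun p hp => hS p (Multiset.mem_of_le hT hp)) (by rw [hTc]; omega)).2
  rcases Nat.eq_zero_or_pos (Multiset.card S) with h0 | h0
  · exact ⟨0, Nat.zero_le _, fun _ => Even.zero, by simp, by rw [h0] at hfn; omega⟩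
  by_cases hsd : orderOf (q : ZMod r) % 4 = 2
  · rw [csize, if_pos hsd] at hall
    obtain ⟨e, he, hem, hef⟩ := hall f _ hfn h0
    exact ⟨e, he, fun h => absurd hsd h, hem, hef⟩
  · rw [csize, if_neg hsd] at hall
    obtain ⟨A, hA⟩ := (hI.even_card hsd hSP hinv).two_dvd
    obtain ⟨e, he, hem, hef⟩ := hall f A (by rw [← hfn, hA]; ring) (by omega)
    refine ⟨2 * e, by omega, fun _ => even_two_mul e, ?_, ?_⟩ <;>
    · rw [← mul_assoc, mul_comm b 2]; omega

theorem allND_of_fix (hset : Setting F r b) {P : Finset F[X]} (hP : ∀ x, x ∈ P ↔ Fac r x) (hP0 : P.Nonempty)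
    (hmu : ∀ u : F, u ^ (q + 1) = 1 → u ^ r = 1 → u = 1) (hn : 0 < n)
    (H : ∀ y : GL (Fin n) F, y ∈ Cfsg.GU n F q → (y : Matrix (Fin n) (Fin n) F).det = 1 →
      (∃ z : F, (y : Matrix (Fin n) (Fin n) F) ^ r = z • 1) → (∀ z : F, (y : Matrix (Fin n) (Fin n) F) ≠ z • 1) →
      FixND q m y) :
    AllND (csize (orderOf (q : ZMod r) % 4 = 2) b) n m := by
  classical
  intro f A hfA hA
  have hI := invol hF hset hP
  obtain ⟨a, ha, hev, hca⟩ : ∃ a, b * a = csize (orderOf (q : ZMod r) % 4 = 2) b * A ∧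
      (¬ orderOf (q : ZMod r) % 4 = 2 → Even a) ∧ 0 < a := by
    by_cases hsd : orderOf (q : ZMod r) % 4 = 2
    · exact ⟨A, by rw [csize, if_pos hsd], fun h => absurd hsd h, hA⟩
    · exact ⟨2 * A, by rw [csize, if_neg hsd]; ring, fun _ => even_two_mul A, by omega⟩
  obtain ⟨S, hSP, hinv, hSc, -⟩ := hI.exists_test hP0 hev
  have hS : ∀ p ∈ S, Fac r p := fun p hp => (hP p).1 (hSP p hp)
  have hfn : f + b * Multiset.card S = n := by rw [hSc, ha]; exact hfA
  obtain ⟨y, hy, hdet, hyr, hns, hχ⟩ := exists_test_elt hF hset hmu hn hS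
    (fun h => by rw [h, Multiset.card_zero] at hSc; omega) hinv hfn
  obtain ⟨t, hle, htinv, htd⟩ := (fixND_iff hF hset.cast_ne (one_pow _) hy hyr (admissible_parts hset hS hfn) hχ).1
    (H y hy hdet ⟨1, hyr⟩ hns)
  have ht : Admissible r m 1 t := ⟨fun p hp => (admissible_parts hset hS hfn).1 p (Multiset.mem_of_le hle hp), htd⟩
  obtain ⟨l, T, rfl, hT, hTinv, hlm⟩ := shape hF hset ht htinv
  have hnot : ∀ {v : Multiset F[X]}, (∀ p ∈ v, Fac r p) → v.count (X - C 1) = 0 := fun hv =>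
    Multiset.count_eq_zero.2 fun h => (hv _ h).ne rfl
  have hlf : l ≤ f := by
    have h1 := Multiset.le_iff_count.1 hle (X - C 1)
    simp only [Multiset.count_add, Multiset.count_replicate_self, hnot hS, hnot hT] at h1
    omega
  have hTS : Multiset.card T ≤ Multiset.card S := by
    have h1 := Multiset.card_le_card (Multiset.filter_le_filter (fun p => p ≠ X - C 1) hle)
    have hfl : ∀ {l : ℕ} {v : Multiset F[X]}, (∀ p ∈ v, Fac r p) →
        (Multiset.replicate l (X - C 1) + v).filter (fun p => p ≠ X - C 1) = v := fun {l v} hv => by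
      rw [Multiset.filter_add, Multiset.filter_eq_nil.2 fun p hp => ?_,
        Multiset.filter_eq_self.2 fun p hp => (hv p hp).ne, zero_add]
      exact not_not.2 (Multiset.eq_of_mem_replicate hp)
    rwa [hfl hS, hfl hT] at h1
  rw [hSc] at hTS
  by_cases hsd : orderOf (q : ZMod r) % 4 = 2
  · rw [csize, if_pos hsd] at ha ⊢
    have := Nat.eq_of_mul_eq_mul_left (ne_of_pos hset) ha
    exact ⟨Multiset.card T, by omega, by omega, by omega⟩
  · rw [csize, if_neg hsd] at ha ⊢
    have h2 := hI.even_card hsd (fun p hp => (hP p).2 (hT p hp)) hTinv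
    obtain ⟨e, he⟩ := h2.two_dvd
    have : a = 2 * A := Nat.eq_of_mul_eq_mul_left (ne_of_pos hset) (by rw [ha]; ring)
    refine ⟨e, by omega, ?_, ?_⟩ <;>
    · rw [mul_comm 2 b, mul_assoc, ← he]; omega

theorem fixTS_of_all (hset : Setting F r b) {P : Finset F[X]} (hP : ∀ x, x ∈ P ↔ Fac r x) (hmn : 2 * m ≤ n)
    (hall : AllTS (orderOf (q : ZMod r) % 4 = 2) b P.card n m) {y : GL (Fin n) F} (hy : y ∈ Cfsg.GU n F q)
    (hyr : (y : Matrix (Fin n) (Fin n) F) ^ r = (1 : F) • 1) : FixTS q m y := by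
  classical
  obtain ⟨s, hs, hχ⟩ := admissible_factors hset.cast_ne one_ne_zero hyr
  obtain ⟨f, S, rfl, hS, hinv, hfn⟩ :=
    shape hF hset hs (inv_of_charpoly hF hset.prime.pos (one_pow _) hy hs hχ)
  rw [fixTS_iff hF hset.cast_ne (one_pow _) hy hyr hs hχ]
  have hI := invol hF hset hP
  have hSP : ∀ p ∈ S, p ∈ P := fun p hp => (hP p).2 (hS p hp)
  suffices h : ∃ j, j ≤ pr (orderOf (q : ZMod r) % 4 = 2) P.card (Multiset.card S) ∧ b * j ≤ m ∧
      2 * (m - b * j) ≤ f by
    obtain ⟨j, hj, hjm, hjf⟩ := h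
    obtain ⟨v, u, hvu, hvc, -⟩ := hI.exists_pairs j hSP hinv hj
    refine ⟨Multiset.replicate (m - b * j) (X - C 1) + v, ?_, ?_⟩
    · rw [Multiset.map_add, Multiset.map_replicate, cd_X_sub_one hF, hvu, add_add_add_comm,
        ← Multiset.replicate_add]
      exact add_le_add ((Multiset.replicate_le_replicate _).2 (by omega)) (Multiset.le_add_right _ _)
    · exact (admissible_parts hset (fun p hp => hS p (hvu ▸ Multiset.mem_add.2 (Or.inl (Multiset.mem_add.2
        (Or.inl hp))))) (by rw [hvc]; omega)).2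
  rcases Nat.eq_zero_or_pos (Multiset.card S) with h0 | h0
  · exact ⟨0, Nat.zero_le _, by simp, by rw [h0] at hfn; omega⟩
  exact hall f _ hfn h0 fun hsd => hI.even_card hsd hSP hinv

theorem allTS_of_fix (hset : Setting F r b) {P : Finset F[X]} (hP : ∀ x, x ∈ P ↔ Fac r x) (hP0 : P.Nonempty)
    (hmu : ∀ u : F, u ^ (q + 1) = 1 → u ^ r = 1 → u = 1) (hn : 0 < n)
    (H : ∀ y : GL (Fin n) F, y ∈ Cfsg.GU n F q → (y : Matrix (Fin n) (Fin n) F).det = 1 →
      (∃ z : F, (y : Matrix (Fin n) (Fin n) F) ^ r = z • 1) → (∀ z : F, (y : Matrix (Fin n) (Fin n) F) ≠ z • 1) →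
      FixTS q m y) :
    AllTS (orderOf (q : ZMod r) % 4 = 2) b P.card n m := by
  classical
  intro f a hfa ha hev
  have hI := invol hF hset hP
  obtain ⟨S, hSP, hinv, hSc, hSb⟩ := hI.exists_test hP0 hev
  have hS : ∀ p ∈ S, Fac r p := fun p hp => (hP p).1 (hSP p hp)
  have hfn : f + b * Multiset.card S = n := by rw [hSc]; exact hfa
  obtain ⟨y, hy, hdet, hyr, hns, hχ⟩ := exists_test_elt hF hset hmu hn hS
    (fun h => by rw [h, Multiset.card_zero] at hSc; omega) hinv hfn
  obtain ⟨t, hle, htd⟩ := (fixTS_iff hF hset.cast_ne (one_pow _) hy hyr (admissible_parts hset hS hfn) hχ).1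
    (H y hy hdet ⟨1, hyr⟩ hns)
  set T := t.filter fun p => p ≠ X - C 1
  have hTf : ∀ p ∈ T, Fac r p := fun p hp => by
    obtain ⟨hp, hne⟩ := Multiset.mem_filter.1 hp
    rcases Multiset.mem_add.1 (Multiset.mem_of_le hle (Multiset.mem_add.2 (Or.inl hp))) with h | h
    · exact absurd (Multiset.eq_of_mem_replicate h) hne
    · exact hS p h
  have hst : t = Multiset.replicate (t.count (X - C 1)) (X - C 1) + T := by
    rw [← Multiset.filter_eq', Multiset.filter_add_not]
  set l := t.count (X - C (1 : F))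
  have hTc : ∀ p ∈ T.map (cd hF), Fac r p := fun p hp => by
    obtain ⟨z, hz, rfl⟩ := Multiset.mem_map.1 hp
    exact (hP _).1 (hI.mem z ((hP z).2 (hTf z hz)))
  rw [hst, Multiset.map_add, Multiset.map_replicate, cd_X_sub_one hF, add_add_add_comm,
    ← Multiset.replicate_add] at hle
  have hnot : ∀ {v : Multiset F[X]}, (∀ p ∈ v, Fac r p) → v.count (X - C 1) = 0 := fun hv =>
    Multiset.count_eq_zero.2 fun h => (hv _ h).ne rfl
  have hlf : l + l ≤ f := by
    have h1 := Multiset.le_iff_count.1 hle (X - C 1)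
    simp only [Multiset.count_add, Multiset.count_replicate_self, hnot hS, hnot hTf, hnot hTc] at h1
    omega
  have hTS : T + T.map (cd hF) ≤ S := by
    have h1 := Multiset.filter_le_filter (fun p => p ≠ X - C 1) hle
    have hfl : ∀ {l : ℕ} {v : Multiset F[X]}, (∀ p ∈ v, Fac r p) →
        (Multiset.replicate l (X - C 1) + v).filter (fun p => p ≠ X - C 1) = v := fun {l v} hv => by
      rw [Multiset.filter_add, Multiset.filter_eq_nil.2 fun p hp => ?_,
        Multiset.filter_eq_self.2 fun p hp => (hv p hp).ne, zero_add]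
      exact not_not.2 (Multiset.eq_of_mem_replicate hp)
    rwa [hfl hS, hfl (fun p hp => (Multiset.mem_add.1 hp).elim (hTf p) (hTc p))] at h1
  have hdeg : l + b * Multiset.card T = m := by
    rw [← htd, hst]
    exact ((admissible_parts hset hTf rfl).2).symm
  exact ⟨Multiset.card T, hSb T hTS, by omega, by omega⟩

end Cfsg.Agent.Classical.IsoInvariant.Herm
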