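import Mathlib
import Cfsg.Agent.Lib.Classical.IsoInvariant.HermFree

/-!
# The numbers attached to a prime `r` in a unitary group
-/

set_option autoImplicit false
set_option linter.unusedSectionVars false

namespace Cfsg.Agent.Classical.IsoInvariant.Herm

variable {r q : ℕ} [hr : Fact r.Prime]

/-- `r` divides `q ^ a - (-1) ^ a` exactly when `c` divides `a` -/
theorem pow_eq_iff (hr2 : r ≠ 2) (hq : (q : ZMod r) ≠ 0) {i c : ℕ} (hi : i = orderOf (q : ZMod r))
    (hc : c = if i % 4 = 0 then i else if i % 4 = 2 then i / 2 else 2 * i) (a : ℕ) :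
    (q : ZMod r) ^ a = (-1) ^ a ↔ c ∣ a := by
  have hne : (-1 : ZMod r) ≠ 1 := by
    intro h
    have h2 : ((2 : ℕ) : ZMod r) = 0 := by push_cast; linear_combination -h
    exact hr2 ((Nat.prime_dvd_prime_iff_eq hr.out Nat.prime_two).1 ((ZMod.natCast_eq_zero_iff 2 r).1 h2))
  have hpos : 0 < i := hi ▸ orderOf_pos_iff.2 ((isUnit_iff_ne_zero.2 hq).isOfFinOrder)
  have hone : ∀ a : ℕ, (q : ZMod r) ^ a = 1 ↔ i ∣ a := fun a => by rw [hi, orderOf_dvd_iff_pow_eq_one]
  have hneg : ∀ a : ℕ, (q : ZMod r) ^ a = -1 → i ∣ 2 * a ∧ ¬ i ∣ a := fun a h =>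
    ⟨(hone _).1 (by rw [mul_comm, pow_mul, h, neg_one_sq]), fun h' => hne (h.symm.trans ((hone a).2 h'))⟩
  have hsd : ∀ h : ℕ, i = 2 * h → (q : ZMod r) ^ h = -1 := fun h hh => by
    have h1 : ((q : ZMod r) ^ h) ^ 2 = 1 := by rw [← pow_mul, mul_comm, ← hh, hone]
    rcases sq_eq_one_iff.1 h1 with h1 | h1
    · exact absurd (Nat.le_of_dvd (by omega) ((hone h).1 h1)) (by omega)
    · exact h1
  rcases Nat.even_or_odd a with ha | ha
  · rw [ha.neg_one_pow, hone, hc]
    split_ifs with h0 h2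
    · rfl
    · obtain ⟨h, hh⟩ : ∃ h, i = 2 * (2 * h + 1) := ⟨i / 4, by omega⟩
      rw [hh, Nat.mul_div_cancel_left _ two_pos]
      exact ⟨(dvd_mul_left _ 2).trans, fun h' =>
        (Nat.coprime_two_left.2 (odd_two_mul_add_one h)).mul_dvd_of_dvd_of_dvd ha.two_dvd h'⟩
    · have hio : Odd i := Nat.odd_iff.2 (by omega)
      exact ⟨fun h' => (Nat.coprime_two_left.2 hio).mul_dvd_of_dvd_of_dvd ha.two_dvd h', (dvd_mul_left _ 2).trans⟩
  · rw [ha.neg_one_pow, hc]
    split_ifs with h0 h2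
    · refine iff_of_false (fun h => ?_) fun h => ?_
      · obtain ⟨h1, -⟩ := hneg a h
        have : 4 ∣ 2 * a := (Nat.dvd_of_mod_eq_zero h0).trans h1
        rw [Nat.odd_iff] at ha
        omega
      · have : 4 ∣ a := (Nat.dvd_of_mod_eq_zero h0).trans h
        rw [Nat.odd_iff] at ha
        omega
    · obtain ⟨h, hh⟩ : ∃ h, i = 2 * (2 * h + 1) := ⟨i / 4, by omega⟩
      rw [hh, Nat.mul_div_cancel_left _ two_pos]
      refine ⟨fun e => Nat.dvd_of_mul_dvd_mul_left two_pos (hh ▸ (hneg a e).1), fun h' => ?_⟩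
      obtain ⟨k, rfl⟩ := h'
      rw [pow_mul, hsd _ hh, (Nat.odd_mul.1 ha).2.neg_one_pow]
    · have hio : Odd i := Nat.odd_iff.2 (by omega)
      refine iff_of_false (fun h => ?_) fun h => ?_
      · obtain ⟨h1, h2⟩ := hneg a h
        exact h2 ((Nat.coprime_two_right.2 hio).dvd_of_dvd_mul_left h1)
      · exact Nat.not_even_iff_odd.2 ha (even_iff_two_dvd.2 ((dvd_mul_right 2 i).trans h))

omit hr in
theorem orderOf_sq {M : Type*} [Monoid M] {x : M} (hx : IsOfFinOrder x) :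
    orderOf (x ^ 2) = if Even (orderOf x) then orderOf x / 2 else orderOf x := by
  rw [orderOf_pow' x two_ne_zero]
  split_ifs with h
  · rw [Nat.gcd_eq_right h.two_dvd]
  · rw [show Nat.gcd (orderOf x) 2 = 1 from Nat.coprime_two_right.2 (Nat.not_even_iff_odd.1 h), Nat.div_one]

omit hr in
/-- the block size -/
theorem c_eq {i b c : ℕ} (hb : b = if Even i then i / 2 else i)
    (hc : c = if i % 4 = 0 then i else if i % 4 = 2 then i / 2 else 2 * i) : c = csize (i % 4 = 2) b := by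
  subst hb hc
  rw [csize]
  split_ifs with h1 h2 h3 <;> simp only [Nat.even_iff] at * <;> omega

variable {F : Type*} [Field F] [Fintype F]

/-- the setting over the field with `q ^ 2` elements -/
theorem setting {p : ℕ} [Fact p.Prime] [CharP F p] (hF : Fintype.card F = q ^ 2) (hr2 : r ≠ 2) (hrp : r ≠ p)
    {i b : ℕ} (hi : i = orderOf (q : ZMod r)) (hb : b = if Even i then i / 2 else i) :
    (q : ZMod r) ≠ 0 ∧ 0 < b ∧ b ∣ r - 1 ∧ OrthPrimeClasses.Setting F r b ∧
      ∃ P : Finset (Polynomial F), P.card = (r - 1) / b ∧ ∀ x, x ∈ P ↔ StarFactor.Fac r x := by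
  have hq : (q : ZMod r) ≠ 0 := fun h => by
    obtain ⟨k, -, hk⟩ := FiniteField.card F p
    rw [ZMod.natCast_eq_zero_iff] at h
    exact hrp ((Nat.prime_dvd_prime_iff_eq hr.out Fact.out).1
      (hr.out.dvd_of_dvd_pow (hk ▸ hF ▸ h.trans (dvd_pow_self q two_ne_zero))))
  have hfin : IsOfFinOrder (q : ZMod r) := (isUnit_iff_ne_zero.2 hq).isOfFinOrder
  have hbord : b = orderOf ((q ^ 2 : ℕ) : ZMod r) := by
    rw [Nat.cast_pow, orderOf_sq hfin, ← hi, hb]
  have hbdvd : b ∣ r - 1 := by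
    rw [hbord, orderOf_dvd_iff_pow_eq_one, Nat.cast_pow]
    exact ZMod.pow_card_sub_one_eq_one (pow_ne_zero _ hq)
  obtain ⟨hset, P, hP, hP'⟩ := OrthPrimeClasses.setting_of (F := F) (p := p) (t := (r - 1) / b) hF hr.out hr2 hrp hbord
    (Nat.div_mul_cancel hbdvd)
  exact ⟨hq, OrthPrimeClasses.ne_of_pos hset, hbdvd, hset, P, hP, hP'⟩

/-- outside `i = 2` the group of norm one elements has no element of order `r` -/
theorem mu_trivial {p : ℕ} [Fact p.Prime] [CharP F p] (hF : Fintype.card F = q ^ 2) (hr2 : r ≠ 2) {i : ℕ}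
    (hi : i = orderOf (q : ZMod r)) (h2 : i ≠ 2) (u : F) (hu : u ^ (q + 1) = 1) (hur : u ^ r = 1) : u = 1 := by
  by_contra hne
  have hd : r ∣ q + 1 := (orderOf_eq_prime hur hne) ▸ orderOf_dvd_of_pow_eq_one hu
  rw [← ZMod.natCast_eq_zero_iff, Nat.cast_succ] at hd
  have h1 : (q : ZMod r) = -1 := eq_neg_of_add_eq_zero_left hd
  refine h2 ?_
  rw [hi, h1]
  have hne1 : (-1 : ZMod r) ≠ 1 := by
    intro h
    have h2 : ((2 : ℕ) : ZMod r) = 0 := by push_cast; linear_combination -h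
    exact hr2 ((Nat.prime_dvd_prime_iff_eq hr.out Nat.prime_two).1 ((ZMod.natCast_eq_zero_iff 2 r).1 h2))
  exact orderOf_eq_prime (neg_one_sq) hne1

end Cfsg.Agent.Classical.IsoInvariant.Herm
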