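import Mathlib
import Cfsg.Agent.Lib.Classical.IsoInvariant.HermModel
import Cfsg.Agent.Lib.Classical.UnitaryFrames

/-!
# Counting totally isotropic and non-degenerate subspaces of a hermitian space
-/

set_option autoImplicit false
set_option linter.unusedSectionVars false

namespace Cfsg.Agent.Classical.IsoInvariant.Herm

open Module
open Cfsg.Agent.Forms Cfsg.Agent.Forms.Max.Unitary Cfsg.Agent.Classical.Unitary
open Cfsg.Agent.Forms.Elusive (finrank_sup_of_disjoint)

variable {F : Type*} [Field F] [Fintype F] {q : ℕ} (hF : Fintype.card F = q ^ 2) {n m r : ℕ}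

/-- `q ^ k - (-1) ^ k` -/
def qm (q k : ℕ) : ℕ := if Even k then q ^ k - 1 else q ^ k + 1

theorem dvd_qm [hr : Fact r.Prime] (hq : 1 ≤ q) (k : ℕ) : r ∣ qm q k ↔ (q : ZMod r) ^ k = (-1) ^ k := by
  rw [qm, ← ZMod.natCast_eq_zero_iff]
  split_ifs with h
  · rw [Nat.cast_sub (Nat.one_le_pow _ _ hq), Nat.cast_pow, Nat.cast_one, h.neg_one_pow, sub_eq_zero]
  · rw [Nat.cast_add, Nat.cast_pow, Nat.cast_one, (Nat.not_even_iff_odd.1 h).neg_one_pow, add_eq_zero_iff_eq_neg]

include hF

theorem cnt_zero_qm {k : ℕ} (hk : 1 ≤ k) : UnitaryCount.cnt F q k 0 = qm q k * qm q (k - 1) + 1 := by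
  obtain ⟨j, rfl⟩ : ∃ j, k = j + 1 := ⟨k - 1, by omega⟩
  rw [UnitaryCount.cnt_zero_eq hF, qm, qm, Nat.add_sub_cancel]
  by_cases h : Even j
  · rw [if_neg (by simp [h, parity_simps]), if_neg (by simp [h, parity_simps]), if_pos h]
  · rw [if_pos (by simp [h, parity_simps]), if_pos (by simp [h, parity_simps]), if_neg h]

/-- linearly independent pairwise orthogonal isotropic tuples -/
abbrev IFrames (F : Type*) [Field F] (q n m : ℕ) :=
  {v : Fin m → Fin n → F // LinearIndependent F v ∧ ∀ a b, Cfsg.hermForm n F q (v a) (v b) = 0}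

theorem iso_span_range {v : Fin m → Fin n → F} (h : ∀ a b, Cfsg.hermForm n F q (v a) (v b) = 0) :
    ∀ x ∈ Submodule.span F (Set.range v), ∀ y ∈ Submodule.span F (Set.range v), Cfsg.hermForm n F q x y = 0 := by
  intro x hx y hy
  induction hx using Submodule.span_induction with
  | mem x hx =>
    obtain ⟨a, rfl⟩ := hx
    induction hy using Submodule.span_induction with
    | mem y hy => obtain ⟨b, rfl⟩ := hy; exact h a b
    | zero => exact H_zero_right hF _
    | add y z _ _ e1 e2 => rw [H_add_right hF, e1, e2, add_zero]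
    | smul c y _ e1 => rw [H_smul_right, e1, mul_zero]
  | zero => exact H_zero_left _
  | add x z _ _ e1 e2 => rw [H_add_left, e1, e2, add_zero]
  | smul c x _ e1 => rw [H_smul_left, e1, mul_zero]

theorem natCard_fibre {S : Submodule F (Fin n → F)} (hS : finrank F S = m) (hmn : 2 * m < n)
    (hiso : ∀ u ∈ S, ∀ v ∈ S, Cfsg.hermForm n F q u v = 0) :
    Nat.card {x : Fin n → F // (x ∈ perp q S ∧ Cfsg.hermForm n F q x x = 0) ∧ x ∉ S} =
      (q ^ 2) ^ m * (qm q (n - 2 * m) * qm q (n - 2 * m - 1)) := by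
  classical
  have hSP : S ≤ perp q S := fun w hw => mem_perp.2 fun v hv => hiso w hw v hv
  obtain ⟨U₀, hU₀⟩ := Submodule.exists_isCompl S
  set U := U₀ ⊓ perp q S with hU
  have hd : Disjoint S U := hU₀.disjoint.mono_right inf_le_left
  have hsup : S ⊔ U = perp q S := by
    rw [hU, ← sup_inf_assoc_of_le _ hSP, hU₀.sup_eq_top, top_inf_eq]
  have hP := finrank_perp hF S
  have hUd : finrank F U = n - 2 * m := by
    have := finrank_sup_of_disjoint hd
    rw [hsup] at this
    omega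
  have hUnd : ∀ w ∈ U, w ≠ 0 → ∃ v ∈ U, Cfsg.hermForm n F q w v ≠ 0 := by
    intro w hw hw0
    by_contra hc
    push Not at hc
    refine hw0 (Submodule.disjoint_def.1 hd w ?_ hw)
    rw [← perp_perp hF S, mem_perp]
    intro v hv
    obtain ⟨a, ha, b, hb, rfl⟩ := Submodule.mem_sup.1 (hsup.symm ▸ hv : v ∈ S ⊔ U)
    rw [H_add_right hF, mem_perp.1 hw.2 a ha, hc b hb, add_zero]
  obtain ⟨ι, hι, hιr, hιiso⟩ := exists_isometry_sub hF hUnd hUd
  have hUP : ∀ y, ι y ∈ perp q S := fun y => (hιr ▸ LinearMap.mem_range_self ι y : ι y ∈ U).2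
  have hself : ∀ a ∈ S, ∀ y, Cfsg.hermForm n F q (a + ι y) (a + ι y) = Cfsg.hermForm (n - 2 * m) F q y y := by
    intro a ha y
    rw [H_add_left, H_add_right hF, H_add_right hF, hiso a ha a ha, mem_perp.1 (hUP y) a ha,
      perp_symm hF (hUP y) ha, hιiso]
    ring
  let ψ : S × {y : Fin (n - 2 * m) → F // Cfsg.hermForm (n - 2 * m) F q y y = 0} ≃
      {x : Fin n → F // x ∈ perp q S ∧ Cfsg.hermForm n F q x x = 0} :=
    Equiv.ofBijective (fun ay => ⟨(ay.1 : Fin n → F) + ι ay.2.1,
      (perp q S).add_mem (hSP ay.1.2) (hUP _), (hself _ ay.1.2 _).trans ay.2.2⟩) ⟨by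
      rintro ⟨a, y⟩ ⟨a', y'⟩ h
      have h' : (a : Fin n → F) + ι y.1 = (a' : Fin n → F) + ι y'.1 := congrArg Subtype.val h
      have h0 : (a : Fin n → F) - (a' : Fin n → F) = 0 := Submodule.disjoint_def.1 hd _ (sub_mem a.2 a'.2) (by
        rw [show (a : Fin n → F) - (a' : Fin n → F) = ι (y'.1 - y.1) by
          rw [map_sub, sub_eq_sub_iff_add_eq_add, h', add_comm]]
        exact hιr ▸ LinearMap.mem_range_self ι _)
      rw [sub_eq_zero] at h0
      rw [h0, add_right_inj] at h'
      exact Prod.ext (Subtype.ext h0) (Subtype.ext (hι h')), by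
      rintro ⟨x, hx, hxx⟩
      obtain ⟨a, ha, b, hb, rfl⟩ := Submodule.mem_sup.1 (hsup.ge hx)
      obtain ⟨y, rfl⟩ := (hιr.symm ▸ hb : b ∈ LinearMap.range ι)
      exact ⟨(⟨a, ha⟩, ⟨y, (hself a ha y).symm.trans hxx⟩), rfl⟩⟩
  have hA : Nat.card {x : Fin n → F // x ∈ perp q S ∧ Cfsg.hermForm n F q x x = 0} =
      (q ^ 2) ^ m * (qm q (n - 2 * m) * qm q (n - 2 * m - 1) + 1) := by
    rw [← Nat.card_congr ψ, Nat.card_prod, Module.natCard_eq_pow_finrank (K := F) (V := S), hS,
      Nat.card_eq_fintype_card, hF]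
    exact congrArg _ (cnt_zero_qm hF (by omega))
  have hle : (S : Set (Fin n → F)) ⊆ {x | x ∈ perp q S ∧ Cfsg.hermForm n F q x x = 0} := fun x hx =>
    ⟨hSP hx, hiso x hx x hx⟩
  have h3 : Nat.card {x : Fin n → F // (x ∈ perp q S ∧ Cfsg.hermForm n F q x x = 0) ∧ x ∉ S} =
      ({x | x ∈ perp q S ∧ Cfsg.hermForm n F q x x = 0} \ (S : Set (Fin n → F))).ncard := Nat.card_coe_set_eq _
  rw [h3, Set.ncard_sdiff hle, ← Nat.card_coe_set_eq, ← Nat.card_coe_set_eq, SetLike.coe_sort_coe,
    Set.coe_setOf, hA, Module.natCard_eq_pow_finrank (K := F) (V := S), hS, Nat.card_eq_fintype_card, hF, mul_add,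
    mul_one, Nat.add_sub_cancel]

theorem natCard_iframes : ∀ m : ℕ, 2 * m ≤ n → Nat.card (IFrames F q n m) = ∏ j ∈ Finset.range m,
    (q ^ 2) ^ j * (qm q (n - 2 * j) * qm q (n - 2 * j - 1)) := by
  classical
  intro m
  induction m with
  | zero =>
    intro _
    have : Unique (IFrames F q n 0) :=
      { default := ⟨Fin.elim0, linearIndependent_empty_type, fun a => a.elim0⟩
        uniq := fun v => Subtype.ext (funext fun a => a.elim0) }
    rw [Nat.card_unique, Finset.range_zero, Finset.prod_empty]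
  | succ m ih =>
    intro hm
    let S : IFrames F q n m → Submodule F (Fin n → F) := fun v => Submodule.span F (Set.range v.1)
    let e : IFrames F q n (m + 1) ≃
        Σ v : IFrames F q n m, {x : Fin n → F // (x ∈ perp q (S v) ∧ Cfsg.hermForm n F q x x = 0) ∧ x ∉ S v} :=
      { toFun := fun w => ⟨⟨Fin.tail w.1, w.2.1.comp _ (Fin.succ_injective _), fun a b => w.2.2 _ _⟩, w.1 0, by
          refine ⟨⟨mem_perp.2 fun y hy => ?_, w.2.2 0 0⟩, ?_⟩
          · induction hy using Submodule.span_induction with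
            | mem y hy => obtain ⟨a, rfl⟩ := hy; exact w.2.2 _ _
            | zero => exact H_zero_right hF _
            | add y z _ _ h1 h2 => rw [H_add_right hF, h1, h2, add_zero]
            | smul c y _ h1 => rw [H_smul_right, h1, mul_zero]
          · have h := w.2.1
            rw [← Fin.cons_self_tail w.1, linearIndependent_finCons] at h
            exact h.2⟩
        invFun := fun p => ⟨Fin.cons p.2.1 p.1.1, linearIndependent_finCons.2 ⟨p.1.2.1, p.2.2.2⟩, by
          have h1 : ∀ a, Cfsg.hermForm n F q p.2.1 (p.1.1 a) = 0 := fun a =>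
            mem_perp.1 p.2.2.1.1 _ (Submodule.subset_span ⟨a, rfl⟩)
          refine Fin.cases (Fin.cases ?_ fun b => ?_) fun a => Fin.cases ?_ fun b => ?_
          · rw [Fin.cons_zero]; exact p.2.2.1.2
          · rw [Fin.cons_zero, Fin.cons_succ, h1]
          · rw [Fin.cons_zero, Fin.cons_succ]; exact (H_eq_zero_comm hF).1 (h1 a)
          · rw [Fin.cons_succ, Fin.cons_succ]; exact p.1.2.2 a b⟩
        left_inv := fun w => Subtype.ext (Fin.cons_self_tail w.1)
        right_inv := fun p => by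
          obtain ⟨⟨v, hv⟩, x, hx⟩ := p
          rfl }
    have : Fintype (IFrames F q n m) := Fintype.ofFinite _
    have hfib : ∀ v : IFrames F q n m,
        Nat.card {x : Fin n → F // (x ∈ perp q (S v) ∧ Cfsg.hermForm n F q x x = 0) ∧ x ∉ S v} =
          (q ^ 2) ^ m * (qm q (n - 2 * m) * qm q (n - 2 * m - 1)) := fun v =>
      natCard_fibre hF (by rw [finrank_span_eq_card v.2.1, Fintype.card_fin]) (by omega) (iso_span_range hF v.2.2)
    rw [Nat.card_congr e, Nat.card_sigma, Finset.sum_congr rfl (fun v _ => hfib v), Finset.sum_const,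
      Finset.card_univ, smul_eq_mul, ← Nat.card_eq_fintype_card, ih (by omega), Finset.prod_range_succ]

theorem natCard_ts_mul (hm : 2 * m ≤ n) :
    Nat.card {W : Submodule F (Fin n → F) // finrank F W = m ∧ ∀ u ∈ W, ∀ v ∈ W, Cfsg.hermForm n F q u v = 0} *
        ∏ j ∈ Finset.range m, ((q ^ 2) ^ (m - j) - 1) =
      ∏ j ∈ Finset.range m, qm q (n - 2 * j) * qm q (n - 2 * j - 1) := by
  classical
  let Ω := {W : Submodule F (Fin n → F) // finrank F W = m ∧ ∀ u ∈ W, ∀ v ∈ W, Cfsg.hermForm n F q u v = 0}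
  let f : IFrames F q n m → Ω := fun v => ⟨Submodule.span F (Set.range v.1),
    by rw [finrank_span_eq_card v.2.1, Fintype.card_fin], iso_span_range hF v.2.2⟩
  let e : ∀ W : Ω, {v : IFrames F q n m // f v = W} ≃ {s : Fin m → W.1 // LinearIndependent F s} := fun W =>
    { toFun := fun v => ⟨fun a => ⟨v.1.1 a, by
          rw [← congrArg Subtype.val v.2]; exact Submodule.subset_span ⟨a, rfl⟩⟩,
        (LinearMap.linearIndependent_iff W.1.subtype (Submodule.ker_subtype _)).1 v.1.2.1⟩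
      invFun := fun s => ⟨⟨fun a => (s.1 a : Fin n → F),
          s.2.map' W.1.subtype (Submodule.ker_subtype _), fun a b => W.2.2 _ (s.1 a).2 _ (s.1 b).2⟩,
        Subtype.ext (Submodule.eq_of_le_of_finrank_eq
          (Submodule.span_le.2 (by rintro _ ⟨a, rfl⟩; exact (s.1 a).2)) (by
            show finrank F (Submodule.span F (Set.range (W.1.subtype ∘ s.1))) = finrank F W.1
            exact (finrank_span_eq_card (s.2.map' W.1.subtype (Submodule.ker_subtype _))).trans
              ((Fintype.card_fin m).trans W.2.1.symm)))⟩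
      left_inv := fun v => rfl
      right_inv := fun s => rfl }
  have : Fintype Ω := Fintype.ofFinite _
  have h1 : Nat.card (IFrames F q n m) = Nat.card Ω * ∏ j ∈ Finset.range m, ((q ^ 2) ^ m - (q ^ 2) ^ j) := by
    rw [← Nat.card_congr (Equiv.sigmaFiberEquiv f), Nat.card_sigma,
      Finset.sum_congr rfl fun W _ => Nat.card_congr (e W), Finset.sum_congr rfl fun W _ => ?_,
      Finset.sum_const, Finset.card_univ, smul_eq_mul, ← Nat.card_eq_fintype_card]
    rw [card_linearIndependent (K := F) (V := W.1) (le_of_eq W.2.1.symm), W.2.1, hF,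
      Fin.prod_univ_eq_prod_range (fun j => (q ^ 2) ^ m - (q ^ 2) ^ j)]
  have hfac : ∏ j ∈ Finset.range m, ((q ^ 2) ^ m - (q ^ 2) ^ j) =
      (∏ j ∈ Finset.range m, (q ^ 2) ^ j) * ∏ j ∈ Finset.range m, ((q ^ 2) ^ (m - j) - 1) := by
    rw [← Finset.prod_mul_distrib]
    refine Finset.prod_congr rfl fun j hj => ?_
    rw [Nat.mul_sub, mul_one, ← pow_add, Nat.add_sub_cancel' (Finset.mem_range.1 hj).le]
  rw [natCard_iframes hF m hm, Finset.prod_mul_distrib, hfac, mul_left_comm] at h1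
  exact (Nat.eq_of_mul_eq_mul_left (Finset.prod_pos fun j _ => Nat.pow_pos
    (Nat.pow_pos (zero_lt_one.trans (HermStd.one_lt_q hF)))) h1).symm

/-- what a prime divisor of the number of totally isotropic subspaces says -/
theorem ts_of_dvd (p : ℕ) [Fact p.Prime] [CharP F p] [hr : Fact r.Prime] (hm : 2 * m ≤ n)
    (h : r ∣ Nat.card {W : Submodule F (Fin n → F) // finrank F W = m ∧
      ∀ u ∈ W, ∀ v ∈ W, Cfsg.hermForm n F q u v = 0}) :
    r ≠ p ∧ ∃ a, n - 2 * m < a ∧ a ≤ n ∧ (q : ZMod r) ^ a = (-1) ^ a := by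
  classical
  have hq := HermStd.one_lt_q hF
  have h1 : r ∣ ∏ j ∈ Finset.range m, qm q (n - 2 * j) * qm q (n - 2 * j - 1) := by
    rw [← natCard_ts_mul hF hm]; exact h.mul_right _
  obtain ⟨j, hj, hd⟩ := (hr.out.prime.dvd_finsetProd_iff _).1 h1
  have hj' := Finset.mem_range.1 hj
  obtain ⟨a, ha1, ha2, ha⟩ : ∃ a, n - 2 * m < a ∧ a ≤ n ∧ r ∣ qm q a := by
    rcases hr.out.dvd_mul.1 hd with h2 | h2
    · exact ⟨_, by omega, by omega, h2⟩
    · exact ⟨_, by omega, by omega, h2⟩
  refine ⟨fun e => ?_, a, ha1, ha2, (dvd_qm hq.le a).1 ha⟩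
  obtain ⟨k, -, hk⟩ := FiniteField.card F p
  have hrq : (q : ZMod r) = 0 := by
    rw [ZMod.natCast_eq_zero_iff]
    exact hr.out.dvd_of_dvd_pow (n := 2) (by rw [← hF, hk, e]; exact dvd_pow_self _ k.pos.ne')
  have h2 := (dvd_qm hq.le a).1 ha
  rw [hrq, zero_pow (by omega)] at h2
  exact absurd h2.symm (pow_ne_zero _ (neg_ne_zero.2 one_ne_zero))

/-- what a prime divisor of the number of non-degenerate subspaces says -/
theorem nd_of_dvd (p : ℕ) [Fact p.Prime] [CharP F p] [hr : Fact r.Prime] (hm : m ≤ n)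
    (h : r ∣ Nat.card {W : Submodule F (Fin n → F) // finrank F W = m ∧
      ∀ u ∈ W, u ≠ 0 → ∃ v ∈ W, Cfsg.hermForm n F q u v ≠ 0}) :
    r = p ∨ ∃ a, n - m < a ∧ a ≤ n ∧ (q : ZMod r) ^ a = (-1) ^ a := by
  classical
  have hq := HermStd.one_lt_q hF
  let Ω := {W : Submodule F (Fin n → F) // finrank F W = m ∧ ∀ u ∈ W, u ≠ 0 → ∃ v ∈ W, Cfsg.hermForm n F q u v ≠ 0}
  let Fr := {f : Fin m → Fin n → F // Unitary.IsFrame q f}
  let Fm := {f : Fin m → Fin m → F // Unitary.IsFrame q f}
  have hlin : ∀ f : Fr, LinearIndependent F f.1 := fun f => Fintype.linearIndependent_iff.2 fun a ha i => by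
    have := H_linComb hF f.2 a (Pi.single i 1)
    rw [show Fintype.linearCombination F f.1 a = 0 from by rw [Fintype.linearCombination_apply]; exact ha,
      H_zero_left, H_single_right hF] at this
    exact this.symm
  let φ : Fr → Ω := fun f => ⟨Submodule.span F (Set.range f.1),
    by rw [finrank_span_eq_card (hlin f), Fintype.card_fin], fun u hu hu0 => by
      obtain ⟨a, rfl⟩ := (Submodule.mem_span_range_iff_exists_fun F).1 hu
      obtain ⟨i, hi⟩ : ∃ i, a i ≠ 0 := by
        by_contra hc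
        push Not at hc
        exact hu0 (by simp [hc])
      refine ⟨f.1 i, Submodule.subset_span ⟨i, rfl⟩, ?_⟩
      have := H_linComb hF f.2 a (Pi.single i 1)
      rw [Fintype.linearCombination_apply, Fintype.linearCombination_apply_single, one_smul,
        H_single_right hF] at this
      rwa [this]⟩
  have hfib : ∀ W : Ω, Nat.card {f : Fr // φ f = W} = Nat.card Fm := fun W => by
    obtain ⟨ι, hι, hιr, hιiso⟩ := exists_isometry_sub hF W.2.2 W.2.1
    refine (Nat.card_eq_of_bijective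
      (fun g : Fm => (⟨⟨fun i => ι (g.1 i), fun i j => by rw [hιiso]; exact g.2 i j⟩, Subtype.ext
        (Submodule.eq_of_le_of_finrank_eq (Submodule.span_le.2 (by
          rintro _ ⟨i, rfl⟩; exact hιr ▸ LinearMap.mem_range_self ι _))
          ((finrank_span_eq_card (hlin ⟨fun i => ι (g.1 i), fun i j => by rw [hιiso]; exact g.2 i j⟩)).trans
            ((Fintype.card_fin m).trans W.2.1.symm)))⟩ : {f : Fr // φ f = W})) ⟨?_, ?_⟩).symm
    · intro g g' e
      exact Subtype.ext (funext fun i => hι (congrFun (congrArg (fun f => f.1.1) e) i))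
    · rintro ⟨f, hf⟩
      have hmem : ∀ i, ∃ y, ι y = f.1 i := fun i => by
        show f.1 i ∈ LinearMap.range ι
        rw [hιr, ← hf]; exact Submodule.subset_span ⟨i, rfl⟩
      choose g hg using hmem
      refine ⟨⟨g, fun i j => ?_⟩, Subtype.ext (Subtype.ext (funext hg))⟩
      rw [← hιiso, hg, hg]
      exact f.2 i j
  have hcount : Nat.card Fr = Nat.card Ω * Nat.card Fm := by
    haveI : Fintype Ω := Fintype.ofFinite _
    rw [← Nat.card_congr (Equiv.sigmaFiberEquiv φ), Nat.card_sigma, Finset.sum_congr rfl fun W _ => hfib W,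
      Finset.sum_const, Finset.card_univ, smul_eq_mul, ← Nat.card_eq_fintype_card]
  have h1 : r ∣ Nat.card Fr := hcount ▸ h.mul_right _
  rw [natCard_frames hF hm] at h1
  obtain ⟨j, hj, hd⟩ := (hr.out.prime.dvd_finsetProd_iff _).1 h1
  have hj' := Finset.mem_range.1 hj
  rw [UnitaryCount.cnt_one_eq hF] at hd
  obtain ⟨a, ha⟩ : ∃ a, n - j = a + 1 := ⟨n - j - 1, by omega⟩
  rw [ha] at hd
  replace hd : r ∣ q ^ a * qm q (a + 1) := by
    rw [qm]
    rw [Nat.add_sub_cancel] at hd
    split_ifs at hd ⊢ <;> exact hd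
  rcases hr.out.dvd_mul.1 hd with h2 | h2
  · left
    obtain ⟨k, -, hk⟩ := FiniteField.card F p
    refine (Nat.prime_dvd_prime_iff_eq hr.out Fact.out).1 (hr.out.dvd_of_dvd_pow (n := (k : ℕ)) ?_)
    rw [← hk, hF]
    exact dvd_pow (hr.out.dvd_of_dvd_pow h2) two_ne_zero
  · exact Or.inr ⟨a + 1, by omega, by omega, (dvd_qm hq.le _).1 h2⟩

end Cfsg.Agent.Classical.IsoInvariant.Herm
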