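import Mathlib
import Cfsg.Agent.Lib.Classical.IsoInvariant.HermSemi

/-!
# Unitary maps whose square is a scalar, and some facts about the elements of norm one
-/

set_option autoImplicit false
set_option linter.unusedSectionVars false

namespace Cfsg.Agent.Classical.IsoInvariant.Herm

open Module Polynomial Matrix
open Cfsg.Agent.Forms Cfsg.Agent.Classical.PowScalarClasses
open SUClassCount2481 (cd)

variable {F : Type*} [Field F] [Fintype F] {q : ℕ} (hF : Fintype.card F = q ^ 2) {n m r : ℕ}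

/-- every element of norm `1` scalar power and determinant `1`, not scalar, fixes a subspace -/
def AllFix (q r : ℕ) (P : GL (Fin n) F → Prop) : Prop :=
  ∀ x : GL (Fin n) F, x ∈ Cfsg.GU n F q → (x : Matrix (Fin n) (Fin n) F).det = 1 →
    (∃ z : F, (x : Matrix (Fin n) (Fin n) F) ^ r = z • 1) →
    (∀ z : F, (x : Matrix (Fin n) (Fin n) F) ≠ z • 1) → P x

omit [Fintype F] in
theorem exists_not_const_of_ne {s : Multiset F[X]} {p p' : F[X]} (hp : p ∈ s) (hp' : p' ∈ s) (hne : p ≠ p') (c : F) :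
    ∃ x ∈ s, x ≠ X - C c := by
  by_cases h : p = X - C c
  · exact ⟨p', hp', fun h' => hne (h.trans h'.symm)⟩
  · exact ⟨p, hp, h⟩

theorem not_scalar {x : GL (Fin n) F} {s : Multiset F[X]} {k : ℕ} {z : F} (hs : Admissible k n z s)
    (hχ : (x : Matrix (Fin n) (Fin n) F).charpoly = s.prod) {c : F} (hne : ∃ p ∈ s, p ≠ X - C c) :
    (x : Matrix (Fin n) (Fin n) F) ≠ c • 1 := by
  intro h
  obtain ⟨p, hp, hpne⟩ := hne
  have hc : (x : Matrix (Fin n) (Fin n) F).charpoly = (X - C c) ^ n := by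
    rw [h, Matrix.smul_one_eq_diagonal, Matrix.charpoly_diagonal, Finset.prod_const, Finset.card_univ, Fintype.card_fin]
  have hd : p ∣ (X - C c) ^ n := hc ▸ hχ.symm ▸ Multiset.dvd_prod hp
  exact hpne (eq_of_monic_of_associated (hs.1 p hp).1 (monic_X_sub_C c)
    ((hs.1 p hp).2.1.associated_of_dvd (irreducible_X_sub_C c) ((hs.1 p hp).2.1.prime.dvd_of_dvd_pow hd)))

/-- the determinant through the constant coefficients -/
theorem det_of_charpoly {x : GL (Fin n) F} {s : Multiset F[X]} (hχ : (x : Matrix (Fin n) (Fin n) F).charpoly = s.prod) :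
    (x : Matrix (Fin n) (Fin n) F).det = (-1) ^ n * (s.map fun p => p.coeff 0).prod := by
  rw [Matrix.det_eq_sign_charpoly_coeff, hχ, Fintype.card_fin, Polynomial.coeff_zero_multiset_prod]

include hF

theorem z_norm (hn : 0 < n) {x : GL (Fin n) F} (hx : x ∈ Cfsg.GU n F q) {z : F}
    (hxr : (x : Matrix (Fin n) (Fin n) F) ^ r = z • 1) : z ^ (q + 1) = 1 := by
  have h := mem_GU.1 ((Cfsg.GU n F q).pow_mem hx r) (Pi.single ⟨0, hn⟩ 1) (Pi.single ⟨0, hn⟩ 1)
  simp only [lin, Units.val_pow_eq_pow_val, hxr, Matrix.toLin'_apply, Matrix.smul_mulVec, Matrix.one_mulVec,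
    Unitary.H_smul_left, Unitary.H_smul_right, Unitary.H_single_right hF, Pi.single_eq_same, Pi.smul_apply,
    smul_eq_mul, mul_one] at h
  rw [pow_succ]
  exact h

/-- scaling an element whose scalar power is the power of an element of norm one -/
theorem scale {x : GL (Fin n) F} (hx : x ∈ Cfsg.GU n F q) {z w : F} (hr : 0 < r) (hw : w ^ r = z)
    (hwq : w ^ (q + 1) = 1) (hxr : (x : Matrix (Fin n) (Fin n) F) ^ r = z • 1) :
    ∃ y : GL (Fin n) F, y ∈ Cfsg.GU n F q ∧ (y : Matrix (Fin n) (Fin n) F) ^ r = (1 : F) • 1 ∧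
      (x : Matrix (Fin n) (Fin n) F) = w • (y : Matrix (Fin n) (Fin n) F) ∧
      ∀ W : Submodule F (Fin n → F), W.map (lin y) ≤ W → W.map (lin x) ≤ W := by
  have hw0 : w ≠ 0 := z_ne_zero hF hwq
  have hu : IsUnit (w⁻¹ • (x : Matrix (Fin n) (Fin n) F)) := by
    refine IsUnit.of_mul_eq_one (w • ((x⁻¹ : GL (Fin n) F) : Matrix (Fin n) (Fin n) F)) ?_
    rw [smul_mul_smul_comm, Units.mul_inv, inv_mul_cancel₀ hw0, one_smul]
  refine ⟨hu.unit, mem_GU.2 fun u v => ?_, ?_, ?_, fun W hW => ?_⟩
  · simp only [lin, IsUnit.unit_spec, map_smul, LinearMap.smul_apply]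
    have h := mem_GU.1 hx u v
    simp only [lin] at h
    rw [Unitary.H_smul_left, Unitary.H_smul_right, h, ← mul_assoc, ← pow_succ', inv_pow, hwq, inv_one, one_mul]
  · rw [IsUnit.unit_spec, _root_.smul_pow, hxr, smul_smul, inv_pow, hw, inv_mul_cancel₀ (hw ▸ pow_ne_zero r hw0)]
  · rw [IsUnit.unit_spec, smul_smul, mul_inv_cancel₀ hw0, one_smul]
  · rintro _ ⟨v, hv, rfl⟩
    have : lin x v = w • lin hu.unit v := by
      simp only [lin, IsUnit.unit_spec, map_smul, LinearMap.smul_apply, smul_smul, mul_inv_cancel₀ hw0, one_smul]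
    rw [this]
    exact W.smul_mem w (hW ⟨v, hv, rfl⟩)

/-- a root inside the elements of norm one -/
theorem exists_root_mu (hr : 0 < r) (hmu : ∀ u : F, u ^ (q + 1) = 1 → u ^ r = 1 → u = 1) {z : F}
    (hz : z ^ (q + 1) = 1) : ∃ w : F, w ^ r = z ∧ w ^ (q + 1) = 1 := by
  classical
  let M := {u : F // u ^ (q + 1) = 1}
  let f : M → M := fun u => ⟨u.1 ^ r, by rw [← pow_mul, mul_comm, pow_mul, u.2, one_pow]⟩
  have hinj : Function.Injective f := fun u v h => by
    have h' : u.1 ^ r = v.1 ^ r := congrArg Subtype.val h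
    have hv : v.1 ≠ 0 := z_ne_zero hF v.2
    refine Subtype.ext ((div_eq_one_iff_eq hv).1 (hmu _ ?_ ?_))
    · rw [div_pow, u.2, v.2, div_one]
    · rw [div_pow, h', div_self (pow_ne_zero _ hv)]
  obtain ⟨⟨w, hw⟩, h⟩ := Finite.surjective_of_injective hinj ⟨z, hz⟩
  exact ⟨w, congrArg Subtype.val h, hw⟩

/-- a generator of the group of elements of norm one -/
theorem exists_prim : ∃ g : F, IsPrimitiveRoot g (q + 1) := by
  obtain ⟨γ, hγ⟩ := IsCyclic.exists_ofOrder_eq_natCard (α := Fˣ)
  rw [Unitary.natCard_units_F hF] at hγ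
  have hq := HermStd.one_lt_q hF
  have h := (IsPrimitiveRoot.orderOf γ).pow (a := q - 1) (b := q + 1) (orderOf_pos γ) hγ
  exact ⟨_, h.map_of_injective (f := Units.coeHom F) Units.val_injective⟩

theorem linear_cd {a a' : F} (h : a ^ q * a' = 1) : cd hF (X - C a) = X - C a' := by
  have ha : a ≠ 0 := fun e => by simp [e, Unitary.q_ne_zero hF] at h
  have h0 : (X - C a).coeff 0 ≠ 0 := by simp [ha]
  have hd : (cd hF (X - C a)).natDegree = 1 := by rw [SUClassCount2481.natDegree_cd hF h0, natDegree_X_sub_C]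
  have hneg : (-a) ^ q = -(a ^ q) := by rw [← HermStd.qHom_apply hF, map_neg, HermStd.qHom_apply]
  have hc : (cd hF (X - C a)).coeff 0 = -a' := by
    rw [SUClassCount2481.coeff_cd hF h0 (Nat.zero_le _), natDegree_X_sub_C]
    simp [hneg, inv_neg, inv_eq_of_mul_eq_one_right h]
  have hl := (SUClassCount2481.cd_monic hF h0).leadingCoeff
  rw [leadingCoeff, hd] at hl
  rw [eq_X_add_C_of_natDegree_le_one hd.le, hl, hc, map_neg, map_one, one_mul, sub_eq_add_neg]

/-- every element of norm one is a square -/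
theorem exists_sqrt (hodd : Odd q) {z : F} (hz : z ^ (q + 1) = 1) :
    ∃ θ : F, θ ^ 2 = z ∧ (θ ^ (q + 1) = 1 ∨ θ ^ (q + 1) = -1) := by
  obtain ⟨s, -, hs⟩ := SUClassCount2481.exists_root_sub hF hz
  have hev : Even (q - 1) := by rw [Nat.odd_iff] at hodd; rw [Nat.even_iff]; omega
  obtain ⟨k, hk⟩ := hev.two_dvd
  have h2 : (s ^ k) ^ 2 = z := by rw [← pow_mul, mul_comm, ← hk, hs]
  exact ⟨s ^ k, h2, sq_eq_one_iff.1 (by rw [← pow_mul, mul_comm, pow_mul, h2, hz])⟩

theorem neg_one_ne_one (hodd : Odd q) : (-1 : F) ≠ 1 := by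
  intro h
  have h2 : (2 : F) = 0 := by linear_combination -h
  obtain ⟨p, hp⟩ := CharP.exists F
  haveI := hp
  haveI : Fact p.Prime := ⟨CharP.char_is_prime F p⟩
  have hp2 : p = 2 := (Nat.prime_dvd_prime_iff_eq Fact.out Nat.prime_two).1
    ((CharP.cast_eq_zero_iff F p 2).1 (by exact_mod_cast h2))
  obtain ⟨k, -, hk⟩ := FiniteField.card F p
  have hev : Even (q ^ 2) := by rw [← hF, hk, hp2]; exact Nat.even_pow.2 ⟨even_two, k.pos.ne'⟩
  exact Nat.not_odd_iff_even.2 (Nat.even_pow.1 hev).1 hodd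

variable {θ : F}

/-- the two eigenvalues of a map with scalar square -/
theorem shape_two (hodd : Odd q) (hθ0 : θ ≠ 0) {s : Multiset F[X]} (hs : Admissible 2 n (θ ^ 2) s) :
    ∃ a d : ℕ, s = Multiset.replicate a (X - C θ) + Multiset.replicate d (X - C (-θ)) ∧ a + d = n := by
  classical
  have hne : (X - C θ : F[X]) ≠ X - C (-θ) := fun h => by
    rw [sub_right_inj, C_inj] at h
    have := neg_one_ne_one hF hodd
    exact this (mul_right_cancel₀ hθ0 (by rw [neg_one_mul, one_mul, ← h]))
  have hall : ∀ p ∈ s, p = X - C θ ∨ p = X - C (-θ) := fun p hp => by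
    obtain ⟨hm, hi, hd⟩ := hs.1 p hp
    have e : X ^ 2 - C (θ ^ 2) = (X - C θ) * (X - C (-θ)) := by simp only [map_pow, map_neg]; ring
    rw [e] at hd
    rcases hi.prime.dvd_or_dvd hd with h | h
    · exact Or.inl (eq_of_monic_of_associated hm (monic_X_sub_C _) (hi.associated_of_dvd (irreducible_X_sub_C _) h))
    · exact Or.inr (eq_of_monic_of_associated hm (monic_X_sub_C _) (hi.associated_of_dvd (irreducible_X_sub_C _) h))
  refine ⟨s.count (X - C θ), (s.filter fun p => p ≠ X - C θ).card, ?_, ?_⟩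
  · conv_lhs => rw [← Multiset.filter_add_not (fun p => p = X - C θ) s]
    rw [Multiset.filter_eq']
    congr 1
    rw [Multiset.eq_replicate]
    exact ⟨rfl, fun p hp => (hall p (Multiset.mem_filter.1 hp).1).resolve_left (Multiset.mem_filter.1 hp).2⟩
  · rw [← hs.2, Multiset.map_congr rfl (fun p hp => show p.natDegree = 1 by
      rcases hall p hp with rfl | rfl <;> exact natDegree_X_sub_C _), Multiset.map_const', Multiset.sum_replicate,
      smul_eq_mul, mul_one]
    conv_rhs => rw [← Multiset.filter_add_not (fun p => p = X - C θ) s]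
    rw [Multiset.card_add, Multiset.filter_eq', Multiset.card_replicate]

omit hF in
theorem admissible_two (a d : ℕ) :
    Admissible 2 (a + d) (θ ^ 2) (Multiset.replicate a (X - C θ) + Multiset.replicate d (X - C (-θ))) := by
  refine ⟨fun p hp => ?_, by simp⟩
  have e : X ^ 2 - C (θ ^ 2) = (X - C θ) * (X - C (-θ)) := by simp only [map_pow, map_neg]; ring
  rcases Multiset.mem_add.1 hp with hp | hp <;> rw [Multiset.eq_of_mem_replicate hp, e]
  · exact ⟨monic_X_sub_C _, irreducible_X_sub_C _, dvd_mul_right _ _⟩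
  · exact ⟨monic_X_sub_C _, irreducible_X_sub_C _, dvd_mul_left _ _⟩

omit hF in
theorem det_two {x : GL (Fin n) F} {a d : ℕ} (hn : a + d = n)
    (hχ : (x : Matrix (Fin n) (Fin n) F).charpoly =
      (Multiset.replicate a (X - C θ) + Multiset.replicate d (X - C (-θ))).prod) :
    (x : Matrix (Fin n) (Fin n) F).det = θ ^ a * (-θ) ^ d := by
  rw [det_of_charpoly hχ, Multiset.map_add, Multiset.map_replicate, Multiset.map_replicate, Multiset.prod_add,
    Multiset.prod_replicate, Multiset.prod_replicate, ← hn, pow_add]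
  simp only [coeff_sub, coeff_X_zero, coeff_C_zero, zero_sub, neg_neg]
  calc (-1 : F) ^ a * (-1) ^ d * ((-θ) ^ a * θ ^ d) = ((-1) ^ a * (-θ) ^ a) * ((-1) ^ d * θ ^ d) := by ring
    _ = _ := by rw [← mul_pow, ← mul_pow, neg_one_mul, neg_one_mul, neg_neg]

/-- the fixed or exchanged eigenvalues -/
theorem cd_two :
    (θ ^ (q + 1) = 1 → cd hF (X - C θ) = X - C θ ∧ cd hF (X - C (-θ)) = X - C (-θ)) ∧
      (θ ^ (q + 1) = -1 → cd hF (X - C θ) = X - C (-θ) ∧ cd hF (X - C (-θ)) = X - C θ) := by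
  have hneg : (-θ) ^ q = -(θ ^ q) := by rw [← HermStd.qHom_apply hF, map_neg, HermStd.qHom_apply]
  refine ⟨fun h1 => ?_, fun h1 => ?_⟩ <;> rw [pow_succ] at h1 <;>
    refine ⟨linear_cd hF ?_, linear_cd hF ?_⟩ <;> simp only [hneg, neg_mul, mul_neg, h1, neg_neg]

omit hF in
theorem exists_even_split {q n : ℕ} (hodd : Odd q) :
    ∃ e N', q + 1 = 2 ^ e * N' ∧ Odd N' ∧ e = padicValNat 2 (q + 1) ∧ 1 ≤ e := by
  haveI : Fact (Nat.Prime 2) := ⟨Nat.prime_two⟩
  obtain ⟨N', hN'⟩ := pow_padicValNat_dvd (p := 2) (n := q + 1)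
  refine ⟨_, N', hN', ?_, rfl, ?_⟩
  · by_contra h
    obtain ⟨M, rfl⟩ := (Nat.not_odd_iff_even.1 h).two_dvd
    exact pow_succ_padicValNat_not_dvd (p := 2) (n := q + 1) (by omega) ⟨M, by rw [pow_succ, mul_assoc]; exact hN'⟩
  · refine one_le_padicValNat_of_dvd (by omega) ?_
    rw [Nat.odd_iff] at hodd
    omega

/-- **`r = 2`, totally isotropic subspaces** -/
theorem allTS_two (hodd : Odd q) (hn : 0 < n) (hmn : 2 * m ≤ n) :
    AllFix (n := n) (F := F) q 2 (FixTS q m) ↔ 2 * m < n ∨ padicValNat 2 (q + 1) ≤ padicValNat 2 n := by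
  classical
  haveI : Fact (Nat.Prime 2) := ⟨Nat.prime_two⟩
  have hne1 := neg_one_ne_one hF hodd
  have h20 : ((2 : ℕ) : F) ≠ 0 := by
    intro h; push_cast at h; exact hne1 (by linear_combination -h)
  obtain ⟨e, N', hN, hN'o, he, he1⟩ := exists_even_split (n := n) hodd
  constructor
  · intro H
    by_contra hc
    push Not at hc
    obtain ⟨h2m, hv⟩ := hc
    have h2m : n = 2 * m := by omega
    obtain ⟨n', hn'⟩ := pow_padicValNat_dvd (p := 2) (n := n)
    set v := padicValNat 2 n with hvdef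
    have hn'o : Odd n' := by
      by_contra h
      obtain ⟨M, rfl⟩ := (Nat.not_odd_iff_even.1 h).two_dvd
      exact pow_succ_padicValNat_not_dvd (p := 2) (n := n) (by omega) ⟨M, by rw [← hvdef, pow_succ, mul_assoc]; exact hn'⟩
    obtain ⟨g, hg⟩ := exists_prim hF
    obtain ⟨d, hd⟩ : ∃ d, e = v + 1 + d := ⟨e - v - 1, by omega⟩
    have hq1 : q + 1 = (2 ^ d * N') * 2 ^ (v + 1) := by rw [hN, hd, pow_add]; ring
    have hθ := hg.pow (a := 2 ^ d * N') (b := 2 ^ (v + 1)) (by omega) hq1
    set θ := g ^ (2 ^ d * N') with hθdef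
    have hθv : θ ^ 2 ^ v = -1 := by
      have h1 : (θ ^ 2 ^ v) ^ 2 = 1 := by rw [← pow_mul, ← pow_succ, hθ.pow_eq_one]
      exact (sq_eq_one_iff.1 h1).resolve_left (hθ.pow_ne_one_of_pos_of_lt (by positivity) (by
        rw [pow_succ]; have := Nat.one_le_two_pow (n := v); omega))
    have hθn : θ ^ n = -1 := by rw [hn', pow_mul, hθv, hn'o.neg_one_pow]
    have hθμ : θ ^ (q + 1) = 1 := by rw [hq1, mul_comm, pow_mul, hθ.pow_eq_one, one_pow]
    have hθ0 : θ ≠ 0 := z_ne_zero hF hθμ
    have hz : (θ ^ 2) ^ (q + 1) = 1 := by rw [← pow_mul, mul_comm, pow_mul, hθμ, one_pow]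
    obtain ⟨hc1, hc2⟩ := (cd_two hF (θ := θ)).1 hθμ
    set s := Multiset.replicate (n - 1) (X - C θ) + Multiset.replicate 1 (X - C (-θ)) with hsdef
    have hs : Admissible 2 n (θ ^ 2) s := by
      have := admissible_two (θ := θ) (n - 1) 1
      rwa [show n - 1 + 1 = n by omega] at this
    obtain ⟨x, hx, hxr, hxc⟩ := exists_elt hF h20 hz hs (by
      rw [hsdef, Multiset.map_add, Multiset.map_replicate, Multiset.map_replicate, hc1, hc2])
    have hdet : (x : Matrix (Fin n) (Fin n) F).det = 1 := by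
      rw [det_two (a := n - 1) (d := 1) (by omega) hxc, pow_one, mul_neg, ← pow_succ, show n - 1 + 1 = n by omega,
        hθn, neg_neg]
    have hpne : (X - C θ : F[X]) ≠ X - C (-θ) := fun h => by
      rw [sub_right_inj, C_inj] at h
      exact hne1 (mul_right_cancel₀ hθ0 (by rw [neg_one_mul, one_mul, ← h]))
    obtain ⟨t, hle, htd⟩ := (fixTS_iff hF h20 hz hx hxr hs hxc).1 (H x hx hdet ⟨_, hxr⟩ fun c =>
      not_scalar hs hxc (exists_not_const_of_ne (Multiset.mem_add.2 (Or.inl (Multiset.mem_replicate.2 ⟨by omega, rfl⟩)))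
        (Multiset.mem_add.2 (Or.inr (Multiset.mem_replicate.2 ⟨one_ne_zero, rfl⟩))) hpne c))
    have hts : ∀ p ∈ t, p = X - C θ ∨ p = X - C (-θ) := fun p hp => by
      rcases Multiset.mem_add.1 (Multiset.mem_of_le hle (Multiset.mem_add.2 (Or.inl hp))) with h | h
      · exact Or.inl (Multiset.eq_of_mem_replicate h)
      · exact Or.inr (Multiset.eq_of_mem_replicate h)
    have htc : t.map (cd hF) = t := by
      conv_rhs => rw [← Multiset.map_id' t]
      exact Multiset.map_congr rfl fun p hp => by rcases hts p hp with rfl | rfl <;> assumption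
    rw [htc] at hle
    have hcard : Multiset.card t = m := by
      rw [← htd, Multiset.map_congr rfl (fun p hp => show p.natDegree = 1 by
        rcases hts p hp with rfl | rfl <;> exact natDegree_X_sub_C _), Multiset.map_const', Multiset.sum_replicate,
        smul_eq_mul, mul_one]
    have heq : t + t = s := Multiset.eq_of_le_of_card_le hle (by
      simp only [hsdef, Multiset.card_add, Multiset.card_replicate, hcard]; omega)
    have h1 := congrArg (Multiset.count (X - C (-θ))) heq
    rw [hsdef, Multiset.count_add, Multiset.count_add, Multiset.count_replicate, Multiset.count_replicate_self,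
      if_neg hpne] at h1
    omega
  · intro h x hx hdet hxz _
    obtain ⟨z, hxr⟩ := hxz
    have hz := z_norm hF hn hx hxr
    obtain ⟨θ, rfl, hθ⟩ := exists_sqrt hF hodd hz
    have hθ0 : θ ≠ 0 := fun h => by simp [h] at hz
    obtain ⟨s, hs, hχ⟩ := admissible_factors h20 (pow_ne_zero _ hθ0) hxr
    have hinv := inv_of_charpoly hF two_pos hz hx hs hχ
    obtain ⟨a, d, rfl, had⟩ := shape_two hF hodd hθ0 hs
    rw [fixTS_iff hF h20 hz hx hxr hs hχ]
    rcases hθ with hθ | hθ
    · obtain ⟨hc1, hc2⟩ := (cd_two hF (θ := θ)).1 hθ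
      have hpar : a % 2 = 0 ∨ 2 * m < n := by
        rcases h with h | h
        · exact Or.inr h
        by_contra hcon
        push Not at hcon
        obtain ⟨hao, h2m⟩ := hcon
        rw [det_two had hχ, neg_pow, mul_left_comm, ← pow_add, had,
          (Nat.odd_iff.2 (show d % 2 = 1 by omega)).neg_one_pow, neg_one_mul, neg_eq_iff_eq_neg] at hdet
        obtain ⟨K, hK⟩ : 2 ^ e ∣ n := (pow_dvd_pow 2 (he ▸ h)).trans pow_padicValNat_dvd
        have h1 : (θ ^ n) ^ N' = 1 := by
          rw [← pow_mul, hK, show 2 ^ e * K * N' = (2 ^ e * N') * K by ring, ← hN, pow_mul, hθ, one_pow]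
        rw [hdet, hN'o.neg_one_pow] at h1
        exact hne1 h1
      obtain ⟨j, hj1, hj2, hj3⟩ : ∃ j, j + j ≤ a ∧ j ≤ m ∧ (m - j) + (m - j) ≤ d :=
        ⟨min (a / 2) m, by omega, by omega, by omega⟩
      refine ⟨Multiset.replicate j (X - C θ) + Multiset.replicate (m - j) (X - C (-θ)), ?_, by simp; omega⟩
      rw [Multiset.map_add, Multiset.map_replicate, Multiset.map_replicate, hc1, hc2, add_add_add_comm,
        ← Multiset.replicate_add, ← Multiset.replicate_add]
      exact add_le_add ((Multiset.replicate_le_replicate _).2 hj1) ((Multiset.replicate_le_replicate _).2 hj3)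
    · obtain ⟨hc1, hc2⟩ := (cd_two hF (θ := θ)).2 hθ
      have hpne : (X - C θ : F[X]) ≠ X - C (-θ) := fun h => by
        rw [sub_right_inj, C_inj] at h
        exact hne1 (mul_right_cancel₀ hθ0 (by rw [neg_one_mul, one_mul, ← h]))
      have hda : a = d := by
        have h1 := congrArg (Multiset.count (X - C θ)) hinv
        simp only [Multiset.map_add, Multiset.map_replicate, hc1, hc2, Multiset.count_add, Multiset.count_replicate, hpne, hpne.symm,
          if_true, if_false, add_zero, zero_add] at h1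
        omega
      refine ⟨Multiset.replicate m (X - C θ), ?_, by simp⟩
      rw [Multiset.map_replicate, hc1]
      exact add_le_add ((Multiset.replicate_le_replicate _).2 (by omega)) ((Multiset.replicate_le_replicate _).2 (by omega))

/-- **`r = 2`, non-degenerate subspaces** -/
theorem allND_two (hodd : Odd q) (hn : 0 < n) (hmn : m ≤ n) :
    AllFix (n := n) (F := F) q 2 (FixND q m) ↔
      (Even m ∨ Odd n ∨ (q % 4 = 3 ∧ padicValNat 2 n ≤ padicValNat 2 (q + 1))) := by
  classical
  haveI : Fact (Nat.Prime 2) := ⟨Nat.prime_two⟩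
  have hne1 := neg_one_ne_one hF hodd
  have h20 : ((2 : ℕ) : F) ≠ 0 := by
    intro h; push_cast at h; exact hne1 (by linear_combination -h)
  obtain ⟨e, N', hN, hN'o, he, he1⟩ := exists_even_split (n := n) hodd
  have hq3 : q % 4 = 3 → 2 ≤ e := fun h3 => by
    rw [he]
    exact (padicValNat_dvd_iff_le (by omega)).1 (by norm_num; omega)
  constructor
  · intro H
    by_contra hc
    push Not at hc
    obtain ⟨hmo, hne, h3⟩ := hc
    obtain ⟨a, ha⟩ := (Nat.not_odd_iff_even.1 hne)
    obtain ⟨θ, hθ, ha1⟩ : ∃ θ : F, θ ^ (q + 1) = -1 ∧ θ ^ a * (-θ) ^ a = 1 := by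
      obtain ⟨γ, hγ⟩ := IsCyclic.exists_ofOrder_eq_natCard (α := Fˣ)
      rw [Unitary.natCard_units_F hF] at hγ
      have hprim : IsPrimitiveRoot (γ : F) ((q - 1) * (q + 1)) :=
        (hγ ▸ IsPrimitiveRoot.orderOf γ).map_of_injective (f := Units.coeHom F) Units.val_injective
      obtain ⟨k, hk⟩ : 2 ∣ q - 1 := by rw [Nat.odd_iff] at hodd; omega
      have hpos : 0 < (q - 1) * (q + 1) := hγ ▸ orderOf_pos γ
      have hq1 : (q - 1) * (q + 1) = (k * N') * 2 ^ (e + 1) := by rw [hk, hN, pow_succ]; ring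
      have hθ := hprim.pow (a := k * N') (b := 2 ^ (e + 1)) hpos hq1
      set θ := (γ : F) ^ (k * N')
      have hθe : θ ^ 2 ^ e = -1 := by
        have h1 : (θ ^ 2 ^ e) ^ 2 = 1 := by rw [← pow_mul, ← pow_succ, hθ.pow_eq_one]
        exact (sq_eq_one_iff.1 h1).resolve_left (hθ.pow_ne_one_of_pos_of_lt (by positivity) (by
          rw [pow_succ]; have := Nat.one_le_two_pow (n := e); omega))
      refine ⟨θ, by rw [hN, pow_mul, hθe, hN'o.neg_one_pow], ?_⟩
      rw [← mul_pow, mul_neg, ← pow_two, neg_pow, ← pow_mul]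
      by_cases h4 : q % 4 = 3
      · have hv := h3 h4
        have he2 := hq3 h4
        have hdvd : 2 ^ (e + 1) ∣ a + a := by
          rw [← ha]
          exact (pow_dvd_pow 2 (by omega)).trans pow_padicValNat_dvd
        obtain ⟨K, hK⟩ := hdvd
        have h4d : 4 ∣ 2 ^ (e + 1) := (show (4 : ℕ) = 2 ^ 2 from rfl) ▸ pow_dvd_pow 2 (by omega)
        have haev : Even a := by
          obtain ⟨L, hL⟩ := h4d.trans ⟨K, hK⟩
          exact ⟨L, by omega⟩
        rw [haev.neg_one_pow, two_mul, hK, pow_mul, hθ.pow_eq_one, one_pow, one_mul]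
      · have he1' : e = 1 := by
          have : ¬ 2 ^ 2 ∣ q + 1 := by rw [Nat.odd_iff] at hodd; norm_num; omega
          rw [padicValNat_dvd_iff_le (by omega), ← he] at this
          omega
        rw [he1', pow_one] at hθe
        rw [pow_mul, hθe, ← pow_add, (show Even (a + a) from ⟨a, rfl⟩).neg_one_pow]
    have hθ0 : θ ≠ 0 := fun h => by simp [h] at hθ
    have hz : (θ ^ 2) ^ (q + 1) = 1 := by rw [← pow_mul, mul_comm, pow_mul, hθ, neg_one_sq]
    obtain ⟨hc1, hc2⟩ := (cd_two hF (θ := θ)).2 hθ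
    set s := Multiset.replicate a (X - C θ) + Multiset.replicate a (X - C (-θ)) with hsdef
    have hs : Admissible 2 n (θ ^ 2) s := by
      have := admissible_two (θ := θ) a a
      rwa [← ha] at this
    obtain ⟨x, hx, hxr, hxc⟩ := exists_elt hF h20 hz hs (by
      rw [hsdef, Multiset.map_add, Multiset.map_replicate, Multiset.map_replicate, hc1, hc2, add_comm])
    have hdet : (x : Matrix (Fin n) (Fin n) F).det = 1 := by rw [det_two (a := a) (d := a) ha.symm hxc, ha1]
    have hpne : (X - C θ : F[X]) ≠ X - C (-θ) := fun h => by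
      rw [sub_right_inj, C_inj] at h
      exact hne1 (mul_right_cancel₀ hθ0 (by rw [neg_one_mul, one_mul, ← h]))
    obtain ⟨t, hle, htc, htd⟩ := (fixND_iff hF h20 hz hx hxr hs hxc).1 (H x hx hdet ⟨_, hxr⟩ fun c =>
      not_scalar hs hxc (exists_not_const_of_ne (Multiset.mem_add.2 (Or.inl (Multiset.mem_replicate.2 ⟨by omega, rfl⟩)))
        (Multiset.mem_add.2 (Or.inr (Multiset.mem_replicate.2 ⟨by omega, rfl⟩))) hpne c))
    have ht : Admissible 2 m (θ ^ 2) t := ⟨fun p hp => hs.1 p (Multiset.mem_of_le hle hp), htd⟩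
    obtain ⟨u, v, rfl, huv⟩ := shape_two hF hodd hθ0 ht
    have h1 := congrArg (Multiset.count (X - C θ)) htc
    simp only [Multiset.map_add, Multiset.map_replicate, hc1, hc2, Multiset.count_add, Multiset.count_replicate, hpne, hpne.symm,
          if_true, if_false, add_zero, zero_add] at h1
    exact hmo ⟨u, by omega⟩
  · intro h x hx hdet hxz _
    obtain ⟨z, hxr⟩ := hxz
    have hz := z_norm hF hn hx hxr
    obtain ⟨θ, rfl, hθ⟩ := exists_sqrt hF hodd hz
    have hθ0 : θ ≠ 0 := fun h => by simp [h] at hz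
    obtain ⟨s, hs, hχ⟩ := admissible_factors h20 (pow_ne_zero _ hθ0) hxr
    have hinv := inv_of_charpoly hF two_pos hz hx hs hχ
    obtain ⟨a, d, rfl, had⟩ := shape_two hF hodd hθ0 hs
    rw [fixND_iff hF h20 hz hx hxr hs hχ]
    rcases hθ with hθ | hθ
    · obtain ⟨hc1, hc2⟩ := (cd_two hF (θ := θ)).1 hθ
      refine ⟨Multiset.replicate (min a m) (X - C θ) + Multiset.replicate (m - min a m) (X - C (-θ)),
        add_le_add ((Multiset.replicate_le_replicate _).2 (by omega)) ((Multiset.replicate_le_replicate _).2 (by omega)),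
        by rw [Multiset.map_add, Multiset.map_replicate, Multiset.map_replicate, hc1, hc2], by simp⟩
    · obtain ⟨hc1, hc2⟩ := (cd_two hF (θ := θ)).2 hθ
      have hpne : (X - C θ : F[X]) ≠ X - C (-θ) := fun h => by
        rw [sub_right_inj, C_inj] at h
        exact hne1 (mul_right_cancel₀ hθ0 (by rw [neg_one_mul, one_mul, ← h]))
      have hda : a = d := by
        have h1 := congrArg (Multiset.count (X - C θ)) hinv
        simp only [Multiset.map_add, Multiset.map_replicate, hc1, hc2, Multiset.count_add, Multiset.count_replicate, hpne, hpne.symm,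
          if_true, if_false, add_zero, zero_add] at h1
        omega
      subst hda
      have hme : Even m := by
        rcases h with h | h | ⟨h3, hv⟩
        · exact h
        · rw [Nat.odd_iff] at h; omega
        exfalso
        rw [det_two had hχ, ← mul_pow, mul_neg, ← pow_two, neg_pow, ← pow_mul] at hdet
        have he2 := hq3 h3
        obtain ⟨n', hn'⟩ := pow_padicValNat_dvd (p := 2) (n := n)
        set v := padicValNat 2 n with hvdef
        have hn'o : Odd n' := by
          by_contra h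
          obtain ⟨M, rfl⟩ := (Nat.not_odd_iff_even.1 h).two_dvd
          exact pow_succ_padicValNat_not_dvd (p := 2) (n := n) (by omega)
            ⟨M, by rw [← hvdef, pow_succ, mul_assoc]; exact hn'⟩
        have hp : 2 ^ (e - v) * 2 ^ v = 2 ^ e := by rw [← pow_add, Nat.sub_add_cancel (by omega)]
        have h2a : 2 * a * (2 ^ (e - v) * N') = (q + 1) * n' := by
          rw [two_mul, had, hn', hN, ← hp]; ring
        obtain ⟨e', he'⟩ : ∃ e', e = e' + 1 + 1 := ⟨e - 2, by omega⟩
        have hev : Even (a * (2 ^ (e - v) * N')) := by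
          have : a * (2 ^ (e - v) * N') = 2 * (2 ^ e' * N' * n') := by
            have h4 : 2 * a * (2 ^ (e - v) * N') = 2 * (2 * (2 ^ e' * N' * n')) := by
              rw [h2a, hN, he', pow_succ, pow_succ]; ring
            rw [mul_assoc] at h4
            omega
          exact even_iff_two_dvd.2 ⟨_, this⟩
        have h5 := congrArg (fun x : F => x ^ (2 ^ (e - v) * N')) hdet
        rw [mul_pow, ← pow_mul, hev.neg_one_pow, one_mul, ← pow_mul, h2a, pow_mul, hθ, hn'o.neg_one_pow, one_pow] at h5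
        exact hne1 h5
      obtain ⟨j, rfl⟩ := hme
      refine ⟨Multiset.replicate j (X - C θ) + Multiset.replicate j (X - C (-θ)),
        add_le_add ((Multiset.replicate_le_replicate _).2 (by omega)) ((Multiset.replicate_le_replicate _).2 (by omega)),
        by rw [Multiset.map_add, Multiset.map_replicate, Multiset.map_replicate, hc1, hc2, add_comm], by simp⟩

end Cfsg.Agent.Classical.IsoInvariant.Herm
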