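import Mathlib
import Cfsg.Agent.Lib.Classical.IsoInvariant.HermArith
import Cfsg.Agent.Lib.Classical.IsoInvariant.HermTwo

/-!
# Elements of odd prime order `r` dividing `q + 1`
-/

set_option autoImplicit false
set_option linter.unusedSectionVars false

namespace Cfsg.Agent.Classical.IsoInvariant.Herm

open Module Polynomial Matrix
open Cfsg.Agent.Forms Cfsg.Agent.Classical.PowScalarClasses
open SUClassCount2481 (cd)

variable {F : Type*} [Field F] [Fintype F] {q : ℕ} (hF : Fintype.card F = q ^ 2) {n m r : ℕ} [hr : Fact r.Prime]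

omit [Fintype F] hr in
theorem exists_sum_zero [Fact r.Prime] (hr2 : r ≠ 2) {O : ℕ} (hO : O ≤ r) :
    ∃ E : Finset (ZMod r), E.card = O ∧ ∑ x ∈ E, x = 0 := by
  classical
  rcases eq_or_lt_of_le hO with h | hlt
  · refine ⟨Finset.univ, by rw [Finset.card_univ, ZMod.card, h], ?_⟩
    have h1 : ∑ x : ZMod r, -x = ∑ x : ZMod r, x := Equiv.sum_comp (Equiv.neg (ZMod r)) fun x => x
    rw [Finset.sum_neg_distrib, neg_eq_iff_add_eq_zero, ← two_mul] at h1
    refine (mul_eq_zero.1 h1).resolve_left fun h2 => hr2 ?_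
    exact (Nat.prime_dvd_prime_iff_eq Fact.out Nat.prime_two).1 ((ZMod.natCast_eq_zero_iff 2 r).1 (by exact_mod_cast h2))
  rcases Nat.eq_zero_or_pos O with rfl | hpos
  · exact ⟨∅, rfl, rfl⟩
  have hOne : (O : ZMod r) ≠ 0 := fun h => by
    rw [ZMod.natCast_eq_zero_iff] at h
    exact absurd (Nat.le_of_dvd hpos h) (by omega)
  set T : ZMod r := -(∑ j ∈ Finset.range O, (j : ZMod r)) / O with hT
  have hinj : Set.InjOn (fun j : ℕ => (j : ZMod r) + T) (Finset.range O : Set ℕ) := fun a ha b hb h => by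
    simp only [Finset.coe_range, Set.mem_Iio] at ha hb
    have h' := add_right_cancel h
    rw [ZMod.natCast_eq_natCast_iff', Nat.mod_eq_of_lt (by omega), Nat.mod_eq_of_lt (by omega)] at h'
    exact h'
  refine ⟨(Finset.range O).image fun j : ℕ => (j : ZMod r) + T, ?_, ?_⟩
  · rw [Finset.card_image_of_injOn hinj, Finset.card_range]
  · rw [Finset.sum_image hinj, Finset.sum_add_distrib, Finset.sum_const, Finset.card_range, nsmul_eq_mul, hT,
      mul_div_cancel₀ _ hOne, add_neg_cancel]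

include hF

/-- the scalar power is a power of an element of norm one, or no power at all -/
theorem root_or_not (hr2 : r ≠ 2) (hd : r ∣ q + 1) {z : F} (hz : z ^ (q + 1) = 1) :
    (∃ w : F, w ^ r = z ∧ w ^ (q + 1) = 1) ∨ ∀ w : F, w ^ r ≠ z := by
  by_cases h : ∃ w : F, w ^ r = z
  · obtain ⟨w, hw⟩ := h
    refine Or.inl ⟨w, hw, ?_⟩
    have hw0 : w ≠ 0 := fun e => by rw [e, zero_pow hr.out.ne_zero] at hw; exact z_ne_zero hF hz hw.symm
    by_contra hne
    have h1 : (w ^ (q + 1)) ^ r = 1 := by rw [← pow_mul, mul_comm, pow_mul, hw, hz]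
    have h2 : (w ^ (q + 1)) ^ (q - 1) = 1 := by
      rw [← pow_mul, show (q + 1) * (q - 1) = Fintype.card F - 1 by rw [hF, ← Nat.sq_sub_sq, one_pow],
        FiniteField.pow_card_sub_one_eq_one w hw0]
    have h3 : r ∣ q - 1 := (orderOf_eq_prime h1 hne) ▸ orderOf_dvd_of_pow_eq_one h2
    have h4 := Nat.dvd_sub hd h3
    have hq := HermStd.one_lt_q hF
    rw [show q + 1 - (q - 1) = 2 by omega] at h4
    exact hr2 ((Nat.prime_dvd_prime_iff_eq hr.out Nat.prime_two).1 h4)
  · push Not at h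
    exact Or.inr h

omit hF in
/-- all factors are `X ^ r - z` when `z` is no power -/
theorem shape_irr {z : F} (hno : ∀ w : F, w ^ r ≠ z) {s : Multiset F[X]} (hs : Admissible r n z s) :
    s = Multiset.replicate (Multiset.card s) (X ^ r - C z) ∧ r * Multiset.card s = n := by
  have hirr : Irreducible (X ^ r - C z) := X_pow_sub_C_irreducible_of_prime hr.out hno
  have hall : ∀ p ∈ s, p = X ^ r - C z := fun p hp =>
    eq_of_monic_of_associated (hs.1 p hp).1 (monic_X_pow_sub_C z hr.out.ne_zero)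
      ((hs.1 p hp).2.1.associated_of_dvd hirr (hs.1 p hp).2.2)
  refine ⟨Multiset.eq_replicate.2 ⟨rfl, hall⟩, ?_⟩
  rw [← hs.2, Multiset.map_congr rfl (fun p hp => show p.natDegree = r by rw [hall p hp, natDegree_X_pow_sub_C]),
    Multiset.map_const', Multiset.sum_replicate, smul_eq_mul, mul_comm]

omit hF in
theorem det_irr {z : F} (hodd : Odd r) {x : GL (Fin n) F} {k : ℕ} (hk : r * k = n)
    (hχ : (x : Matrix (Fin n) (Fin n) F).charpoly = (Multiset.replicate k (X ^ r - C z)).prod) :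
    (x : Matrix (Fin n) (Fin n) F).det = z ^ k := by
  rw [det_of_charpoly hχ, Multiset.map_replicate, Multiset.prod_replicate, ← hk, pow_mul, hodd.neg_one_pow, ← mul_pow,
    coeff_sub, coeff_X_pow, if_neg hr.out.ne_zero.symm, coeff_C_zero, zero_sub, neg_one_mul, neg_neg]

omit hF in
theorem val_split (hn : 0 < n) (hq : r ∣ q + 1) (h : padicValNat r (q + 1) < padicValNat r n) :
    ∃ e N' k, q + 1 = r ^ (e + 1) * N' ∧ ¬ r ∣ N' ∧ n = r * k ∧ r ^ (e + 1) ∣ k := by
  obtain ⟨e, he⟩ : ∃ e, padicValNat r (q + 1) = e + 1 :=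
    ⟨padicValNat r (q + 1) - 1, by have := one_le_padicValNat_of_dvd (p := r) (by omega) hq; omega⟩
  obtain ⟨N', hN'⟩ := pow_padicValNat_dvd (p := r) (n := q + 1)
  rw [he] at hN'
  have hd : r ^ (e + 2) ∣ n := (padicValNat_dvd_iff_le hn.ne').2 (by omega)
  obtain ⟨K, hK⟩ := hd
  refine ⟨e, N', r ^ (e + 1) * K, hN', fun ⟨M, hM⟩ => ?_, by rw [hK, pow_succ]; ring, dvd_mul_right _ _⟩
  refine pow_succ_padicValNat_not_dvd (p := r) (n := q + 1) (by omega) ⟨M, ?_⟩
  rw [he, hN', hM, pow_succ _ (e + 1), mul_assoc]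

omit hF in
theorem coprime_pow_eq_one {k : ℕ} {z : F} (hk : 0 < k) (hq : r ∣ q + 1) (hz : z ^ (q + 1) = 1) (hzk : z ^ k = 1)
    (h : padicValNat r (r * k) ≤ padicValNat r (q + 1)) : z ^ ((q + 1) / r) = 1 := by
  have hv : padicValNat r k < padicValNat r (q + 1) := by
    rw [padicValNat.mul hr.out.ne_zero hk.ne', padicValNat.self hr.out.one_lt] at h
    omega
  have hg : Nat.gcd k (q + 1) ∣ (q + 1) / r := by
    obtain ⟨M, hM⟩ := Nat.gcd_dvd_right k (q + 1)
    have hrM : r ∣ M := by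
      by_contra hc
      have h1 : r ^ padicValNat r (q + 1) ∣ Nat.gcd k (q + 1) * M := hM ▸ pow_padicValNat_dvd
      have h2 := ((hr.out.coprime_iff_not_dvd.2 hc).pow_left _).dvd_of_dvd_mul_right h1
      have h3 := (padicValNat_dvd_iff_le hk.ne').1 (h2.trans (Nat.gcd_dvd_left _ _))
      omega
    obtain ⟨M', rfl⟩ := hrM
    refine ⟨M', ?_⟩
    rw [Nat.div_eq_iff_eq_mul_left hr.out.pos hq]
    conv_lhs => rw [hM]
    ring
  obtain ⟨t, ht⟩ := hg
  rw [ht, pow_mul, pow_gcd_eq_one.2 ⟨hzk, hz⟩, one_pow]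

/-- an element of norm one killed by `(q + 1) / r` is an `r`-th power -/
theorem is_pow_of_pow_eq_one (hq : r ∣ q + 1) {z : F} (hz : z ^ (q + 1) = 1) (hz' : z ^ ((q + 1) / r) = 1) :
    ∃ w : F, w ^ r = z := by
  obtain ⟨g, hg⟩ := exists_prim hF
  obtain ⟨j, -, rfl⟩ := hg.eq_pow_of_pow_eq_one hz
  rw [← pow_mul, hg.pow_eq_one_iff_dvd] at hz'
  obtain ⟨d, hd⟩ := hq
  rw [hd, Nat.mul_div_cancel_left _ hr.out.pos] at hz'
  obtain ⟨i, rfl⟩ := Nat.dvd_of_mul_dvd_mul_right (Nat.pos_of_ne_zero fun h => by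
    rw [h, mul_zero] at hd; omega) hz'
  exact ⟨g ^ i, by rw [← pow_mul, mul_comm]⟩

/-- the elements without a norm one root of their scalar -/
theorem exists_irr_elt (hr2 : r ≠ 2) (hrF : (r : F) ≠ 0) (hq : r ∣ q + 1) (hn : 0 < n)
    (h : padicValNat r (q + 1) < padicValNat r n) :
    ∃ (x : GL (Fin n) F) (z : F), x ∈ Cfsg.GU n F q ∧ (x : Matrix (Fin n) (Fin n) F).det = 1 ∧
      z ^ (q + 1) = 1 ∧ (∀ w : F, w ^ r ≠ z) ∧ (x : Matrix (Fin n) (Fin n) F) ^ r = z • 1 ∧
      (∀ c : F, (x : Matrix (Fin n) (Fin n) F) ≠ c • 1) := by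
  obtain ⟨e, N', k, hN, hN', hk, hek⟩ := val_split hn hq h
  obtain ⟨g, hg⟩ := exists_prim hF
  have hz' := hg.pow (a := N') (b := r ^ (e + 1)) (by omega) (by rw [hN, mul_comm])
  have hzN : (g ^ N') ^ (q + 1) = 1 := by rw [← pow_mul, mul_comm, pow_mul, hg.pow_eq_one, one_pow]
  have hno : ∀ w : F, w ^ r ≠ g ^ N' := by
    rcases root_or_not hF hr2 hq hzN with ⟨w, hw, hwq⟩ | hno
    · exfalso
      obtain ⟨j, -, rfl⟩ := hg.eq_pow_of_pow_eq_one hwq
      rw [← pow_mul] at hw
      have h2 : g ^ (j * r * r ^ e) = g ^ (N' * r ^ e) := by rw [pow_mul, hw, ← pow_mul]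
      rw [hg.isUnit (by omega) |>.unit_spec.symm, ← Units.val_pow_eq_pow_val, ← Units.val_pow_eq_pow_val, Units.val_inj,
        pow_eq_pow_iff_modEq, ← orderOf_units, IsUnit.unit_spec, ← hg.eq_orderOf, hN] at h2
      have h3 : r ^ (e + 1) ∣ N' * r ^ e := by
        have h5 : j * r * r ^ e ≡ N' * r ^ e [MOD r ^ (e + 1)] := h2.of_mul_right _
        exact h5.dvd_iff dvd_rfl |>.1 ⟨j, by rw [pow_succ]; ring⟩
      rw [pow_succ', mul_comm N', mul_comm r] at h3
      exact hN' (Nat.dvd_of_mul_dvd_mul_left (Nat.pow_pos hr.out.pos) h3)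
    · exact hno
  have hirr := X_pow_sub_C_irreducible_of_prime hr.out hno
  have hs : Admissible r n (g ^ N') (Multiset.replicate k (X ^ r - C (g ^ N'))) := by
    refine ⟨fun p hp => ?_, by rw [Multiset.map_replicate, natDegree_X_pow_sub_C, Multiset.sum_replicate, smul_eq_mul, hk, mul_comm]⟩
    rw [Multiset.eq_of_mem_replicate hp]
    exact ⟨monic_X_pow_sub_C _ hr.out.ne_zero, hirr, dvd_rfl⟩
  obtain ⟨x, hx, hxr, hxc⟩ := exists_elt hF hrF hzN hs (by
    rw [Multiset.map_replicate, cd_binom hF hr.out.pos hzN])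
  refine ⟨x, _, hx, ?_, hzN, hno, hxr, fun c hc => ?_⟩
  · rw [det_irr (hr.out.odd_of_ne_two hr2) hk.symm hxc]
    obtain ⟨K, rfl⟩ := hek
    rw [pow_mul, hz'.pow_eq_one, one_pow]
  · refine hno c ?_
    rw [hc, _root_.smul_pow, one_pow] at hxr
    simpa using congrArg (fun M : Matrix (Fin n) (Fin n) F => M ⟨0, hn⟩ ⟨0, hn⟩) hxr

/-- linear factors with few repetitions -/
theorem exists_linear_elt (hr2 : r ≠ 2) (hrF : (r : F) ≠ 0) (hq : r ∣ q + 1) (hm : 1 ≤ m) (hmn : 2 * m ≤ n)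
    (h : n + 2 ≤ r + 2 * m) :
    ∃ x : GL (Fin n) F, x ∈ Cfsg.GU n F q ∧ (x : Matrix (Fin n) (Fin n) F).det = 1 ∧
      (x : Matrix (Fin n) (Fin n) F) ^ r = (1 : F) • 1 ∧ (∀ c : F, (x : Matrix (Fin n) (Fin n) F) ≠ c • 1) ∧
      ¬ FixTS q m x := by
  classical
  obtain ⟨g, hg⟩ := exists_prim hF
  obtain ⟨d, hd⟩ := hq
  have hη := hg.pow (a := d) (b := r) (by omega) (by rw [hd, mul_comm])
  have hηq : (g ^ d) ^ (q + 1) = 1 := by rw [← pow_mul, mul_comm, pow_mul, hg.pow_eq_one, one_pow]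
  obtain ⟨η, rfl⟩ : ∃ η, g ^ d = η := ⟨_, rfl⟩
  obtain ⟨E, hEc, hE⟩ := exists_sum_zero (r := r) hr2 (O := n + 2 - 2 * m) (by omega)
  let φ : ZMod r → F[X] := fun e => X - C ((g ^ d) ^ e.val)
  have hφinj : Function.Injective φ := fun a b hab => by
    simp only [φ, sub_right_inj, C_inj] at hab
    exact ZMod.val_injective r (hη.pow_inj (ZMod.val_lt a) (ZMod.val_lt b) hab)
  have hφ0 : φ 0 = X - C 1 := by simp [φ]
  have hroot : ∀ e, ((g ^ d) ^ (e : ZMod r).val) ^ r = 1 := fun e => by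
    rw [← pow_mul, mul_comm, pow_mul, hη.pow_eq_one, one_pow]
  have hadm : ∀ e, (φ e).Monic ∧ Irreducible (φ e) ∧ φ e ∣ X ^ r - C 1 := fun e => by
    refine ⟨monic_X_sub_C _, irreducible_X_sub_C _, dvd_iff_isRoot.2 ?_⟩
    simp [IsRoot, hroot e]
  have hcd : ∀ e, cd hF (φ e) = φ e := fun e => linear_cd hF (by
    rw [← pow_succ, ← pow_mul, mul_comm, pow_mul, hηq, one_pow])
  set L : Multiset (ZMod r) := Multiset.replicate (2 * (m - 1)) 0 + E.val with hLdef
  have hLc : Multiset.card L = n := by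
    rw [hLdef, Multiset.card_add, Multiset.card_replicate, Finset.card_val, hEc]; omega
  have hs : Admissible r n 1 (L.map φ) := ⟨fun p hp => by
    obtain ⟨e, -, rfl⟩ := Multiset.mem_map.1 hp; exact hadm e, by
    rw [Multiset.map_map, show natDegree ∘ φ = fun _ => 1 from funext fun e => natDegree_X_sub_C _,
      Multiset.map_const', Multiset.sum_replicate, hLc, smul_eq_mul, mul_one]⟩
  obtain ⟨x, hx, hxr, hxc⟩ := exists_elt hF hrF (one_pow _) hs (by
    rw [Multiset.map_map]; exact Multiset.map_congr rfl fun e _ => hcd e)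
  refine ⟨x, hx, ?_, hxr, fun c => not_scalar hs hxc ?_, fun hfix => ?_⟩
  · rw [det_of_charpoly hxc, Multiset.map_map, show ((fun p : F[X] => p.coeff 0) ∘ φ) =
      fun e => (-1) * (g ^ d) ^ (e : ZMod r).val from funext fun e => by
        show (X - C ((g ^ d) ^ (e : ZMod r).val)).coeff 0 = _
        rw [coeff_sub, coeff_X_zero, coeff_C_zero, zero_sub, neg_one_mul], Multiset.prod_map_mul,
      Multiset.map_const', Multiset.prod_replicate, hLc, ← mul_assoc, ← pow_add, (Even.neg_one_pow ⟨n, rfl⟩), one_mul]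
    have hsum : ∀ M : Multiset (ZMod r), ((M.map fun e => (g ^ d) ^ e.val).prod) = (g ^ d) ^ (M.map ZMod.val).sum := by
      intro M
      induction M using Multiset.induction with
      | empty => simp
      | cons a M ih => simp [ih, pow_add]
    rw [hsum, hη.pow_eq_one_iff_dvd, ← ZMod.natCast_eq_zero_iff, Nat.cast_multiset_sum, Multiset.map_map,
      show (Nat.cast ∘ ZMod.val : ZMod r → ZMod r) = id from funext fun e => ZMod.natCast_zmod_val e, Multiset.map_id,
      hLdef, Multiset.sum_add, Multiset.sum_replicate, smul_zero, zero_add, ← hE, Finset.sum_val]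
    rfl
  · obtain ⟨a, ha, b, hb, hab⟩ := Finset.one_lt_card.1 (show 1 < E.card by omega)
    exact exists_not_const_of_ne (Multiset.mem_map_of_mem φ (Multiset.mem_add.2 (Or.inr ha)))
      (Multiset.mem_map_of_mem φ (Multiset.mem_add.2 (Or.inr hb))) (fun h => hab (hφinj h)) c
  · obtain ⟨t, hle, htd⟩ := (fixTS_iff hF hrF (one_pow _) hx hxr hs hxc).1 hfix
    have hmem : ∀ p ∈ t, ∃ e ∈ L, φ e = p := fun p hp =>
      Multiset.mem_map.1 (Multiset.mem_of_le hle (Multiset.mem_add.2 (Or.inl hp)))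
    have htc : t.map (cd hF) = t := by
      conv_rhs => rw [← Multiset.map_id' t]
      exact Multiset.map_congr rfl fun p hp => by obtain ⟨e, -, rfl⟩ := hmem p hp; exact hcd e
    rw [htc] at hle
    have hcard : Multiset.card t = m := by
      rw [← htd, Multiset.map_congr rfl (fun p hp => show p.natDegree = 1 by
        obtain ⟨e, -, rfl⟩ := hmem p hp; exact natDegree_X_sub_C _), Multiset.map_const', Multiset.sum_replicate,
        smul_eq_mul, mul_one]
    have hLcount : ∀ e, L.count e ≤ (if e = 0 then 2 * (m - 1) + 1 else 1) := fun e => by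
      have h3 := Multiset.nodup_iff_count_le_one.1 E.nodup e
      rw [hLdef, Multiset.count_add, Multiset.count_replicate]
      split_ifs with h1 h2 h2 <;> first | omega | exact absurd h1.symm h2 | exact absurd h2.symm h1
    have hall : ∀ p ∈ t, p = X - C 1 := fun p hp => by
      obtain ⟨e, -, rfl⟩ := hmem p hp
      by_contra hne
      have h1 := Multiset.le_iff_count.1 hle (φ e)
      rw [Multiset.count_add, Multiset.count_map_eq_count' φ L hφinj] at h1
      have h2 := hLcount e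
      rw [if_neg fun h => hne (by rw [h, hφ0])] at h2
      have := Multiset.count_pos.2 hp
      omega
    have h1 := Multiset.le_iff_count.1 hle (φ 0)
    rw [Multiset.count_add, Multiset.count_map_eq_count' φ L hφinj,
      Multiset.count_eq_card.2 (fun p hp => by rw [hφ0, hall p hp])] at h1
    have h2 := hLcount 0
    rw [if_pos rfl] at h2
    omega

/-- **`r` odd, dividing `q + 1`: non-degenerate subspaces** -/
theorem allND_index_two {b : ℕ} (hset : OrthPrimeClasses.Setting F r b) {P : Finset F[X]}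
    (hP : ∀ x, x ∈ P ↔ StarFactor.Fac r x) (hb : b = 1) (h4 : orderOf (q : ZMod r) % 4 = 2) (hq : r ∣ q + 1)
    (hn : 0 < n) (hmn : m ≤ n) :
    AllFix (n := n) (F := F) q r (FixND q m) ↔ r ∣ m ∨ padicValNat r n ≤ padicValNat r (q + 1) := by
  classical
  have hr2 := hset.ne_two
  subst hb
  constructor
  · intro H
    by_contra hc
    push Not at hc
    obtain ⟨hnd, hv⟩ := hc
    obtain ⟨x, z, hx, hdet, hz, hno, hxr, hns⟩ := exists_irr_elt hF hr2 hset.cast_ne hq hn hv
    obtain ⟨s, hs, hχ⟩ := admissible_factors hset.cast_ne (z_ne_zero hF hz) hxr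
    obtain ⟨t, hle, -, htd⟩ := (fixND_iff hF hset.cast_ne hz hx hxr hs hχ).1 (H x hx hdet ⟨z, hxr⟩ hns)
    obtain ⟨-, ht2⟩ := shape_irr hno
      (show Admissible r m z t from ⟨fun p hp => hs.1 p (Multiset.mem_of_le hle hp), htd⟩)
    exact hnd ⟨_, ht2.symm⟩
  · intro h x hx hdet hxz _
    obtain ⟨z, hxr⟩ := hxz
    have hz := z_norm hF hn hx hxr
    rcases root_or_not hF hr2 hq hz with ⟨w, hw, hwq⟩ | hno
    · obtain ⟨y, hy, hyr, -, hW⟩ := scale hF hx hset.prime.pos hw hwq hxr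
      obtain ⟨W, h1, h2, h3⟩ := fixND_of_all hF hset hP hmn (m := m) (fun f A hfA _ =>
        ⟨min A m, min_le_left _ _, by rw [csize, if_pos h4, one_mul]; exact min_le_right _ _, by
          rw [csize, if_pos h4, one_mul] at hfA ⊢; omega⟩) hy hyr
      exact ⟨W, h1, h2, hW W h3⟩
    · obtain ⟨s, hs, hχ⟩ := admissible_factors hset.cast_ne (z_ne_zero hF hz) hxr
      obtain ⟨hsr, hsn⟩ := shape_irr hno hs
      rcases h with ⟨j, rfl⟩ | hv
      · rw [fixND_iff hF hset.cast_ne hz hx hxr hs hχ]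
        have hjs : j ≤ Multiset.card s := Nat.le_of_mul_le_mul_left (show r * j ≤ r * Multiset.card s by omega) hr.out.pos
        refine ⟨Multiset.replicate j (X ^ r - C z), ?_, by rw [Multiset.map_replicate, cd_binom hF hr.out.pos hz],
          by simp [mul_comm]⟩
        rw [hsr]
        exact (Multiset.replicate_le_replicate _).2 hjs
      · exfalso
        rw [hsr] at hχ
        rw [det_irr (hr.out.odd_of_ne_two hr2) hsn hχ] at hdet
        obtain ⟨w, hw⟩ := is_pow_of_pow_eq_one hF hq hz (coprime_pow_eq_one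
          (Nat.pos_of_ne_zero fun h0 => by rw [h0, mul_zero] at hsn; omega) hq hz hdet (by rwa [hsn]))
        exact hno w hw

/-- **`r` odd, dividing `q + 1`: totally isotropic subspaces** -/
theorem allTS_index_two {b : ℕ} (hset : OrthPrimeClasses.Setting F r b) {P : Finset F[X]}
    (hP : ∀ x, x ∈ P ↔ StarFactor.Fac r x) (hPc : P.card = r - 1) (hb : b = 1)
    (h4 : orderOf (q : ZMod r) % 4 = 2) (hq : r ∣ q + 1)
    (hm : 1 ≤ m) (hmn : 2 * m ≤ n) :
    AllFix (n := n) (F := F) q r (FixTS q m) ↔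
      r - 1 + 2 * m ≤ n ∧ (r ∣ m ∨ padicValNat r n ≤ padicValNat r (q + 1)) := by
  classical
  have hr2 := hset.ne_two
  subst hb
  constructor
  · intro H
    refine ⟨?_, ?_⟩
    · by_contra hlt
      obtain ⟨x, hx, hdet, hxr, hns, hnf⟩ := exists_linear_elt hF (n := n) hr2 hset.cast_ne hq hm hmn (by omega)
      exact hnf (H x hx hdet ⟨1, hxr⟩ hns)
    by_contra hc
    push Not at hc
    obtain ⟨hnd, hv⟩ := hc
    obtain ⟨x, z, hx, hdet, hz, hno, hxr, hns⟩ := exists_irr_elt hF hr2 hset.cast_ne hq (by omega) hv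
    obtain ⟨s, hs, hχ⟩ := admissible_factors hset.cast_ne (z_ne_zero hF hz) hxr
    obtain ⟨t, hle, htd⟩ := (fixTS_iff hF hset.cast_ne hz hx hxr hs hχ).1 (H x hx hdet ⟨z, hxr⟩ hns)
    obtain ⟨-, ht2⟩ := shape_irr hno (show Admissible r m z t from
      ⟨fun p hp => hs.1 p (Multiset.mem_of_le hle (Multiset.mem_add.2 (Or.inl hp))), htd⟩)
    exact hnd ⟨_, ht2.symm⟩
  · rintro ⟨htn, h⟩ x hx hdet hxz -
    obtain ⟨z, hxr⟩ := hxz
    have hn : 0 < n := by omega
    have hz := z_norm hF hn hx hxr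
    rcases root_or_not hF hr2 hq hz with ⟨w, hw, hwq⟩ | hno
    · obtain ⟨y, hy, hyr, -, hW⟩ := scale hF hx hset.prime.pos hw hwq hxr
      obtain ⟨W, h1, h2, h3⟩ := fixTS_of_all hF hset hP hmn ((allTS_iff_fixed (t := P.card) one_pos
        (by rw [hPc]; have := hr.out.two_le; omega) h4 hmn ⟨n, by omega, le_rfl, one_dvd _⟩).2
          ⟨hm, by simp [Nat.mod_one], by rw [hPc, Nat.div_one, Nat.div_one]; omega⟩) hy hyr
      exact ⟨W, h1, h2, hW W h3⟩
    · obtain ⟨s, hs, hχ⟩ := admissible_factors hset.cast_ne (z_ne_zero hF hz) hxr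
      obtain ⟨hsr, hsn⟩ := shape_irr hno hs
      rcases h with ⟨j, rfl⟩ | hv
      · rw [fixTS_iff hF hset.cast_ne hz hx hxr hs hχ]
        have hjs : j + j ≤ Multiset.card s := Nat.le_of_mul_le_mul_left (show r * (j + j) ≤ r * Multiset.card s by rw [mul_add]; omega) hr.out.pos
        refine ⟨Multiset.replicate j (X ^ r - C z), ?_, by simp [mul_comm]⟩
        rw [Multiset.map_replicate, cd_binom hF hr.out.pos hz, ← Multiset.replicate_add, hsr]
        exact (Multiset.replicate_le_replicate _).2 hjs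
      · exfalso
        rw [hsr] at hχ
        rw [det_irr (hr.out.odd_of_ne_two hr2) hsn hχ] at hdet
        obtain ⟨w, hw⟩ := is_pow_of_pow_eq_one hF hq hz (coprime_pow_eq_one
          (Nat.pos_of_ne_zero fun h0 => by rw [h0, mul_zero] at hsn; omega) hq hz hdet (by rwa [hsn]))
        exact hno w hw

end Cfsg.Agent.Classical.IsoInvariant.Herm
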