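import Mathlib
import Cfsg.Agent.Lib.Classical.IsoInvariant.HermIndexTwo

/-!
# From the special unitary group to the criteria
-/

set_option autoImplicit false
set_option linter.unusedSectionVars false

namespace Cfsg.Agent.Classical.IsoInvariant.Herm

open Module Matrix
open Cfsg.Agent.Classical.StarFactor (Fac)
open Cfsg.Agent.Classical.OrthPrimeClasses (Setting)

variable {F : Type*} [Field F] [Fintype F] {q n m r b : ℕ}

/-- elements of the special unitary group are elements of the unitary group with determinant `1` -/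
theorem allFix_iff_sl {P : Matrix (Fin n) (Fin n) F → Prop} :
    (∀ x : Matrix.SpecialLinearGroup (Fin n) F, x ∈ Cfsg.SU n F q →
      (∃ z : F, ((x ^ r : Matrix.SpecialLinearGroup (Fin n) F) : Matrix (Fin n) (Fin n) F) = z • (1 : Matrix (Fin n) (Fin n) F)) →
      (∀ z : F, (x : Matrix (Fin n) (Fin n) F) ≠ z • (1 : Matrix (Fin n) (Fin n) F)) →
      P (x : Matrix (Fin n) (Fin n) F)) ↔
    AllFix (n := n) (F := F) q r fun x => P (x : Matrix (Fin n) (Fin n) F) := by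
  constructor
  · intro H x hx hdet hz hns
    obtain ⟨z, hz⟩ := hz
    exact H ⟨(x : Matrix (Fin n) (Fin n) F), hdet⟩ hx
      ⟨z, (Matrix.SpecialLinearGroup.coe_pow _ r).trans hz⟩ hns
  · intro H x hx hz hns
    obtain ⟨z, hz⟩ := hz
    exact H (Matrix.SpecialLinearGroup.toGL x) hx x.2 ⟨z, (Matrix.SpecialLinearGroup.coe_pow _ r).symm.trans hz⟩ hns

theorem allFix_congr {P P' : GL (Fin n) F → Prop} (h : ∀ x, P x ↔ P' x) :
    AllFix (n := n) (F := F) q r P ↔ AllFix (n := n) (F := F) q r P' := by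
  simp only [AllFix, h]

variable (hF : Fintype.card F = q ^ 2) [Fact r.Prime]
include hF

theorem allND_main (hset : Setting F r b) {P : Finset (Polynomial F)} (hP : ∀ x, x ∈ P ↔ Fac r x)
    (hP0 : P.Nonempty) (hmu : ∀ u : F, u ^ (q + 1) = 1 → u ^ r = 1 → u = 1) (hn : 0 < n) (hmn : m ≤ n) :
    AllFix (n := n) (F := F) q r (FixND q m) ↔ AllND (csize (orderOf (q : ZMod r) % 4 = 2) b) n m := by
  refine ⟨allND_of_fix hF hset hP hP0 hmu hn, fun H x hx _ hxz _ => ?_⟩
  obtain ⟨z, hxr⟩ := hxz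
  obtain ⟨w, hw, hwq⟩ := exists_root_mu hF hset.prime.pos hmu (z_norm hF hn hx hxr)
  obtain ⟨y, hy, hyr, -, hW⟩ := scale hF hx hset.prime.pos hw hwq hxr
  obtain ⟨W, h1, h2, h3⟩ := fixND_of_all hF hset hP hmn H hy hyr
  exact ⟨W, h1, h2, hW W h3⟩

theorem allTS_main (hset : Setting F r b) {P : Finset (Polynomial F)} (hP : ∀ x, x ∈ P ↔ Fac r x)
    (hP0 : P.Nonempty) (hmu : ∀ u : F, u ^ (q + 1) = 1 → u ^ r = 1 → u = 1) (hn : 0 < n) (hmn : 2 * m ≤ n) :
    AllFix (n := n) (F := F) q r (FixTS q m) ↔ AllTS (orderOf (q : ZMod r) % 4 = 2) b P.card n m := by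
  refine ⟨allTS_of_fix hF hset hP hP0 hmu hn, fun H x hx _ hxz _ => ?_⟩
  obtain ⟨z, hxr⟩ := hxz
  obtain ⟨w, hw, hwq⟩ := exists_root_mu hF hset.prime.pos hmu (z_norm hF hn hx hxr)
  obtain ⟨y, hy, hyr, -, hW⟩ := scale hF hx hset.prime.pos hw hwq hxr
  obtain ⟨W, h1, h2, h3⟩ := fixTS_of_all hF hset hP hmn H hy hyr
  exact ⟨W, h1, h2, hW W h3⟩

end Cfsg.Agent.Classical.IsoInvariant.Herm
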