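import Mathlib
import Cfsg.Agent.Lib.Classical.IsoInvariant.HermSemi
import Cfsg.Agent.Lib.Classical.JordanUnitary

/-!
# Invariant non-degenerate subspaces of unipotent unitary maps
-/

set_option autoImplicit false
set_option linter.unusedSectionVars false

namespace Cfsg.Agent.Classical.IsoInvariant.Herm

open Module Matrix
open Cfsg.Agent.Classical.JordanChains (Chains parts Unip nil)

variable {F : Type*} [Field F] {n m k : ℕ}

/-- the rank profile of a multiset of block sizes -/
def rk (S : Multiset ℕ) (i : ℕ) : ℕ := (S.map fun a => a - i).sum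

theorem rk_add (S T : Multiset ℕ) (i : ℕ) : rk (S + T) i = rk S i + rk T i := by
  simp [rk]

theorem count_key (S : Multiset ℕ) {a : ℕ} (ha : 1 ≤ a) :
    S.count a + 2 * rk S a = rk S (a - 1) + rk S (a + 1) := by
  induction S using Multiset.induction with
  | empty => simp [rk]
  | cons b S ih =>
    simp only [rk, Multiset.map_cons, Multiset.sum_cons, Multiset.count_cons] at ih ⊢
    split_ifs with h <;> omega

theorem eq_of_rk {S T : Multiset ℕ} (hS : ∀ a ∈ S, 0 < a) (hT : ∀ a ∈ T, 0 < a) (h : ∀ i, rk S i = rk T i) :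
    S = T := by
  ext a
  rcases Nat.eq_zero_or_pos a with rfl | ha
  · rw [Multiset.count_eq_zero.2 fun h0 => (hS 0 h0).false, Multiset.count_eq_zero.2 fun h0 => (hT 0 h0).false]
  · have h1 := count_key S ha
    have h2 := count_key T ha
    rw [h, h, h] at h1
    omega

theorem rank_profile {g : GL (Fin n) F} (hg : Unip g) (i : ℕ) :
    finrank F (LinearMap.range (nil g ^ i)) = rk (JordanChains.partition g hg).parts i := by
  obtain ⟨t, d, v, h⟩ := JordanChains.exists_chains (nil g) hg
  rw [JordanChains.partition_eq hg h, h.finrank_range_pow]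
  simp only [rk, parts, Finset.sum, Multiset.map_map, Function.comp_def]

/-- the block sizes of two blocks -/
theorem parts_of_block (f : ((Fin m → F) × (Fin k → F)) ≃ₗ[F] (Fin n → F)) {g : GL (Fin n) F} {g₁ : GL (Fin m) F}
    {g₂ : GL (Fin k) F} (h : ∀ p : (Fin m → F) × (Fin k → F), lin g (f p) = f (lin g₁ p.1, lin g₂ p.2))
    (hg : Unip g) (hg₁ : Unip g₁) (hg₂ : Unip g₂) :
    (JordanChains.partition g hg).parts =
      (JordanChains.partition g₁ hg₁).parts + (JordanChains.partition g₂ hg₂).parts := by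
  refine eq_of_rk (fun a ha => (JordanChains.partition g hg).parts_pos ha) (fun a ha => ?_) fun i => ?_
  · rcases Multiset.mem_add.1 ha with ha | ha <;> exact Nat.Partition.parts_pos _ ha
  rw [rk_add, ← rank_profile, ← rank_profile, ← rank_profile]
  have hnil : ∀ {d : ℕ} (u : GL (Fin d) F) (x : Fin d → F), nil u x = lin u x - x := fun u x => by
    simp [nil, lin]
  have hpow : ∀ (j : ℕ) (p : (Fin m → F) × (Fin k → F)),
      (nil g ^ j) (f p) = f ((nil g₁ ^ j) p.1, (nil g₂ ^ j) p.2) := by
    intro j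
    induction j with
    | zero => intro p; rfl
    | succ j ih =>
      intro p
      rw [pow_succ', pow_succ', pow_succ', Module.End.mul_apply, ih, hnil, h, Module.End.mul_apply,
        Module.End.mul_apply, hnil, hnil, ← map_sub]
      rfl
  let e : (LinearMap.range (nil g₁ ^ i) × LinearMap.range (nil g₂ ^ i)) →ₗ[F] (Fin n → F) :=
    f.toLinearMap ∘ₗ ((LinearMap.range (nil g₁ ^ i)).subtype.prodMap (LinearMap.range (nil g₂ ^ i)).subtype)
  have hinj : Function.Injective e := fun a b hab => by
    have h1 := f.injective hab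
    exact Prod.ext (Subtype.ext (Prod.ext_iff.1 h1).1) (Subtype.ext (Prod.ext_iff.1 h1).2)
  have hr : LinearMap.range e = LinearMap.range (nil g ^ i) := by
    ext v
    constructor
    · rintro ⟨⟨⟨_, a, rfl⟩, ⟨_, b, rfl⟩⟩, rfl⟩
      exact ⟨f (a, b), hpow i (a, b)⟩
    · rintro ⟨w, rfl⟩
      obtain ⟨⟨a, b⟩, rfl⟩ := f.surjective w
      exact ⟨(⟨_, a, rfl⟩, ⟨_, b, rfl⟩), (hpow i (a, b)).symm⟩
  rw [← hr, LinearMap.finrank_range_of_inj hinj, Module.finrank_prod]

variable [Fintype F] {q : ℕ} (hF : Fintype.card F = q ^ 2)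
include hF

/-- **non-degenerate invariant subspaces of a unipotent element of exponent `p`** -/
theorem fixND_unip_iff (p : ℕ) [Fact p.Prime] [CharP F p] {x : GL (Fin n) F} (hx : x ∈ Cfsg.GU n F q)
    (hxp : x ^ p = 1) (hg : Unip x) :
    FixND q m x ↔ ∃ ν, ν ≤ (JordanChains.partition x hg).parts ∧ ν.sum = m := by
  constructor
  · rintro ⟨W, hd, hW, hi⟩
    obtain ⟨y₁, y₂, f, h1, h2, hf⟩ := split_nd hF hx hW hd hi
    have hxr : (x : Matrix (Fin n) (Fin n) F) ^ p = (1 : F) • 1 := by
      rw [← Units.val_pow_eq_pow_val, hxp, one_smul, Units.val_one]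
    have hu₁ : Unip y₁ := ⟨p ^ 1, (JordanChains.pow_char_eq_one_iff p y₁ 1).1 (by
      rw [pow_one]
      refine Units.ext ?_
      rw [Units.val_pow_eq_pow_val, pull_pow (a := f.toLinearMap ∘ₗ LinearMap.inl F _ _)
        (f.injective.comp fun a b h => (Prod.ext_iff.1 h).1) (fun u => by
          show lin x (f (u, 0)) = f (lin y₁ u, 0)
          rw [hf, map_zero]) hxr, one_smul, Units.val_one])⟩
    have hu₂ : Unip y₂ := ⟨p ^ 1, (JordanChains.pow_char_eq_one_iff p y₂ 1).1 (by
      rw [pow_one]
      refine Units.ext ?_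
      rw [Units.val_pow_eq_pow_val, pull_pow (a := f.toLinearMap ∘ₗ LinearMap.inr F _ _)
        (f.injective.comp fun a b h => (Prod.ext_iff.1 h).2) (fun u => by
          show lin x (f (0, u)) = f (0, lin y₂ u)
          rw [hf, map_zero]) hxr, one_smul, Units.val_one])⟩
    refine ⟨(JordanChains.partition y₁ hu₁).parts, ?_, (JordanChains.partition y₁ hu₁).parts_sum⟩
    rw [parts_of_block f hf hg hu₁ hu₂]
    exact Multiset.le_add_right _ _
  · rintro ⟨ν, hle, hν⟩
    obtain ⟨η, hη⟩ := Multiset.le_iff_exists_add.1 hle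
    have hpos : ∀ a ∈ ν + η, 0 < a := fun a ha => (JordanChains.partition x hg).parts_pos (hη ▸ ha)
    obtain ⟨k, hk⟩ : ∃ k, η.sum = k := ⟨_, rfl⟩
    have hn : n = m + k := by
      rw [← (JordanChains.partition x hg).parts_sum, hη, Multiset.sum_add, hν, hk]
    subst hn
    obtain ⟨⟨y₁, h1⟩, hu₁, hp₁⟩ := JordanUnitary.exists_unip hF
      (⟨ν, fun {a} ha => hpos a (Multiset.mem_add.2 (Or.inl ha)), hν⟩ : Nat.Partition m)
    obtain ⟨⟨y₂, h2⟩, hu₂, hp₂⟩ := JordanUnitary.exists_unip hF
      (⟨η, fun {a} ha => hpos a (Multiset.mem_add.2 (Or.inr ha)), hk⟩ : Nat.Partition k)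
    obtain ⟨B, hB, hBe, W, hWd, hW, hWi⟩ := exists_block hF h1 h2
    have hBu : Unip B := by
      obtain ⟨a, ha⟩ := hu₁
      obtain ⟨b, hb⟩ := hu₂
      refine ⟨a + b, LinearMap.ext fun v => ?_⟩
      obtain ⟨w, rfl⟩ := (appendL F m k).surjective v
      have hpow : ∀ (j : ℕ) (p : (Fin m → F) × (Fin k → F)),
          (nil B ^ j) (appendL F m k p) = appendL F m k ((nil y₁ ^ j) p.1, (nil y₂ ^ j) p.2) := by
        intro j
        induction j with
        | zero => intro p; rfl
        | succ j ih =>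
          intro p
          have hnil : ∀ {d : ℕ} (u : GL (Fin d) F) (x : Fin d → F), nil u x = lin u x - x := fun u x => by
            simp [nil, lin]
          rw [pow_succ', pow_succ', pow_succ', Module.End.mul_apply, ih, hnil, hBe, Module.End.mul_apply,
            Module.End.mul_apply, hnil, hnil, ← map_sub]
          rfl
      rw [hpow, pow_add, pow_add, ha, hb, zero_mul, mul_zero, LinearMap.zero_apply, LinearMap.zero_apply,
        LinearMap.zero_apply]
      exact map_zero _
    have hc : IsConj B x := (JordanChains.isConj_iff_partition hBu hg).2 (Nat.Partition.ext (by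
      rw [parts_of_block (appendL F m k) hBe hBu hu₁ hu₂, hp₁, hp₂, hη]))
    obtain ⟨W', hW'd, hW', hW'i⟩ := fixes_nd hF hx hB hc hW hWi
    exact ⟨W', hW'd.trans hWd, hW', hW'i⟩

end Cfsg.Agent.Classical.IsoInvariant.Herm
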