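import Mathlib
import Cfsg.Agent.Lib.Classical.IsoInvariant.HermUnip
import Cfsg.Agent.Lib.Classical.IsoInvariant.HermTwo

/-!
# Elements of order the characteristic
-/

set_option autoImplicit false
set_option linter.unusedSectionVars false

namespace Cfsg.Agent.Classical.IsoInvariant.Herm

open Module Matrix
open Cfsg.Agent.Classical.JordanChains (Unip nil)

variable {F : Type*} [Field F] [Fintype F] {q : ℕ} {n m : ℕ}

/-- every partition with parts at most `p` contains one of `m` -/
def PartCond (p n m : ℕ) : Prop :=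
  ∀ μ : Multiset ℕ, (∀ a ∈ μ, 0 < a ∧ a ≤ p) → μ.sum = n → ∃ ν : Multiset ℕ, ν ≤ μ ∧ ν.sum = m

theorem partCond_two (hmn : m ≤ n) : PartCond 2 n m ↔ Odd n ∨ Even m := by
  constructor
  · intro H
    by_contra hc
    push Not at hc
    obtain ⟨hn, hm⟩ := hc
    obtain ⟨k, hk⟩ := Nat.not_odd_iff_even.1 hn
    obtain ⟨ν, hν, hsum⟩ := H (Multiset.replicate k 2) (fun a ha => by
      rw [Multiset.eq_of_mem_replicate ha]; omega) (by simp; omega)
    obtain ⟨j, -, rfl⟩ := Multiset.le_replicate_iff.1 hν
    exact hm ⟨j, by rw [← hsum]; simp; omega⟩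
  · intro h μ hμ hsum
    have hdec : μ = Multiset.replicate (μ.count 2) 2 + Multiset.replicate (μ.count 1) 1 := by
      ext a
      rw [Multiset.count_add, Multiset.count_replicate, Multiset.count_replicate]
      by_cases ha : a ∈ μ
      · obtain ⟨h1, h2⟩ := hμ a ha
        rcases (show a = 1 ∨ a = 2 by omega) with rfl | rfl <;> simp
      · have h0 := Multiset.count_eq_zero.2 ha
        split_ifs with h1 h2 <;> subst_vars <;> omega
    have hs : 2 * μ.count 2 + μ.count 1 = n := by
      rw [← hsum]; conv_rhs => rw [hdec]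
      simp [mul_comm]
    have hl : m - 2 * min (μ.count 2) (m / 2) ≤ μ.count 1 := by
      rcases h with h | h
      · obtain ⟨k, hk⟩ := h; omega
      · obtain ⟨k, hk⟩ := h; omega
    refine ⟨Multiset.replicate (min (μ.count 2) (m / 2)) 2 + Multiset.replicate (m - 2 * min (μ.count 2) (m / 2)) 1,
      ?_, by simp; omega⟩
    conv_rhs => rw [hdec]
    exact add_le_add ((Multiset.replicate_le_replicate _).2 (min_le_left _ _))
      ((Multiset.replicate_le_replicate _).2 hl)

variable (hF : Fintype.card F = q ^ 2)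
include hF

/-- **`r = p`: non-degenerate subspaces** -/
theorem allND_char (p : ℕ) [Fact p.Prime] [CharP F p] (hn : 0 < n) (hmn : m ≤ n) :
    AllFix (n := n) (F := F) q p (FixND q m) ↔ PartCond p n m := by
  classical
  have hone : ∀ u : F, u ^ p = 1 → u = 1 := fun u hu => frobenius_inj F p (by rw [frobenius_def, frobenius_def, hu, one_pow])
  constructor
  · intro H μ hμ hsum
    by_cases hall : ∀ a ∈ μ, a = 1
    · have hμ1 : μ = Multiset.replicate (Multiset.card μ) 1 := Multiset.eq_replicate.2 ⟨rfl, hall⟩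
      refine ⟨Multiset.replicate m 1, ?_, by simp⟩
      rw [hμ1] at hsum ⊢
      simp at hsum
      exact (Multiset.replicate_le_replicate _).2 (by omega)
    push Not at hall
    obtain ⟨a, ha, ha1⟩ := hall
    obtain ⟨⟨x, hx⟩, hg, hpart⟩ := JordanUnitary.exists_unip hF (⟨μ, fun {a} ha => (hμ a ha).1, hsum⟩ : Nat.Partition n)
    have hle : ∀ b ∈ (JordanChains.partition x hg).parts, b ≤ p := by rw [hpart]; exact fun b hb => (hμ b hb).2
    have hxp : x ^ p = 1 := by
      have h1 := (JordanChains.pow_char_eq_one_iff p x 1).2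
      rw [pow_one] at h1
      exact h1 ((JordanChains.partition_pow_eq_zero hg p).2 hle)
    have hxr : (x : Matrix (Fin n) (Fin n) F) ^ p = (1 : F) • 1 := by
      rw [← Units.val_pow_eq_pow_val, hxp, Units.val_one, one_smul]
    obtain ⟨ν, hν, hνs⟩ := (fixND_unip_iff hF p hx hxp hg).1 (H x hx (hone _ (by
      rw [← Matrix.det_pow, hxr, one_smul, Matrix.det_one])) ⟨1, hxr⟩ fun z hz => by
        have hz1 : z ^ p = 1 := by
          rw [hz, _root_.smul_pow, one_pow] at hxr
          simpa using congrArg (fun M : Matrix (Fin n) (Fin n) F => M ⟨0, hn⟩ ⟨0, hn⟩) hxr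
        rw [hone z hz1, one_smul] at hz
        have hnil : nil x ^ 1 = 0 := by rw [pow_one]; exact (JordanChains.nil_eq_zero x).2 (Units.ext hz)
        have := (JordanChains.partition_pow_eq_zero hg 1).1 hnil a (by rw [hpart]; exact ha)
        have := (hμ a ha).1
        omega)
    exact ⟨ν, by rw [hpart] at hν; exact hν, hνs⟩
  · intro H x hx _ hxz _
    obtain ⟨z, hxr⟩ := hxz
    have hz := z_norm hF hn hx hxr
    obtain ⟨w, hw, hwq⟩ := exists_root_mu hF (Fact.out : p.Prime).pos (fun u _ hu => hone u hu) hz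
    obtain ⟨y, hy, hyr, -, hW⟩ := scale hF hx (Fact.out : p.Prime).pos hw hwq hxr
    have hyp : y ^ p = 1 := Units.ext (by rw [Units.val_pow_eq_pow_val, hyr, one_smul, Units.val_one])
    have hnil : nil y ^ p = 0 := by
      have h1 := (JordanChains.pow_char_eq_one_iff p y 1).1
      rw [pow_one] at h1
      exact h1 hyp
    have hg : Unip y := ⟨p, hnil⟩
    obtain ⟨ν, hν, hνs⟩ := H _ (fun b hb => ⟨(JordanChains.partition y hg).parts_pos hb,
      (JordanChains.partition_pow_eq_zero hg p).1 hnil b hb⟩) (JordanChains.partition y hg).parts_sum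
    obtain ⟨W, h1, h2, h3⟩ := (fixND_unip_iff hF p hy hyp hg).2 ⟨ν, hν, hνs⟩
    exact ⟨W, h1, h2, hW W h3⟩

end Cfsg.Agent.Classical.IsoInvariant.Herm
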