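import Mathlib
import Cfsg.Agent.Lib.Classical.IsoInvariant.Refl
import Cfsg.Agent.Lib.Classical.IsoInvariant.Count
import Cfsg.Agent.Lib.Classical.OrthPrimeClasses

/-!
# Counting totally isotropic subspaces of a symmetric form in odd dimension, up to divisibility
-/

set_option autoImplicit false
set_option linter.unusedSectionVars false

namespace Cfsg.Agent.Classical.IsoInvariant.OrthOdd

open Module
open Cfsg.Agent.Forms.Elusive Cfsg.Agent.Classical.OrthForms

variable {F : Type*} [Field F] [Fintype F] {V : Type*} [AddCommGroup V] [Module F V] [FiniteDimensional F V]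
  {B : LinearMap.BilinForm F V}

/-- the isotropic vectors of an odd-dimensional nondegenerate subspace -/
theorem natCard_isotropic (hS : B.IsSymm) (h2 : (2 : F) ≠ 0) {R : Submodule F V} (hR : NdOn B R) {e : ℕ}
    (he : finrank F R = 2 * e + 1) : Nat.card {y : R // B (y : V) (y : V) = 0} = Fintype.card F ^ (2 * e) := by
  classical
  let b := Module.finBasisOfFinrankEq F R he
  let L : (Fin (2 * e + 1) → F) ≃ₗ[F] R := b.equivFun.symm
  let C : LinearMap.BilinForm F (Fin (2 * e + 1) → F) :=
    (B.restrict R).compl₁₂ L.toLinearMap L.toLinearMap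
  set T := C.toQuadraticMap with hT
  have hC : ∀ x y, C x y = B (L x : V) (L y : V) := fun x y => rfl
  have hTnd : (QuadraticMap.polarBilin T).Nondegenerate := by
    have hpol : ∀ x y, QuadraticMap.polarBilin T x y = 2 * B (L x : V) (L y : V) := fun x y => by
      rw [QuadraticMap.polarBilin_apply_apply, hT, LinearMap.BilinMap.polar_toQuadraticMap, hC, hC,
        hS.eq (L y : V)]
      ring
    have key : ∀ x, (∀ y, QuadraticMap.polarBilin T x y = 0) → x = 0 := fun x hx => by
      by_contra h0
      obtain ⟨u, hu, hxu⟩ := hR (L x : V) (L x).2 fun e => h0 (L.map_eq_zero_iff.1 (Subtype.ext e))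
      have := hx (L.symm ⟨u, hu⟩)
      rw [hpol, L.apply_symm_apply] at this
      exact hxu ((mul_eq_zero.1 this).resolve_left h2)
    exact ⟨key, fun y hy => key y fun x => by rw [← hy x, hpol, hpol, hS.eq]⟩
  obtain ⟨c, hc, f, hf⟩ := OrthPrimeClasses.exists_scale_odd (m := e) (by simp) hTnd
  let φ : {y : R // B (y : V) (y : V) = 0} ≃ {z : Unit ⊕ (Fin e ⊕ Fin e) → F // oddQ F e z = 0} :=
    Equiv.subtypeEquiv (L.symm.trans f).toEquiv fun y => by
      show B (y : V) (y : V) = 0 ↔ oddQ F e (f (L.symm y)) = 0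
      have h1 : T (L.symm y) = B (y : V) (y : V) := by
        rw [hT, LinearMap.BilinMap.toQuadraticMap_apply, hC, L.apply_symm_apply]
      rw [← h1, ← hf, mul_eq_zero, or_iff_right hc]
  rw [Nat.card_congr φ]
  exact OrthForms.zeros_odd rfl h2 e

theorem natCard_frames (hnd : B.Nondegenerate) (hS : B.IsSymm) (h2 : (2 : F) ≠ 0) {d : ℕ}
    (hV : finrank F V = 2 * d + 1) :
    ∀ m : ℕ, m ≤ d → Nat.card (Frames B m) =
      ∏ j ∈ Finset.range m, (Fintype.card F ^ (2 * d - j) - Fintype.card F ^ j) := by
  classical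
  have hB : B.IsRefl := fun x y h => by rw [hS.eq, h]
  have : Finite V := Module.finite_of_finite F
  intro m
  induction m with
  | zero =>
    intro _
    have : Unique (Frames B 0) :=
      { default := ⟨Fin.elim0, linearIndependent_empty_type, fun a => a.elim0⟩
        uniq := fun v => Subtype.ext (funext fun a => a.elim0) }
    rw [Nat.card_unique, Finset.range_zero, Finset.prod_empty]
  | succ m ih =>
    intro hm
    let S : Frames B m → Submodule F V := fun v => Submodule.span F (Set.range v.1)
    let e : Frames B (m + 1) ≃ Σ v : Frames B m, {x : V // (x ∈ B.orthogonal (S v) ∧ B x x = 0) ∧ x ∉ S v} :=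
      { toFun := fun w => ⟨⟨Fin.tail w.1, w.2.1.comp _ (Fin.succ_injective _), fun a b => w.2.2 _ _⟩, w.1 0, by
          refine ⟨⟨fun y hy => ?_, w.2.2 0 0⟩, ?_⟩
          · obtain ⟨c, rfl⟩ := (Submodule.mem_span_range_iff_exists_fun F).1 hy
            simp [map_sum, w.2.2, Fin.tail]
          · have h := w.2.1
            rw [← Fin.cons_self_tail w.1, linearIndependent_finCons] at h
            exact h.2⟩
        invFun := fun p => ⟨Fin.cons p.2.1 p.1.1, linearIndependent_finCons.2 ⟨p.1.2.1, p.2.2.2⟩, by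
          have h1 : ∀ a, B (p.1.1 a) p.2.1 = 0 := fun a => p.2.2.1.1 _ (Submodule.subset_span ⟨a, rfl⟩)
          refine Fin.cases (Fin.cases ?_ fun b => ?_) fun a => Fin.cases ?_ fun b => ?_
          · simp [p.2.2.1.2]
          · simp only [Fin.cons_zero, Fin.cons_succ]
            rw [hS.eq, h1]
          · simp [h1]
          · simp [p.1.2.2]⟩
        left_inv := fun w => Subtype.ext (Fin.cons_self_tail w.1)
        right_inv := fun p => by
          obtain ⟨⟨v, hv⟩, x, hx⟩ := p
          rfl }
    have : Finite (Frames B m) := Subtype.finite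
    have : Fintype (Frames B m) := Fintype.ofFinite _
    have hfib : ∀ v : Frames B m, Nat.card {x : V // (x ∈ B.orthogonal (S v) ∧ B x x = 0) ∧ x ∉ S v} =
        Fintype.card F ^ (2 * d - m) - Fintype.card F ^ m := by
      intro v
      have h1 : finrank F (S v) = m := by rw [finrank_span_eq_card v.2.1, Fintype.card_fin]
      have hss : Module.End.IsSemisimple (1 : V →ₗ[F] V) :=
        isSemisimple_of_pow (r := 1) (c := 1) (fun v => by simp) (by simp) one_ne_zero
      obtain ⟨R, -, hR, -, hort, hd', hsum⟩ := Refl.exists_middle (g := (1 : V →ₗ[F] V)) hB (fun _ _ => rfl)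
        Function.injective_id hss (ndOn_top hnd) (by simp) le_top (by rintro _ ⟨a, ha, rfl⟩; exact ha)
        (iso_span v.2.2)
      rw [finrank_top, hV, h1] at hsum
      have hperp : finrank F (B.orthogonal (S v)) = 2 * d + 1 - m := by
        rw [LinearMap.BilinForm.finrank_orthogonal hnd, hV, h1]
      have hsup : S v ⊔ R = B.orthogonal (S v) := by
        refine Submodule.eq_of_le_of_finrank_le (sup_le (fun x hx y hy => iso_span v.2.2 y hy x hx)
          fun x hx y hy => hort y hy x hx) ?_
        rw [finrank_sup_of_disjoint hd', hperp, h1]; omega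
      have hself : ∀ a ∈ S v, ∀ y ∈ R, B (a + y) (a + y) = B y y := fun a ha y hy => by
        simp [map_add, iso_span v.2.2 a ha a ha, hort a ha y hy, Refl.orthTo_symm hB hort y hy a ha]
      let ψ : (S v) × {y : R // B (y : V) (y : V) = 0} ≃ {x : V // x ∈ B.orthogonal (S v) ∧ B x x = 0} :=
        Equiv.ofBijective (fun ay => ⟨(ay.1 : V) + (ay.2.1 : V),
          hsup.le (Submodule.add_mem_sup ay.1.2 ay.2.1.2), (hself _ ay.1.2 _ ay.2.1.2).trans ay.2.2⟩) ⟨by
          rintro ⟨a, y⟩ ⟨a', y'⟩ h
          have h' : (a : V) + (y.1 : V) = (a' : V) + (y'.1 : V) := congrArg Subtype.val h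
          have h0 : (a : V) - (a' : V) = 0 := Submodule.disjoint_def.1 hd' _ (sub_mem a.2 a'.2) (by
            rw [show (a : V) - (a' : V) = (y'.1 : V) - (y.1 : V) by
              rw [sub_eq_sub_iff_add_eq_add, h', add_comm]]
            exact sub_mem y'.1.2 y.1.2)
          rw [sub_eq_zero] at h0
          rw [h0, add_right_inj] at h'
          exact Prod.ext (Subtype.ext h0) (Subtype.ext (Subtype.ext h')), by
          rintro ⟨x, hx, hxx⟩
          obtain ⟨a, ha, y, hy, rfl⟩ := Submodule.mem_sup.1 (hsup.ge hx)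
          exact ⟨(⟨a, ha⟩, ⟨⟨y, hy⟩, (hself a ha y hy).symm.trans hxx⟩), rfl⟩⟩
      have hA : Nat.card {x : V // x ∈ B.orthogonal (S v) ∧ B x x = 0} = Fintype.card F ^ (2 * d - m) := by
        rw [← Nat.card_congr ψ, Nat.card_prod, natCard_isotropic hS h2 hR (e := d - m) (by omega),
          Module.natCard_eq_pow_finrank (K := F) (V := S v), h1, Nat.card_eq_fintype_card, ← pow_add]
        congr 1
        omega
      have hle : (S v : Set V) ⊆ {x | x ∈ B.orthogonal (S v) ∧ B x x = 0} := fun x hx =>
        ⟨fun y hy => iso_span v.2.2 y hy x hx, iso_span v.2.2 x hx x hx⟩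
      have h3 : Nat.card {x : V // (x ∈ B.orthogonal (S v) ∧ B x x = 0) ∧ x ∉ S v} =
          ({x | x ∈ B.orthogonal (S v) ∧ B x x = 0} \ (S v : Set V)).ncard := Nat.card_coe_set_eq _
      rw [h3, Set.ncard_sdiff hle, ← Nat.card_coe_set_eq, ← Nat.card_coe_set_eq, SetLike.coe_sort_coe,
        Set.coe_setOf, hA, Module.natCard_eq_pow_finrank (K := F) (V := S v), h1, Nat.card_eq_fintype_card]
    rw [Nat.card_congr e, Nat.card_sigma, Finset.sum_congr rfl (fun v _ => hfib v), Finset.sum_const,
      Finset.card_univ, smul_eq_mul, ← Nat.card_eq_fintype_card, ih (by omega), Finset.prod_range_succ]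

/-- a prime dividing the number of totally isotropic `m`-spaces -/
theorem exists_index_of_dvd (hnd : B.Nondegenerate) (hS : B.IsSymm) (h2 : (2 : F) ≠ 0) {d : ℕ}
    (hV : finrank F V = 2 * d + 1) {m : ℕ} (hm : m ≤ d) (p : ℕ) [Fact p.Prime] [CharP F p] {r : ℕ}
    [hr : Fact r.Prime]
    (h : r ∣ Nat.card {W : Submodule F V // finrank F W = m ∧ ∀ u ∈ W, ∀ v ∈ W, B u v = 0}) :
    r ≠ p ∧ ∃ j < m, orderOf (Fintype.card F : ZMod r) ∣ 2 * (d - j) :=
  index_of_frames p hm (natCard_frames hnd hS h2 hV m hm) h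

end Cfsg.Agent.Classical.IsoInvariant.OrthOdd
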