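import Mathlib
import Cfsg.Agent.Lib.Classical.IsoInvariant.NdType
import Cfsg.Agent.Lib.Classical.IsoInvariant.OrthOdd
import Cfsg.Agent.Aschbacher.Ev.Types
import Cfsg.Agent.Lib.Forms.Elusive.Count

/-!
# Counting nondegenerate subspaces of an odd-dimensional orthogonal space, up to divisibility
-/

set_option autoImplicit false
set_option linter.unusedSectionVars false

namespace Cfsg.Agent.Classical.IsoInvariant.OrthOddNd

open Module
open Cfsg.Agent.Forms
open Cfsg.Agent.Forms.Elusive Cfsg.Agent.Forms.Elusive.Pieces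
open Cfsg.Agent.Forms.Reflections (act act_mul act_one act_apply act_map)
open Cfsg.Agent.Forms.QuadStd (isoOfEquiv isoOfEquiv_mulVec iso_ext)
open Cfsg.Agent.Classical.OrthForms Cfsg.Agent.Classical.IsoInvariant.OrthOdd
open Cfsg.Agent.Classical.IsoInvariant.NdType

variable {F : Type*} [Field F] [Fintype F] {d : ℕ}

local notation "Vo" => (Unit ⊕ (Fin d ⊕ Fin d) → F)

theorem nd_iff (W : Submodule F Vo) :
    Cfsg.Geo.IsNondegenerateOn (QuadraticMap.polar (Cfsg.quadFormOdd d F)) W ↔ NdOn (oB F d) W := by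
  rw [← oddQ_eq]
  refine ⟨fun h v hv hv0 => (h v hv hv0).2, fun h v hv hv0 => ?_⟩
  obtain ⟨u, hu, huv⟩ := h v hv hv0
  refine ⟨⟨u, hu, ?_⟩, u, hu, huv⟩
  rw [QuadraticMap.polar_comm]
  exact huv

theorem type_iff (h2 : (2 : F) ≠ 0) (W : Submodule F Vo) :
    Cfsg.Geo.IsPlusTypeOn (Cfsg.quadFormOdd d F) W ↔ Plus (oB F d) W :=
  exists_congr fun U => and_congr_right fun _ => and_congr_left fun _ => (iso_iff h2 U).symm

/-- isometries of the same type of subspace -/
theorem exists_move (h2 : (2 : F) ≠ 0) {k : ℕ} (want : Prop) {W W' : Submodule F Vo}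
    (hW : finrank F W = 2 * k ∧ NdOn (oB F d) W ∧ (Plus (oB F d) W ↔ want))
    (hW' : finrank F W' = 2 * k ∧ NdOn (oB F d) W' ∧ (Plus (oB F d) W' ↔ want)) :
    ∃ g : Cfsg.isometryGroup F ⇑(oddQ F d), W.map (act g) = W' := by
  obtain ⟨e, he⟩ := Aschbacher.Ev.isometric_of_same_type (Q := oddQ F d) (W := W) (W' := W') hW.2.1 hW'.2.1
    hW.1 hW'.1 (by
      rw [oddQ_eq, type_iff h2, type_iff h2, hW.2.2, hW'.2.2])
  obtain ⟨f, hf, hfW⟩ := Witt.witt_quad (oddQ F d) (oddQ_nondeg h2 d) W (W'.subtype ∘ₗ e.toLinearMap)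
    (W'.subtype_injective.comp e.injective) he
  refine ⟨isoOfEquiv _ f hf, Submodule.eq_of_le_of_finrank_eq ?_ ?_⟩
  · rintro _ ⟨w, hw, rfl⟩
    rw [act_apply, isoOfEquiv_mulVec, hfW ⟨w, hw⟩]
    exact (e ⟨w, hw⟩).2
  · have hinj : Function.Injective (act (isoOfEquiv (⇑(oddQ F d)) f hf)) := fun u v h => f.injective (by
      rwa [act_apply, act_apply, isoOfEquiv_mulVec, isoOfEquiv_mulVec] at h)
    rw [← (Submodule.equivMapOfInjective _ hinj W).finrank_eq, hW.1, hW'.1]

/-- the subgroup of isometries fixing a subspace -/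
def stab (W : Submodule F Vo) : Subgroup (Cfsg.isometryGroup F ⇑(oddQ F d)) where
  carrier := {g | W.map (act g) = W}
  mul_mem' := fun {g h} hg hh => by
    have e : act (g * h) = act g ∘ₗ act h := LinearMap.ext fun x => act_mul g h x
    show W.map (act (g * h)) = W
    rw [e, Submodule.map_comp, hh, hg]
  one_mem' := by
    have e : act (1 : Cfsg.isometryGroup F ⇑(oddQ F d)) = LinearMap.id := LinearMap.ext fun x => act_one x
    show W.map (act 1) = W
    rw [e, Submodule.map_id]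
  inv_mem' := fun {g} hg => by
    have e : act g⁻¹ ∘ₗ act g = LinearMap.id := LinearMap.ext fun x => by
      rw [LinearMap.comp_apply, ← act_mul, inv_mul_cancel, act_one, LinearMap.id_apply]
    show W.map (act g⁻¹) = W
    conv_lhs => rw [← (hg : W.map (act g) = W)]
    rw [← Submodule.map_comp, e, Submodule.map_id]

theorem natCard_mul_stab (h2 : (2 : F) ≠ 0) {k : ℕ} (want : Prop) {W₀ : Submodule F Vo}
    (hW₀ : finrank F W₀ = 2 * k ∧ NdOn (oB F d) W₀ ∧ (Plus (oB F d) W₀ ↔ want)) :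
    Nat.card {W : Submodule F Vo // finrank F W = 2 * k ∧ NdOn (oB F d) W ∧ (Plus (oB F d) W ↔ want)} *
      Nat.card (stab W₀) = Nat.card (Cfsg.isometryGroup F ⇑(oddQ F d)) := by
  classical
  let Ω := {W : Submodule F Vo // finrank F W = 2 * k ∧ NdOn (oB F d) W ∧ (Plus (oB F d) W ↔ want)}
  choose γ hγ using fun W : Ω => exists_move h2 want hW₀ W.2
  rw [← Nat.card_prod]
  refine Nat.card_eq_of_bijective (fun p : Ω × stab W₀ => γ p.1 * (p.2 : Cfsg.isometryGroup F ⇑(oddQ F d))) ⟨?_, ?_⟩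
  · have himg : ∀ p : Ω × stab W₀, W₀.map (act (γ p.1 * (p.2 : Cfsg.isometryGroup F ⇑(oddQ F d)))) = p.1.1 := by
      intro p
      have e : act (γ p.1 * (p.2 : Cfsg.isometryGroup F ⇑(oddQ F d))) =
          act (γ p.1) ∘ₗ act (p.2 : Cfsg.isometryGroup F ⇑(oddQ F d)) := LinearMap.ext fun x => act_mul _ _ x
      rw [e, Submodule.map_comp, (p.2.2 : W₀.map (act (p.2 : Cfsg.isometryGroup F ⇑(oddQ F d))) = W₀), hγ]
    intro p q h
    have h1 : p.1 = q.1 := Subtype.ext (by rw [← himg p, ← himg q]; exact congrArg (fun g => W₀.map (act g)) h)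
    refine Prod.ext h1 (Subtype.ext ?_)
    simp only [h1] at h
    exact mul_left_cancel h
  · intro g
    have hW : finrank F (W₀.map (act g)) = 2 * k ∧ NdOn (oB F d) (W₀.map (act g)) ∧
        (Plus (oB F d) (W₀.map (act g)) ↔ want) := by
      have hiso : ∀ u v, oB F d (act g u) (act g v) = oB F d u v := fun u v => Reflections.act_polar g u v
      have hinv : ∀ x, act g⁻¹ (act g x) = x := fun x => by rw [← act_mul, inv_mul_cancel, act_one]
      have hinj : Function.Injective (act g) := fun u v e => by rw [← hinv u, e, hinv]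
      have hdim : ∀ U : Submodule F Vo, finrank F (U.map (act g)) = finrank F U := fun U =>
        (Submodule.equivMapOfInjective _ hinj U).finrank_eq.symm
      refine ⟨by rw [hdim, hW₀.1], ?_, ?_⟩
      · rintro _ ⟨v, hv, rfl⟩ hv0
        obtain ⟨u, hu, huv⟩ := hW₀.2.1 v hv fun e => hv0 (by rw [e, map_zero])
        exact ⟨act g u, ⟨u, hu, rfl⟩, by rwa [hiso]⟩
      · rw [← hW₀.2.2]
        constructor
        · rintro ⟨U, hU, hI, hd⟩
          refine ⟨U.map (act g⁻¹), ?_, ?_, ?_⟩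
          · rintro _ ⟨u, hu, rfl⟩
            obtain ⟨w, hw, rfl⟩ := hU hu
            rwa [hinv]
          · rintro _ ⟨u, hu, rfl⟩ _ ⟨v, hv, rfl⟩
            rw [show oB F d (act g⁻¹ u) (act g⁻¹ v) = oB F d u v from Reflections.act_polar g⁻¹ u v]
            exact hI u hu v hv
          · have hinj' : Function.Injective (act g⁻¹) := fun u v e => by
              have h := congrArg (act g) e
              rwa [← act_mul, ← act_mul, mul_inv_cancel, act_one, act_one] at h
            rw [← (Submodule.equivMapOfInjective _ hinj' U).finrank_eq, hd, hdim]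
        · rintro ⟨U, hU, hI, hd⟩
          refine ⟨U.map (act g), Submodule.map_mono hU, ?_, by rw [hdim, hd, hdim]⟩
          rintro _ ⟨u, hu, rfl⟩ _ ⟨v, hv, rfl⟩
          rw [hiso]
          exact hI u hu v hv
    refine ⟨(⟨_, hW⟩, ⟨(γ ⟨_, hW⟩)⁻¹ * g, ?_⟩), mul_inv_cancel_left _ _⟩
    have hg : W₀.map (act (γ ⟨_, hW⟩)) = W₀.map (act g) := hγ ⟨_, hW⟩
    show W₀.map (act ((γ ⟨_, hW⟩)⁻¹ * g)) = W₀
    generalize γ ⟨_, hW⟩ = γ₀ at hg ⊢
    have e : act (γ₀⁻¹ * g) = act γ₀⁻¹ ∘ₗ act g := LinearMap.ext fun x => act_mul _ _ x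
    rw [e, Submodule.map_comp, ← hg, ← Submodule.map_comp, show act γ₀⁻¹ ∘ₗ act γ₀ = LinearMap.id from
      LinearMap.ext fun x => by rw [LinearMap.comp_apply, ← act_mul, inv_mul_cancel, act_one, LinearMap.id_apply],
      Submodule.map_id]

/-- the isometries of the orthogonal complement fix the subspace -/
theorem natCard_O_dvd_stab (h2 : (2 : F) ≠ 0) {e k : ℕ} (hde : d = e + k) {W₀ : Submodule F Vo}
    (hd₀ : finrank F W₀ = 2 * k) (hW₀ : NdOn (oB F d) W₀) :
    Nat.card (Cfsg.isometryGroup F ⇑(oddQ F e)) ∣ Nat.card (stab W₀) := by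
  classical
  have hS := oB_symm (F := F) d
  have hB : (oB F d).IsRefl := fun x y h => by rw [hS.eq, h]
  obtain ⟨hP, ho, hsup, hdim⟩ := perp_nd hB (ndOn_top (oddQ_nondeg h2 d)) hW₀ le_top
  set P := (⊤ : Submodule F Vo) ⊓ (oB F d).orthogonal W₀ with hPdef
  rw [finrank_top, finrank_odd, hd₀] at hdim
  have hPd : finrank F P = 2 * e + 1 := by omega
  have hc : IsCompl W₀ P := ⟨disjoint_of_orth hB hW₀ ho, codisjoint_iff.2 hsup⟩
  let L : (Fin (2 * e + 1) → F) ≃ₗ[F] P := (Module.finBasisOfFinrankEq F P hPd).equivFun.symm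
  let T : QuadraticForm F (Fin (2 * e + 1) → F) := (oddQ F d).comp (P.subtype ∘ₗ L.toLinearMap)
  have hT : ∀ x, T x = oddQ F d (L x : Vo) := fun x => rfl
  have hTnd : (QuadraticMap.polarBilin T).Nondegenerate := by
    have hpol : ∀ x y, QuadraticMap.polarBilin T x y = oB F d (L x : Vo) (L y : Vo) := fun x y => by
      simp [oB, QuadraticMap.polar, hT]
    have key : ∀ x, (∀ y, QuadraticMap.polarBilin T x y = 0) → x = 0 := fun x hx => by
      by_contra h0
      obtain ⟨u, hu, hxu⟩ := hP (L x : Vo) (L x).2 fun e => h0 (L.map_eq_zero_iff.1 (Subtype.ext e))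
      have := hx (L.symm ⟨u, hu⟩)
      rw [hpol, L.apply_symm_apply] at this
      exact hxu this
    exact ⟨key, fun y hy => key y fun x => by rw [← hy x, hpol, hpol, hS.eq]⟩
  obtain ⟨c, hc0, f, hf⟩ := OrthPrimeClasses.exists_scale_odd (m := e) (by simp) hTnd
  let M : P ≃ₗ[F] (Unit ⊕ (Fin e ⊕ Fin e) → F) := L.symm.trans f
  have hM : ∀ y : P, oddQ F d (y : Vo) = c * oddQ F e (M y) := fun y => by
    have h1 := hf (L.symm y)
    rw [hT, L.apply_symm_apply] at h1
    exact h1.symm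
  let Φ := Submodule.prodEquivOfIsCompl W₀ P hc
  let α : Cfsg.isometryGroup F ⇑(oddQ F e) → (P →ₗ[F] P) := fun h => M.symm.toLinearMap ∘ₗ act h ∘ₗ M.toLinearMap
  have hα : ∀ h y, M (α h y) = act h (M y) := fun h y => M.apply_symm_apply _
  have hαmul : ∀ g h y, α (g * h) y = α g (α h y) := fun g h y => M.injective (by rw [hα, hα, hα, act_mul])
  have hαone : ∀ y, α 1 y = y := fun y => M.injective (by rw [hα, act_one])
  let β : Cfsg.isometryGroup F ⇑(oddQ F e) → (Vo →ₗ[F] Vo) := fun h =>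
    Φ.toLinearMap ∘ₗ LinearMap.prodMap LinearMap.id (α h) ∘ₗ Φ.symm.toLinearMap
  have hβ : ∀ h (a : W₀) (b : P), β h ((a : Vo) + (b : Vo)) = (a : Vo) + (α h b : Vo) := fun h a b => by
    have e1 : Φ.symm ((a : Vo) + (b : Vo)) = (a, b) := by
      rw [LinearEquiv.symm_apply_eq]; simp [Φ]
    simp [β, Φ]
  have hdec : ∀ v : Vo, ∃ (a : W₀) (b : P), v = (a : Vo) + (b : Vo) := fun v =>
    ⟨(Φ.symm v).1, (Φ.symm v).2, by
      conv_lhs => rw [← Φ.apply_symm_apply v]
      rfl⟩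
  have hβmul : ∀ g h v, β (g * h) v = β g (β h v) := fun g h v => by
    obtain ⟨a, b, rfl⟩ := hdec v
    rw [hβ, hβ, hβ, hαmul]
  have hβone : ∀ v, β 1 v = v := fun v => by
    obtain ⟨a, b, rfl⟩ := hdec v
    rw [hβ, hαone]
  let εe : Cfsg.isometryGroup F ⇑(oddQ F e) → (Vo ≃ₗ[F] Vo) := fun h =>
    LinearEquiv.ofLinearMap (β h) (β h⁻¹) (LinearMap.ext fun v => by
        rw [LinearMap.comp_apply, ← hβmul, mul_inv_cancel, hβone, LinearMap.id_apply])
      (LinearMap.ext fun v => by rw [LinearMap.comp_apply, ← hβmul, inv_mul_cancel, hβone, LinearMap.id_apply])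
  have hεQ : ∀ h v, oddQ F d (εe h v) = oddQ F d v := fun h v => by
    show oddQ F d (β h v) = _
    obtain ⟨a, b, rfl⟩ := hdec v
    rw [hβ, QuadraticMap.map_add (⇑(oddQ F d)), QuadraticMap.map_add (⇑(oddQ F d)), hM, hM, hα, act_map]
    congr 1
    exact (ho a a.2 _ (α h b).2).trans (ho a a.2 _ b.2).symm
  let φ : Cfsg.isometryGroup F ⇑(oddQ F e) →* stab W₀ :=
    { toFun := fun h => ⟨isoOfEquiv _ (εe h) (hεQ h), by
        show W₀.map (act _) = W₀
        have e1 : ∀ a : W₀, act (isoOfEquiv (⇑(oddQ F d)) (εe h) (hεQ h)) (a : Vo) = a := fun a => by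
          rw [act_apply, isoOfEquiv_mulVec]
          show β h (a : Vo) = a
          conv_lhs => rw [← add_zero (a : Vo), ← Submodule.coe_zero (p := P)]
          rw [hβ, map_zero, Submodule.coe_zero, add_zero]
        refine le_antisymm ?_ fun a ha => ⟨a, ha, e1 ⟨a, ha⟩⟩
        rintro _ ⟨a, ha, rfl⟩
        rw [e1 ⟨a, ha⟩]; exact ha⟩
      map_one' := Subtype.ext (iso_ext fun v => by
        rw [isoOfEquiv_mulVec]
        show β 1 v = _
        simp [hβone])
      map_mul' := fun g h => Subtype.ext (iso_ext fun v => by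
        rw [Subgroup.coe_mul, QuadStd.mul_mulVec_iso, isoOfEquiv_mulVec, isoOfEquiv_mulVec, isoOfEquiv_mulVec]
        exact hβmul g h v) }
  refine Subgroup.card_dvd_of_injective φ fun g h heq => ?_
  have h1 : ∀ v, β g v = β h v := fun v => by
    have := congrArg (fun x : stab W₀ => act (x : Cfsg.isometryGroup F ⇑(oddQ F d)) v) heq
    simp only [φ, MonoidHom.coe_mk, OneHom.coe_mk, act_apply, isoOfEquiv_mulVec] at this
    exact this
  refine iso_ext fun x => ?_
  have h2' := h1 ((0 : W₀) + ((M.symm x : P) : Vo))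
  rw [hβ, hβ, add_right_inj] at h2'
  have h3 := congrArg M (Subtype.ext h2')
  rwa [hα, hα, M.apply_symm_apply, act_apply, act_apply] at h3

/-- a prime dividing the number of nondegenerate `m`-spaces of one type -/
theorem exists_index_of_dvd (h2 : (2 : F) ≠ 0) (p : ℕ) [Fact p.Prime] [CharP F p] {r : ℕ} [hr : Fact r.Prime]
    (hrp : r ≠ p) {m : ℕ} (hme : Even m) (hm : 2 ≤ m) (hmn : m ≤ 2 * d) (want : Prop)
    (h : r ∣ Nat.card {W : Submodule F Vo // finrank F W = m ∧ NdOn (oB F d) W ∧ (Plus (oB F d) W ↔ want)}) :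
    ∃ a, 2 * a ≤ 2 * d ∧ 2 * d < 2 * a + m ∧ orderOf (Fintype.card F : ZMod r) ∣ 2 * a := by
  obtain ⟨k, hk⟩ := hme.two_dvd
  subst m
  have hS := oB_symm (F := F) d
  have hB : (oB F d).IsRefl := fun x y h => by rw [hS.eq, h]
  obtain ⟨e, rfl⟩ : ∃ e, d = e + k := ⟨d - k, by omega⟩
  have hbot : NdOn (oB F (e + k)) (⊥ : Submodule F (Unit ⊕ (Fin (e + k) ⊕ Fin (e + k)) → F)) :=
    fun v hv hv0 => absurd ((Submodule.mem_bot F).1 hv) hv0
  obtain ⟨L, -, hnd, hd, htype⟩ := exists_sum_type h2 hS (ndOn_top (oddQ_nondeg h2 (e + k))) hbot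
    (fun u _ v hv => by rw [(Submodule.mem_bot F).1 hv, map_zero]) (l := 2 * k) (by omega)
    (by rw [finrank_top, finrank_odd]; omega) (k := k) (by rw [finrank_bot, add_zero]) want
  rw [sup_bot_eq] at hnd hd htype
  have hcount := natCard_mul_stab h2 (k := k) want ⟨hd, hnd, htype⟩
  obtain ⟨t, ht⟩ := natCard_O_dvd_stab h2 rfl hd hnd
  rw [ht, natCard_O_odd rfl h2 e, natCard_O_odd rfl h2 (e + k), Finset.prod_range_add] at hcount
  set q := Fintype.card F with hq
  have hPe : 0 < ∏ a ∈ Finset.range e, (q ^ (2 * (a + 1)) - 1) := Finset.prod_pos fun a _ =>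
    Nat.sub_pos_of_lt (Nat.one_lt_pow (by omega) Fintype.one_lt_card)
  obtain ⟨C, hC⟩ := h
  rw [hC] at hcount
  have h3 : r * (C * q ^ (e ^ 2) * t) =
      q ^ ((e + k) ^ 2) * ∏ a ∈ Finset.range k, (q ^ (2 * (e + a + 1)) - 1) :=
    Nat.eq_of_mul_eq_mul_left (Nat.mul_pos two_pos hPe) (by linear_combination hcount)
  rcases (Nat.Prime.dvd_mul hr.out).1 (Dvd.intro _ h3) with h4 | h4
  · obtain ⟨n, -, hn⟩ := FiniteField.card F p
    rw [hq, hn] at h4
    exact absurd ((Nat.prime_dvd_prime_iff_eq hr.out Fact.out).1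
      (hr.out.dvd_of_dvd_pow (hr.out.dvd_of_dvd_pow h4))) hrp
  obtain ⟨a, ha, h5⟩ := (hr.out.prime.dvd_finsetProd_iff _).1 h4
  rw [Finset.mem_range] at ha
  exact ⟨e + a + 1, by omega, by omega, order_dvd_of_dvd_pow_sub_one h5⟩

end Cfsg.Agent.Classical.IsoInvariant.OrthOddNd
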