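import Mathlib
import Cfsg.Agent.Lib.Classical.IsoInvariant.NdPieces
import Cfsg.Agent.Lib.Classical.IsoInvariant.OrthOddNdCount
import Cfsg.Agent.Lib.Forms.Elusive.OrthUnipotent

/-!
# Elements of prime order of an odd-dimensional Ω fixing a nondegenerate `m`-space of given type
-/

set_option autoImplicit false
set_option linter.unusedSectionVars false

namespace Cfsg.Agent.Classical.IsoInvariant.OrthOddNd

open Module Polynomial
open Cfsg.Agent.Forms
open Cfsg.Agent.Forms.Elusive Cfsg.Agent.Forms.Elusive.Pieces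
open Cfsg.Agent.Classical.OrthForms Cfsg.Agent.Classical.IsoInvariant.OrthOdd
open Cfsg.Agent.Classical.IsoInvariant.NdType
open Cfsg.Agent.Classical.StarFactor (Fac)

variable {F : Type*} [Field F] [Fintype F] {d : ℕ}

local notation "Vo" => (Unit ⊕ (Fin d ⊕ Fin d) → F)

/-- every element of order `r` fixes such a subspace -/
def AllFix (F : Type*) [Field F] (d m r : ℕ) (want : Prop) : Prop :=
  ∀ x : GL (Unit ⊕ (Fin d ⊕ Fin d)) F, x ∈ Cfsg.Geo.omegaGL (Cfsg.quadFormOdd d F) → orderOf x = r →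
    ∃ W : Submodule F (Unit ⊕ (Fin d ⊕ Fin d) → F),
      (finrank F W = m ∧ NdOn (oB F d) W ∧ (Plus (oB F d) W ↔ want)) ∧
      W.map (Matrix.toLin' (x : Matrix (Unit ⊕ (Fin d ⊕ Fin d)) (Unit ⊕ (Fin d ⊕ Fin d)) F)) ≤ W

theorem act_facts {r : ℕ} {x : GL (Unit ⊕ (Fin d ⊕ Fin d)) F}
    (hx : x ∈ Cfsg.Geo.omegaGL (Cfsg.quadFormOdd d F)) (hr : orderOf x = r) (hr1 : 1 < r) :
    (∀ u v, oB F d (Matrix.toLin' (x : Matrix (Unit ⊕ (Fin d ⊕ Fin d)) (Unit ⊕ (Fin d ⊕ Fin d)) F) u) (Matrix.toLin' (x : Matrix (Unit ⊕ (Fin d ⊕ Fin d)) (Unit ⊕ (Fin d ⊕ Fin d)) F) v) = oB F d u v) ∧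
      Matrix.toLin' (x : Matrix (Unit ⊕ (Fin d ⊕ Fin d)) (Unit ⊕ (Fin d ⊕ Fin d)) F) ^ r = 1 ∧ Matrix.toLin' (x : Matrix (Unit ⊕ (Fin d ⊕ Fin d)) (Unit ⊕ (Fin d ⊕ Fin d)) F) ≠ 1 := by
  rw [← oddQ_eq] at hx
  obtain ⟨g, -, rfl⟩ := hx
  refine ⟨fun u v => Reflections.act_polar g u v, ?_, fun h => ?_⟩
  · rw [← Matrix.toLin'_pow, ← Units.val_pow_eq_pow_val, ← hr, pow_orderOf_eq_one, Units.val_one, Matrix.toLin'_one]
    rfl
  · have h1 : ((g : GL (Unit ⊕ (Fin d ⊕ Fin d)) F) : Matrix (Unit ⊕ (Fin d ⊕ Fin d)) (Unit ⊕ (Fin d ⊕ Fin d)) F) = 1 :=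
      Matrix.toLin'.injective (by rw [Matrix.toLin'_one]; exact h)
    have h3 : (g : GL (Unit ⊕ (Fin d ⊕ Fin d)) F) = 1 := Units.ext h1
    simp only [Subgroup.coe_subtype, h3, orderOf_one] at hr
    omega

theorem two (h2 : (2 : F) ≠ 0) {m : ℕ} (hme : Even m) (hm : 2 ≤ m) (hmn : m ≤ 2 * d) (want : Prop) :
    AllFix F d m 2 want := fun x hx hx2 => by
  obtain ⟨hiso, hpow, hne⟩ := act_facts hx hx2 one_lt_two
  obtain ⟨W, hd, hnd, htype, hinv⟩ := NdPieces.exists_invariant_two (oddQ_nondeg h2 d) (oB_symm d) h2 hiso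
    (by rw [← sq]; exact hpow) hme hm (by rw [finrank_odd]; omega) hne want
  exact ⟨W, ⟨hd, hnd, htype⟩, hinv⟩

variable {r i c : ℕ} [hr : Fact r.Prime]

/-- necessity -/
theorem necessary (p : ℕ) [Fact p.Prime] [CharP F p] (hrp : r ≠ p) (hr2 : r ≠ 2) (h2 : (2 : F) ≠ 0)
    (hi : i = orderOf ((Fintype.card F : ℕ) : ZMod r)) (hc : c = if Even i then i else 2 * i)
    (hcn : c ≤ 2 * d) {m : ℕ} (hme : Even m) (want : Prop) (H : AllFix F d m r want) :
    m % c < (2 * d + 1) % c ∧ (m % c = 0 → ((Odd i ∨ Even (m / c)) ↔ want)) := by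
  classical
  have hti : i ∣ r - 1 := by
    rw [hi]
    refine orderOf_dvd_of_pow_eq_one (ZMod.pow_card_sub_one_eq_one fun h => hrp ?_)
    obtain ⟨n, -, hn⟩ := FiniteField.card F p
    rw [ZMod.natCast_eq_zero_iff, hn] at h
    exact (Nat.prime_dvd_prime_iff_eq hr.out Fact.out).1 (hr.out.dvd_of_dvd_pow h)
  obtain ⟨hS, P, hPcard, hP⟩ := OrthPrimeClasses.setting_of (F := F) (p := p) (t := (r - 1) / i) rfl hr.out
    hr2 hrp hi (Nat.div_mul_cancel hti)
  have hr0 := hS.cast_ne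
  have hi0 := OrthPrimeClasses.ne_of_pos hS
  have hc0 : 0 < c := by rw [hc]; split_ifs <;> omega
  obtain ⟨h, hh⟩ : ∃ h, c = 2 * h := by
    rw [hc]; split_ifs with he
    · exact he.two_dvd
    · exact ⟨i, rfl⟩
  obtain ⟨Q, hQ⟩ : ∃ Q, Fac r Q := by
    have ht : 0 < (r - 1) / i := Nat.div_pos (Nat.le_of_dvd (by have := hr.out.two_le; omega) hti) hi0
    obtain ⟨Q, hQ⟩ := Finset.card_pos.1 (hPcard ▸ ht)
    exact ⟨Q, (hP Q).1 hQ⟩
  set N := (2 * d + 1) / c with hN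
  set k := (2 * d + 1) % c with hk
  have hdm : c * N + k = 2 * d + 1 := Nat.div_add_mod _ _
  have hN0 : 0 < N := Nat.div_pos (by omega) hc0
  have hkpos : 0 < k := by
    by_contra h0
    have : c * N = 2 * (h * N) := by rw [hh]; ring
    omega
  obtain ⟨s, hs, hsinv, hsdeg⟩ : ∃ s : Multiset F[X], (∀ q ∈ s, Fac r q) ∧ s.map (StarFactor.star r) = s ∧
      (s.map natDegree).sum = c * N := by
    obtain ⟨hQs, hQss⟩ := hQ.star_fac hr0 hS.deg
    rcases Nat.even_or_odd i with hev | hodd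
    · refine ⟨Multiset.replicate N Q, fun q hq => (Multiset.eq_of_mem_replicate hq) ▸ hQ, ?_, ?_⟩
      · rw [Multiset.map_replicate, (hQ.star_eq_iff hr0 hr2 hS.deg).2 hev]
      · rw [Multiset.map_replicate, Multiset.sum_replicate, hS.deg Q hQ, hc, if_pos hev, smul_eq_mul, mul_comm]
    · refine ⟨Multiset.replicate N Q + Multiset.replicate N (StarFactor.star r Q), fun q hq => ?_, ?_, ?_⟩
      · rcases Multiset.mem_add.1 hq with hq | hq <;> rw [Multiset.eq_of_mem_replicate hq]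
        exacts [hQ, hQs]
      · rw [Multiset.map_add, Multiset.map_replicate, Multiset.map_replicate, hQss, add_comm]
      · rw [Multiset.map_add, Multiset.sum_add, Multiset.map_replicate, Multiset.map_replicate,
          Multiset.sum_replicate, Multiset.sum_replicate, hS.deg Q hQ, hS.deg _ hQs, hc,
          if_neg (Nat.not_even_iff_odd.2 hodd), smul_eq_mul]
        ring
  set ones := Multiset.replicate k (X - C (1 : F)) with hones
  have hX1 : ∀ q ∈ ones, q = X - C 1 := fun q hq => Multiset.eq_of_mem_replicate hq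
  have hmon : ∀ q ∈ s + ones, q.Monic ∧ Irreducible q ∧ q ∣ X ^ r - C 1 := fun q hq => by
    rcases Multiset.mem_add.1 hq with h | h
    · exact ⟨(hs q h).monic, (hs q h).irr, (hs q h).dvd⟩
    · rw [hX1 q h]
      exact ⟨monic_X_sub_C 1, irreducible_X_sub_C 1, by rw [map_one]; exact sub_one_dvd_pow_sub_one _ _⟩
  have hgood : OrthPrimeClasses.Good r (2 * d + 1) (s + ones) := by
    refine ⟨⟨hmon, ?_⟩, ?_⟩
    · rw [Multiset.map_add, Multiset.sum_add, hsdeg, hones, Multiset.map_replicate, natDegree_X_sub_C,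
        Multiset.sum_replicate, smul_eq_mul, mul_one, hdm]
    · rw [Multiset.map_add, hsinv, hones, Multiset.map_replicate, StarFactor.star_X_sub_one hr0]
  obtain ⟨A, hA⟩ := OrthPrimeClasses.exists_datum_odd hS h2 hgood
  obtain ⟨x, hx, hxA⟩ := OrthRealise.exists_elt hr.out.pos ⇑(oddQ F d) A hA.pres hA.pow
  set g := Matrix.toLin' A with hgdef
  have hg : g ^ r = 1 := by rw [hgdef, ← Matrix.toLin'_pow, hA.pow, Matrix.toLin'_one]; rfl
  have hgc : g.charpoly = (s + ones).prod := by rw [hgdef, Matrix.charpoly_toLin', hA.char]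
  have hfix : finrank F (fixSp g) = k := by
    rw [fixSp_eq_ker, finrank_ker_part hr0 hi hg ones s
      (fun q hq => ⟨(hmon q (by rwa [add_comm])).1, (hmon q (by rwa [add_comm])).2.1⟩)
      (fun q hq hqs => (hs q hqs).ne (hX1 q hq)) (by rw [hgc, add_comm]) (X - C 1)
      (fun q hq => by rw [hX1 q hq]) (Multiset.dvd_prod (Multiset.mem_replicate.2 ⟨hkpos.ne', rfl⟩))]
    rw [hones, Multiset.map_replicate, natDegree_X_sub_C, Multiset.sum_replicate, smul_eq_mul, mul_one]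
  have hF : Fintype.card F ≠ 2 := fun e => h2 (by
    have := FiniteField.cast_card_eq_zero F
    rwa [e, Nat.cast_ofNat] at this)
  have hnd : (oB F d).Nondegenerate := oddQ_nondeg h2 d
  have hmem : (x : GL (Unit ⊕ (Fin d ⊕ Fin d)) F) ∈ Cfsg.Geo.omegaGL (Cfsg.quadFormOdd d F) := by
    rw [← oddQ_eq]
    exact ⟨x, OrthUnipotent.mem_omega _ hnd hF (hr.out.odd_of_ne_two hr2) hx, rfl⟩
  have hord : orderOf (x : GL (Unit ⊕ (Fin d ⊕ Fin d)) F) = r := by
    refine orderOf_eq_prime (by rw [← SubmonoidClass.coe_pow, hx, OneMemClass.coe_one]) fun e => ?_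
    have h1 : fixSp g = ⊤ := eq_top_iff.2 fun v _ => mem_fixSp.2 (by
      rw [hgdef, ← hxA, e, Units.val_one, Matrix.toLin'_one]; rfl)
    rw [h1, finrank_top, finrank_odd] at hfix
    have := Nat.mul_pos hc0 hN0
    omega
  obtain ⟨W, ⟨hWd, hWnd, htype⟩, hWi⟩ := H x hmem hord
  rw [hxA, ← hgdef] at hWi
  obtain ⟨l, j, hsum, hl, hl0⟩ := NdPieces.split_nd hS (oB_symm d) h2 (oB_iso hA.pres) hr2 hr0 hg hi hc hWnd hWi
  rw [hWd] at hsum
  rw [hfix] at hl
  obtain ⟨m', hm'⟩ := hme.two_dvd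
  have hk2 : c * N = 2 * (h * N) := by rw [hh]; ring
  have hj2 : c * j = 2 * (h * j) := by rw [hh]; ring
  have hlc : l < c := lt_of_le_of_lt hl (Nat.mod_lt _ hc0)
  have hlm : m % c = l := by rw [hsum, Nat.add_mul_mod_self_left, Nat.mod_eq_of_lt hlc]
  have hjm : m / c = j := by rw [hsum, Nat.add_mul_div_left _ _ hc0, Nat.div_eq_of_lt hlc, zero_add]
  refine ⟨by omega, fun h0 => ?_⟩
  rw [hjm, ← hl0 (by omega), htype]

/-- the characterisation for odd `r` prime to `q` -/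
theorem iff_odd (p : ℕ) [Fact p.Prime] [CharP F p] (hrp : r ≠ p) (hr2 : r ≠ 2) (h2 : (2 : F) ≠ 0)
    (hi : i = orderOf ((Fintype.card F : ℕ) : ZMod r)) (hc : c = if Even i then i else 2 * i)
    {m : ℕ} (hme : Even m) (hm : 2 ≤ m) (hmn : m ≤ 2 * d) (want : Prop)
    (hΩ : r ∣ Nat.card {W : Submodule F Vo // finrank F W = m ∧ NdOn (oB F d) W ∧ (Plus (oB F d) W ↔ want)}) :
    AllFix F d m r want ↔
      (c ≤ m ∧ m % c < (2 * d + 1) % c ∧ (m % c = 0 → ((Odd i ∨ Even (m / c)) ↔ want))) := by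
  obtain ⟨a, ha, ha', hia⟩ := exists_index_of_dvd h2 p hrp hme hm hmn want hΩ
  rw [← hi] at hia
  have hca : c ∣ 2 * a := by
    rcases Nat.even_or_odd i with hev | hodd
    · rw [hc, if_pos hev]; exact hia
    · rw [hc, if_neg (Nat.not_even_iff_odd.2 hodd)]
      exact Nat.mul_dvd_mul_left 2 ((Nat.coprime_two_right.2 hodd).dvd_of_dvd_mul_left hia)
  constructor
  · intro H
    have hcn : c ≤ 2 * d := (Nat.le_of_dvd (by omega) hca).trans ha
    obtain ⟨h1, h3⟩ := necessary p hrp hr2 h2 hi hc hcn hme want H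
    refine ⟨?_, h1, h3⟩
    by_contra hlt
    rw [Nat.mod_eq_of_lt (by omega : m < c)] at h1
    have := mod_le_of_dvd (n := 2 * d + 1) (by omega) hca
    omega
  · rintro ⟨-, h1, h3⟩ x hx hxr
    obtain ⟨hiso, hpow, -⟩ := act_facts hx hxr hr.out.one_lt
    have hti : i ∣ r - 1 := by
      rw [hi]
      refine orderOf_dvd_of_pow_eq_one (ZMod.pow_card_sub_one_eq_one fun h => hrp ?_)
      obtain ⟨n, -, hn⟩ := FiniteField.card F p
      rw [ZMod.natCast_eq_zero_iff, hn] at h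
      exact (Nat.prime_dvd_prime_iff_eq hr.out Fact.out).1 (hr.out.dvd_of_dvd_pow h)
    obtain ⟨hS, -⟩ := OrthPrimeClasses.setting_of (F := F) (p := p) (t := (r - 1) / i) rfl hr.out
      hr2 hrp hi (Nat.div_mul_cancel hti)
    obtain ⟨W, hd, hnd, htype, hinv⟩ := NdPieces.exists_invariant hS (oddQ_nondeg h2 d) (oB_symm d) h2 hiso hr2
      hS.cast_ne hpow hi hc (finrank_odd d) hme hmn h1 want h3
    exact ⟨W, ⟨hd, hnd, htype⟩, hinv⟩

/-- in characteristic `r` there is an element of order `r` without invariant subspaces of minus type -/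
theorem not_allFix_char (p : ℕ) [Fact p.Prime] [CharP F p] (hp2 : p ≠ 2) {m : ℕ} (hme : Even m) (hd : 2 ≤ d)
    {want : Prop} (hw : ¬ want) : ¬ AllFix F d m p want := by
  intro hfix
  have h2 : (2 : F) ≠ 0 := fun h => hp2 ((Nat.prime_dvd_prime_iff_eq (Fact.out : p.Prime) Nat.prime_two).1
    ((CharP.cast_eq_zero_iff F p 2).1 (by exact_mod_cast h)))
  have hQ := oddQ_nondeg (F := F) h2 d
  have H : ∀ x : GL (Unit ⊕ (Fin d ⊕ Fin d)) F, x ∈ Cfsg.Geo.omegaGL ⇑(oddQ F d) → x ^ p = 1 → x ≠ 1 → _ :=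
    fun x hx hxp hx1 => hfix x (by rwa [oddQ_eq] at hx) (orderOf_eq_prime hxp hx1)
  have hp3 : 3 ≤ p := by have := (Fact.out : p.Prime).two_le; omega
  have key : ∀ (b o : ℕ), Odd o → o ≤ 3 → Even b → 2 * b + o = 2 * d + 1 → False := fun b o ho ho3 hb hsum => by
    have hR := OrthUnipotent.exists_element p hp2 (oddQ F d) hQ (Multiset.replicate b 2 + {o})
      (fun e he => by
        rcases Multiset.mem_add.1 he with he | he
        · rw [Multiset.eq_of_mem_replicate he]; omega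
        · rw [Multiset.mem_singleton.1 he]; exact ⟨ho.pos, by omega⟩)
      (fun e he => by
        rw [Multiset.count_add, Multiset.count_replicate, Multiset.count_singleton]
        have : e ≠ o := fun h => Nat.not_even_iff_odd.2 ho (h ▸ he)
        rw [if_neg this, add_zero]
        split_ifs
        · exact hb
        · exact ⟨0, rfl⟩)
      (by simp; omega) ⟨o, by simp, ho⟩
    have hb0 : b ≠ 0 := by omega
    obtain ⟨ν, h1, hνs, h3, h4⟩ := OrthUnipotent.split_of_fixes p hp2 (oddQ F d) hQ _ (m := m)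
      (fun W hW => ⟨hW.1, by rw [oddQ_eq]; exact (nd_iff W).2 hW.2.1⟩) H _ hR
      ⟨2, Multiset.mem_add.2 (Or.inl (Multiset.mem_replicate.2 ⟨hb0, rfl⟩)), by omega⟩
    obtain ⟨j, S, hS, hj, hS0⟩ := OrthUnipotent.two_three_parts h1 hνs h3
    rcases Multiset.le_singleton.1 hS with rfl | rfl
    · obtain ⟨W, hW, hplus⟩ := h4 (hS0 rfl)
      exact hw (hW.2.2.1 ((type_iff h2 W).1 (by rwa [oddQ_eq] at hplus)))
    · simp at hj
      obtain ⟨m', hm'⟩ := hme
      obtain ⟨o', ho'⟩ := ho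
      omega
  rcases Nat.even_or_odd d with hd2 | hd2
  · exact key d 1 odd_one (by omega) hd2 rfl
  · obtain ⟨d', hd'⟩ := hd2
    exact key (2 * d') 3 (by decide) le_rfl ⟨d', two_mul d'⟩ (by omega)

end Cfsg.Agent.Classical.IsoInvariant.OrthOddNd
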