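import Mathlib
import Cfsg.Agent.Lib.Classical.IsoInvariant.OrthOdd
import Cfsg.Agent.Lib.Classical.OddOrthSpectrumOmega
import Cfsg.Agent.Lib.Classical.IsoInvariant.Count

/-!
# Involutions of an odd-dimensional Ω fixing a totally singular `m`-space
-/

set_option autoImplicit false
set_option linter.unusedSectionVars false

namespace Cfsg.Agent.Classical.IsoInvariant.OrthOdd

open Module
open Cfsg.Agent.Forms Cfsg.Agent.Forms.Elusive
open Cfsg.Agent.Forms.Reflections (act act_mul act_one act_apply act_polar act_reflect)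
open Cfsg.Agent.Forms.Elusive.Pieces (OrthTo)
open Cfsg.Agent.Classical.OrthForms Cfsg.Agent.Classical.OmegaCrit
open Cfsg.Agent.Forms.QuadStd

variable {F : Type*} [Field F] [Fintype F] {d : ℕ}

local notation "Vo" => (Unit ⊕ (Fin d ⊕ Fin d) → F)

/-- orthonormal pairs span a totally isotropic subspace when `-1` is a square -/
theorem exists_iso_pairs {V : Type*} [AddCommGroup V] [Module F V] [FiniteDimensional F V]
    (B : LinearMap.BilinForm F V) (h2 : (2 : F) ≠ 0) {j : F} (hj : j * j = -1) {b : ℕ} (v : Fin (2 * b) → V)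
    (hv : ∀ a c, B (v a) (v c) = if a = c then 2 else 0) :
    ∃ U : Submodule F V, U ≤ Submodule.span F (Set.range v) ∧ IsoOn B U ∧ finrank F U = b := by
  classical
  let e0 : Fin b → Fin (2 * b) := fun k => ⟨2 * k, by omega⟩
  let e1 : Fin b → Fin (2 * b) := fun k => ⟨2 * k + 1, by omega⟩
  have h01 : ∀ k l, e0 k ≠ e1 l := fun k l h => by
    have := congrArg Fin.val h; simp [e0, e1] at this; omega
  have h00 : ∀ k l, e0 k = e0 l ↔ k = l := fun k l => by
    refine ⟨fun h => Fin.ext (by have := congrArg Fin.val h; simp [e0] at this; omega), fun h => by rw [h]⟩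
  have h11 : ∀ k l, e1 k = e1 l ↔ k = l := fun k l => by
    refine ⟨fun h => Fin.ext (by have := congrArg Fin.val h; simp [e1] at this; omega), fun h => by rw [h]⟩
  let w : Fin b → V := fun k => v (e0 k) + j • v (e1 k)
  have hww : ∀ k l, B (w k) (w l) = 0 := fun k l => by
    simp only [w, map_add, map_smul, LinearMap.add_apply, LinearMap.smul_apply, smul_eq_mul, hv, h00, h11,
      if_neg (h01 k l), if_neg (Ne.symm (h01 l k))]
    split_ifs with h
    · linear_combination (2 : F) * hj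
    · ring
  have hli : LinearIndependent F w := by
    rw [Fintype.linearIndependent_iff]
    intro c hc k
    have h := congrArg (fun z => B z (v (e0 k))) hc
    simp only [map_sum, map_smul, LinearMap.sum_apply, LinearMap.smul_apply, smul_eq_mul, map_zero,
      LinearMap.zero_apply] at h
    rw [Finset.sum_eq_single k] at h
    · simp only [w, map_add, map_smul, LinearMap.add_apply, LinearMap.smul_apply, smul_eq_mul, hv,
        if_neg (Ne.symm (h01 k k)), if_pos rfl, mul_zero, add_zero] at h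
      exact (mul_eq_zero.1 h).resolve_right h2
    · intro l _ hl
      simp only [w, map_add, map_smul, LinearMap.add_apply, LinearMap.smul_apply, smul_eq_mul, hv, h00,
        if_neg hl, if_neg (Ne.symm (h01 k l)), mul_zero, add_zero]
    · intro hk; exact absurd (Finset.mem_univ k) hk
  refine ⟨Submodule.span F (Set.range w), Submodule.span_le.2 ?_, iso_span hww,
    (finrank_span_eq_card hli).trans (Fintype.card_fin b)⟩
  rintro _ ⟨k, rfl⟩
  exact add_mem (Submodule.subset_span ⟨_, rfl⟩) (Submodule.smul_mem _ _ (Submodule.subset_span ⟨_, rfl⟩))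

/-- sufficiency for involutions -/
theorem exists_invariant_two (h2 : (2 : F) ≠ 0) (hd : 1 ≤ d) {m : ℕ} (hmd : m ≤ d)
    (hcond : m < d ∨ Fintype.card F % 4 = 1) {g : Cfsg.isometryGroup F ⇑(oddQ F d)}
    (hg : g ∈ Cfsg.Omega F ⇑(oddQ F d)) (hg2 : g * g = 1) :
    ∃ W : Submodule F Vo, finrank F W = m ∧ IsoOn (oB F d) W ∧ W.map (act g) ≤ W := by
  classical
  have hnd : (oB F d).Nondegenerate := oddQ_nondeg h2 d
  have hS := oB_symm (F := F) d
  have hB : (oB F d).IsRefl := fun x y h => by rw [hS.eq, h]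
  have hfact : Fact (Nat.Prime 2) := ⟨Nat.prime_two⟩
  set T := act g with hT
  have hTT : ∀ v, T (T v) = v := fun v => by rw [hT, ← act_mul, hg2, act_one]
  have hT2 : T ^ 2 = 1 := LinearMap.ext fun v => by rw [sq, Module.End.mul_apply, hTT, Module.End.one_apply]
  have hiso : ∀ u v, oB F d (T u) (T v) = oB F d u v := fun u v => act_polar g u v
  obtain ⟨hF0, D, hD, hDi, hort, hdis, hfree, hsum⟩ := Refl.fix_free (r := 2) hnd hB hiso (by exact_mod_cast h2)
    rfl hT2
  rw [finrank_odd] at hsum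
  have hneg : ∀ v ∈ D, T v = -v := fun v hv =>
    eq_neg_of_add_eq_zero_left (hfree _ (add_mem (hDi ⟨v, hv, rfl⟩) hv) (by rw [map_add, hTT, add_comm]))
  have combine : ∀ (U U' : Submodule F Vo), U ≤ fixSp T → U' ≤ D → IsoOn (oB F d) U → IsoOn (oB F d) U' →
      finrank F U + finrank F U' = m →
      ∃ W : Submodule F Vo, finrank F W = m ∧ IsoOn (oB F d) W ∧ W.map T ≤ W := by
    intro U U' hU hU' hI hI' hsumU
    refine ⟨U ⊔ U', ?_, Refl.iso_sup hB hI hI' fun u hu w hw => hort u (hU hu) w (hU' hw), inv_sup ?_ ?_⟩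
    · rw [finrank_sup_of_disjoint (hdis.mono hU hU'), hsumU]
    · rintro _ ⟨v, hv, rfl⟩
      rw [mem_fixSp.1 (hU hv)]; exact hv
    · rintro _ ⟨v, hv, rfl⟩
      rw [hneg v (hU' hv)]; exact neg_mem hv
  set f := finrank F (fixSp T) with hf
  rcases Nat.lt_or_ge m d with hlt | hge
  · obtain ⟨U, hU, hI, hUd⟩ := Refl.exists_iso hS hF0 (j := min m ((f - 1) / 2)) (by omega)
    obtain ⟨U', hU', hI', hU'd⟩ := Refl.exists_iso hS hD (j := m - min m ((f - 1) / 2)) (by omega)
    exact combine U U' hU hU' hI hI' (by omega)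
  have hmd' : m = d := le_antisymm hmd hge
  subst m
  have hq : Fintype.card F % 4 = 1 := hcond.resolve_left (lt_irrefl _)
  obtain ⟨j, hj⟩ := FiniteField.isSquare_neg_one_iff.2 (show Fintype.card F % 4 ≠ 3 by omega)
  rcases Nat.eq_zero_or_pos (finrank F D) with hD0 | hD0
  · obtain ⟨U, hU, hI, hUd⟩ := Refl.exists_iso hS hF0 (j := d) (by omega)
    exact combine U ⊥ hU bot_le hI (fun u hu => by simp [(Submodule.mem_bot F).1 hu]) (by simp [hUd])
  obtain ⟨α, hα⟩ := OddOrthSpectrum.exists_nonsq (F := F) h2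
  obtain ⟨n, hn⟩ : ∃ n, finrank F D = n + 1 := ⟨finrank F D - 1, by omega⟩
  let B' : LinearMap.BilinForm F Vo := (2 : F)⁻¹ • oB F d
  have hB' : ∀ x y, B' x y = (2 : F)⁻¹ * oB F d x y := fun x y => rfl
  have hS' : B'.IsSymm := ⟨fun x y => by rw [hB', hB', hS.eq]⟩
  have hBQ : ∀ x, B' x x = oddQ F d x := fun x => by
    rw [hB', QuadraticMap.polarBilin_apply_apply, QuadraticMap.polar_self, nsmul_eq_mul, Nat.cast_ofNat,
      inv_mul_cancel_left₀ h2]
  have hnd' : Bases.NondegOn B' D := fun x hx h => by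
    by_contra h0
    obtain ⟨u, hu, hxu⟩ := hD x hx h0
    have := h u hu
    rw [hB'] at this
    exact hxu ((mul_eq_zero.1 this).resolve_left (inv_ne_zero h2))
  obtain ⟨v, hvD, hvo, hv1, hvl⟩ := Bases.exists_symm_normal h2 B' hS' α hα D hnd' hn
  have hpol : ∀ a c, a ≠ c → QuadraticMap.polar (oddQ F d) (v a) (v c) = 0 := fun a c hac => by
    have := hvo a c hac
    rw [hB'] at this
    exact (mul_eq_zero.1 this).resolve_left (inv_ne_zero h2)
  have hα0 : α ≠ 0 := fun h => hα (h ▸ ⟨0, by simp⟩)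
  have hne : ∀ a, oddQ F d (v a) ≠ 0 := fun a => by
    rw [← hBQ]
    by_cases ha : a = Fin.last n
    · subst ha
      rcases hvl with h | h <;> rw [h]
      exacts [one_ne_zero, hα0]
    · rw [hv1 a ha]; exact one_ne_zero
  have hspan : Submodule.span F (Set.range v) = D := by
    refine Submodule.eq_of_le_of_finrank_eq (Submodule.span_le.2 (by rintro _ ⟨a, rfl⟩; exact hvD a)) ?_
    rw [finrank_span_eq_card (Bases.linearIndependent_of_orth hvo fun a => by rw [hBQ]; exact hne a),
      Fintype.card_fin, hn]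
  have hF2 : Fintype.card F ≠ 2 ∨ Fintype.card (Unit ⊕ (Fin d ⊕ Fin d)) ≠ 4 := Or.inl (by omega)
  have htheta := OddOrthSpectrum.theta_neg (Q := oddQ F d) hnd hF2 g v hpol hne (fixSp T)
    (fun x hx a => hB _ _ (hort x hx _ (hvD a))) (by
      rw [hspan]
      refine Submodule.eq_top_of_finrank_eq ?_
      rw [finrank_sup_of_disjoint hdis.symm, finrank_odd]; omega)
    (fun a => hneg _ (hvD a)) (fun x hx => mem_fixSp.1 hx)
  rw [(mem_omega_iff hnd hF2 g).1 hg] at htheta
  have h1 : (1 : ℤˣ) = (-1) ^ (n + 1) := congrArg Prod.fst htheta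
  have h3 : chi (∏ a, oddQ F d (v a)) = 1 := (congrArg Prod.snd htheta).symm
  have hev : Even (n + 1) := neg_one_pow_eq_one_iff_even (by decide) |>.1 h1.symm
  have hlast : oddQ F d (v (Fin.last n)) = 1 := by
    rw [Fintype.prod_eq_single (Fin.last n) (fun a ha => by rw [← hBQ, hv1 a ha]), chi_eq_one_iff] at h3
    rcases hvl with h | h
    · rw [← hBQ, h]
    · rw [← hBQ, h] at h3; exact absurd h3 hα
  have hall : ∀ a, oB F d (v a) (v a) = 2 := fun a => by
    have h4 : B' (v a) (v a) = 1 := by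
      by_cases ha : a = Fin.last n
      · rw [ha, hBQ, hlast]
      · exact hv1 a ha
    rw [hB'] at h4
    field_simp at h4
    exact h4
  obtain ⟨b, hb⟩ := hev
  have hcast : 2 * b = n + 1 := by omega
  obtain ⟨U', hU', hI', hU'd⟩ := exists_iso_pairs (oB F d) h2 hj.symm (fun a => v (Fin.cast hcast a))
    (fun a c => by
      split_ifs with h
      · rw [h]; exact hall _
      · exact hpol _ _ fun e => h (Fin.cast_injective _ e))
  have hU'D : U' ≤ D := hU'.trans (Submodule.span_le.2 (by rintro _ ⟨a, rfl⟩; exact hvD _))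
  obtain ⟨U, hU, hI, hUd⟩ := Refl.exists_iso hS hF0 (j := d - b) (by omega)
  exact combine U U' hU hU'D hI hI' (by omega)

/-- necessity for involutions -/
theorem exists_derangement_two (h2 : (2 : F) ≠ 0) (hd : 1 ≤ d) (hq : Fintype.card F % 4 = 3) :
    ∃ g : Cfsg.isometryGroup F ⇑(oddQ F d), g ∈ Cfsg.Omega F ⇑(oddQ F d) ∧ g * g = 1 ∧ g ≠ 1 ∧
      ¬ ∃ W : Submodule F Vo, finrank F W = d ∧ IsoOn (oB F d) W ∧ W.map (act g) ≤ W := by
  classical
  have hnd : (oB F d).Nondegenerate := oddQ_nondeg h2 d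
  let v₁ : Vo := Pi.single (Sum.inl ()) 1
  let v₂ : Vo := Pi.single (Sum.inr (Sum.inl ⟨0, hd⟩)) 1 + Pi.single (Sum.inr (Sum.inr ⟨0, hd⟩)) 1
  have hQ1 : oddQ F d v₁ = 1 := by simp [v₁, oddQ_eq, Cfsg.quadFormOdd]
  have hQ2 : oddQ F d v₂ = 1 := by
    rw [oddQ_eq, Cfsg.quadFormOdd, Finset.sum_eq_single (⟨0, hd⟩ : Fin d)]
    · simp [v₂]
    · intro i _ hi; simp [v₂, hi]
    · simp
  have hQ12 : oddQ F d (v₁ + v₂) = 2 := by
    rw [oddQ_eq, Cfsg.quadFormOdd, Finset.sum_eq_single (⟨0, hd⟩ : Fin d)]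
    · simp [v₁, v₂]; norm_num
    · intro i _ hi; simp [v₁, v₂, hi]
    · simp
  have h12 : QuadraticMap.polar (oddQ F d) v₁ v₂ = 0 := by
    rw [QuadraticMap.polar, hQ12, hQ1, hQ2]; ring
  have h21 : QuadraticMap.polar (oddQ F d) v₂ v₁ = 0 := by rw [QuadraticMap.polar_comm]; exact h12
  have h11 : QuadraticMap.polar (oddQ F d) v₁ v₁ = 2 := by
    rw [QuadraticMap.polar_self, hQ1, nsmul_eq_mul, mul_one, Nat.cast_ofNat]
  have h22 : QuadraticMap.polar (oddQ F d) v₂ v₂ = 2 := by
    rw [QuadraticMap.polar_self, hQ2, nsmul_eq_mul, mul_one, Nat.cast_ofNat]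
  have hl : ∀ v ∈ [v₁, v₂], oddQ F d v ≠ 0 := fun v hv => by
    simp only [List.mem_cons, List.not_mem_nil, or_false] at hv
    rcases hv with rfl | rfl <;> [rw [hQ1]; rw [hQ2]] <;> exact one_ne_zero
  set g := reflect (oddQ F d) v₁ * reflect (oddQ F d) v₂ with hgdef
  have hF2 : Fintype.card F ≠ 2 ∨ Fintype.card (Unit ⊕ (Fin d ⊕ Fin d)) ≠ 4 := Or.inl (by omega)
  have hΩ : g ∈ Cfsg.Omega F ⇑(oddQ F d) := by
    rw [mem_omega_iff hnd hF2, show g = ([v₁, v₂].map (reflect (oddQ F d))).prod by simp [hgdef],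
      theta_list hnd hF2 _ hl]
    simp [hQ1, hQ2, chi_one]
  have hact : ∀ x, act g x = x - (QuadraticMap.polar (oddQ F d) v₁ x) • v₁ -
      (QuadraticMap.polar (oddQ F d) v₂ x) • v₂ := fun x => by
    have hp : QuadraticMap.polar (oddQ F d) v₁ (x - QuadraticMap.polar (oddQ F d) v₂ x • v₂) =
        QuadraticMap.polar (oddQ F d) v₁ x := by
      rw [← QuadraticMap.polarBilin_apply_apply, map_sub, map_smul, QuadraticMap.polarBilin_apply_apply,
        QuadraticMap.polarBilin_apply_apply, h12, smul_zero, sub_zero]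
    rw [hgdef, act_mul, act_reflect, act_reflect, hQ1, hQ2, inv_one, one_mul, one_mul, hp]
    abel
  have hpolact : ∀ x, QuadraticMap.polar (oddQ F d) v₁ (act g x) = - QuadraticMap.polar (oddQ F d) v₁ x ∧
      QuadraticMap.polar (oddQ F d) v₂ (act g x) = - QuadraticMap.polar (oddQ F d) v₂ x := fun x => by
    constructor <;>
    · rw [hact, ← QuadraticMap.polarBilin_apply_apply, map_sub, map_sub, map_smul, map_smul]
      simp only [QuadraticMap.polarBilin_apply_apply, h11, h22, h12, h21, smul_eq_mul]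
      ring
  refine ⟨g, hΩ, QuadStd.iso_ext fun x => ?_, fun e => ?_, ?_⟩
  · rw [← act_apply, ← act_apply, act_mul, act_one, hact, (hpolact x).1, (hpolact x).2, hact, neg_smul, neg_smul]
    abel
  · have h := hact v₁
    rw [e, act_one, h11, h21, zero_smul, sub_zero] at h
    have h' := congrFun h (Sum.inl ())
    simp [v₁] at h'
    exact h2 (by linear_combination h')
  rintro ⟨W, hWd, hI, hWi⟩
  have hns : ∀ s : F, s * s ≠ -1 := fun s hs => by
    have := FiniteField.isSquare_neg_one_iff.1 ⟨s, hs.symm⟩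
    omega
  have haniso : ∀ a b : F, oB F d (a • v₁ + b • v₂) (a • v₁ + b • v₂) = 0 → a = 0 ∧ b = 0 := fun a b h => by
    simp only [map_add, map_smul, LinearMap.add_apply, LinearMap.smul_apply, QuadraticMap.polarBilin_apply_apply,
      h11, h22, h12, h21, smul_eq_mul] at h
    have h' : a * a + b * b = 0 := (mul_eq_zero.1 (show (2 : F) * (a * a + b * b) = 0 by linear_combination h)).resolve_left h2
    by_cases hb : b = 0
    · subst hb; exact ⟨by simpa using h', rfl⟩
    · exact absurd (show (a / b) * (a / b) = -1 by field_simp; linear_combination h') (hns _)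
  let φ : (Fin 2 → F) →ₗ[F] Vo := Fintype.linearCombination F ![v₁, v₂]
  have hφ : ∀ c, φ c = c 0 • v₁ + c 1 • v₂ := fun c => by
    simp [φ, Fintype.linearCombination_apply, Fin.sum_univ_two]
  have hφinj : Function.Injective φ := (injective_iff_map_eq_zero φ).2 fun c hc => by
    rw [hφ] at hc
    obtain ⟨a0, a1⟩ := haniso _ _ (by rw [hc, map_zero])
    funext k; fin_cases k <;> assumption
  have hWperp : ∀ w ∈ W, QuadraticMap.polar (oddQ F d) v₁ w = 0 ∧ QuadraticMap.polar (oddQ F d) v₂ w = 0 := by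
    intro w hw
    have h1 : w - act g w ∈ W := sub_mem hw (hWi ⟨w, hw, rfl⟩)
    rw [hact, show w - (w - QuadraticMap.polar (oddQ F d) v₁ w • v₁ - QuadraticMap.polar (oddQ F d) v₂ w • v₂) =
      QuadraticMap.polar (oddQ F d) v₁ w • v₁ + QuadraticMap.polar (oddQ F d) v₂ w • v₂ by abel] at h1
    exact haniso _ _ (hI _ h1 _ h1)
  have hdisj : Disjoint W (LinearMap.range φ) := by
    rw [Submodule.disjoint_def]
    rintro _ hw ⟨c, rfl⟩
    have h1 := hI _ hw _ hw
    rw [hφ] at h1 ⊢
    obtain ⟨a0, a1⟩ := haniso _ _ h1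
    rw [a0, a1, zero_smul, zero_smul, add_zero]
  have hle : W ⊔ LinearMap.range φ ≤ (oB F d).orthogonal W := by
    refine sup_le (fun x hx y hy => hI y hy x hx) ?_
    rintro _ ⟨c, rfl⟩ y hy
    obtain ⟨p1, p2⟩ := hWperp y hy
    show oB F d y (φ c) = 0
    rw [hφ, map_add, map_smul, map_smul, QuadraticMap.polarBilin_apply_apply,
      QuadraticMap.polarBilin_apply_apply, QuadraticMap.polar_comm (⇑(oddQ F d)) y v₁, p1,
      QuadraticMap.polar_comm (⇑(oddQ F d)) y v₂, p2, smul_zero, smul_zero, add_zero]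
  have h1 := Submodule.finrank_mono hle
  rw [finrank_sup_of_disjoint hdisj, LinearMap.finrank_range_of_inj hφinj, Module.finrank_pi, Fintype.card_fin,
    LinearMap.BilinForm.finrank_orthogonal hnd, finrank_odd, hWd] at h1
  omega

end Cfsg.Agent.Classical.IsoInvariant.OrthOdd
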