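import Mathlib
import Cfsg.Agent.Lib.Classical.IsoInvariant.Kernels
import Cfsg.Agent.Lib.Classical.IsoInvariant.Count
import Cfsg.Agent.Lib.Classical.SympRealise
import Cfsg.Agent.Lib.Classical.OrthPrimeClasses

/-!
# Elements of odd prime order of a symplectic group fixing a totally isotropic `m`-space
-/

set_option autoImplicit false
set_option linter.unusedSectionVars false

namespace Cfsg.Agent.Classical.IsoInvariant

open Module Polynomial
open Cfsg.Agent.Forms Cfsg.Agent.Forms.Elusive Cfsg.Agent.Forms.Elusive.Pieces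
open Cfsg.Agent.Classical.StarFactor (Fac)

universe u v

variable {F : Type u} [Field F] [Fintype F] {V : Type v} [AddCommGroup V] [Module F V] [FiniteDimensional F V]
  {B : LinearMap.BilinForm F V} {g : V →ₗ[F] V} {r i c : ℕ}

variable [hr : Fact r.Prime]

/-- sufficiency -/
theorem exists_invariant (hnd : B.Nondegenerate) (halt : B.IsAlt) (hiso : ∀ u v, B (g u) (g v) = B u v)
    (hr2 : r ≠ 2) (hr0 : (r : F) ≠ 0) (hg : g ^ r = 1)
    (hi : i = orderOf ((Fintype.card F : ℕ) : ZMod r)) (hc : c = if Even i then i else 2 * i)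
    {d m : ℕ} (hV : finrank F V = 2 * d) (hmd : m ≤ d) (hk : 2 * (m % i) ≤ (2 * d) % c)
    (ht : Odd i ∨ (r - 1) / i + 2 * (m / i) ≤ (2 * d) / i) :
    ∃ W : Submodule F V, finrank F W = m ∧ IsoOn B W ∧ W.map g ≤ W := by
  classical
  have hgr : ∀ v, (g ^ r) v = v := fun v => by rw [hg]; rfl
  have hinj : Function.Injective g := fun u v e => by
    have := congrArg (g ^ (r - 1)) e
    rwa [← Module.End.mul_apply, ← Module.End.mul_apply, ← pow_succ, Nat.sub_add_cancel hr.out.one_lt.le,
      hgr, hgr] at this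
  have hss : Module.End.IsSemisimple g :=
    isSemisimple_of_pow (c := 1) (fun v => by rw [hgr, one_smul]) hr0 one_ne_zero
  have hi0 : 0 < i := order_pos hr0 hi
  have hc0 : 0 < c := by rw [hc]; split_ifs <;> omega
  obtain ⟨hF0, -, hsum, hD, hDi, hfree⟩ := fix_split halt hiso hr0 hg (ndOn_top hnd)
    (le_top : (⊤ : Submodule F V).map g ≤ ⊤)
  set F0 := fixSp g ⊓ (⊤ : Submodule F V) with hF0def
  set D := (⊤ : Submodule F V) ⊓ B.orthogonal F0 with hDdef
  obtain ⟨A, hA⟩ := dvd_finrank halt hiso hinj hc0 (hasPiece_free halt hiso hr2 hr0 hg hfree hi hc) hD hDi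
  rw [finrank_top, hV] at hsum
  have hH : ∀ W : Submodule F V, W ≤ D → W.map g ≤ W → Homog g i W := fun W hW hWi => by
    rw [hi]; exact homog_of_free hr0 hWi (fun v _ => hgr v) fun v hv => hfree v (hW hv)
  -- the free part
  obtain ⟨j, hjfix, hjD⟩ : ∃ j, (i * j ≤ m ∧ 2 * (m - i * j) ≤ finrank F F0) ∧
      ∃ U : Submodule F V, U ≤ D ∧ U.map g ≤ U ∧ IsoOn B U ∧ finrank F U = i * j := by
    rcases Nat.even_or_odd i with hev | hodd
    · rw [if_pos hev] at hc
      subst c
      have htc := ht.resolve_left (Nat.not_odd_iff_even.2 hev)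
      obtain ⟨gs, hlen, hgs, hkill⟩ := exists_killing_list (g := g) hr0 hi hg
      set t := (r - 1) / i
      have hex : ∀ W : Submodule F V, W ≤ D → NdOn B W → W.map g ≤ W → (t + 1) * i ≤ finrank F W →
          ∃ U : Submodule F V, U ≤ W ∧ U.map g ≤ U ∧ IsoOn B U ∧ finrank F U = i := by
        intro W hW _ hWi hd
        obtain ⟨P, hP, hbig⟩ := exists_big_kernel hWi (a := i) gs (hkill W hWi fun v hv => hfree v (hW hv))
          (by rw [hlen]; rw [add_mul, one_mul] at hd; omega)
        obtain ⟨h, hh⟩ := hev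
        have hrlt : h < r := by
          have h1 : i ∣ r - 1 := by
            rw [hi]
            exact orderOf_dvd_of_pow_eq_one (ZMod.pow_card_sub_one_eq_one fun e => by
              rw [hi, e, orderOf_zero] at hi0; omega)
          have := Nat.le_of_dvd (by have := hr.out.two_le; omega) h1
          have := hr.out.two_le
          omega
        obtain ⟨S, hSK, hSi, hSI, hS0, hSd⟩ := exists_cyclic halt hiso hrlt hg (hgs P hP).1
          (by rw [(hgs P hP).2.1]; omega) (inv_inf hWi (ker_inv P))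
          (fun v hv => LinearMap.mem_ker.1 hv.2) (by omega)
        have hSW : S ≤ W := hSK.trans inf_le_left
        refine ⟨S, hSW, hSi, hSI, le_antisymm (by omega) (Nat.le_of_dvd
          (Nat.pos_of_ne_zero fun e => hS0 (Submodule.finrank_eq_zero.1 e)) ((hH W hW hWi).dvd S hSi hSW))⟩
      refine ⟨min (m / i) ((A + 1 - t) / 2), ?_, exists_iso_multi halt hiso hinj hss _ hD hDi hex ?_⟩
      · have h1 := Nat.div_add_mod (2 * d) i
        have h2 := Nat.div_add_mod m i
        have h3 : A ≤ (2 * d) / i := (Nat.le_div_iff_mul_le hi0).2 (by rw [mul_comm, ← hA]; omega)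
        refine ⟨(Nat.mul_le_mul_left i (min_le_left _ _)).trans (Nat.mul_div_le m i), ?_⟩
        by_cases hcase : m / i ≤ (A + 1 - t) / 2
        · rw [min_eq_left hcase]
          have h4 := Nat.mul_le_mul_left i h3
          omega
        · rw [min_eq_right (by omega)]
          have h4 : i * (2 * (m / i) + A) ≤ i * ((2 * d) / i + 2 * ((A + 1 - t) / 2)) :=
            Nat.mul_le_mul_left i (by omega)
          simp only [mul_add, mul_left_comm i 2] at h4
          omega
      · rcases Nat.eq_zero_or_pos (min (m / i) ((A + 1 - t) / 2)) with h0 | h0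
        · exact Or.inl h0
        · refine Or.inr ?_
          have h5 := min_le_right (m / i) ((A + 1 - t) / 2)
          have h4 : i * (t + 1 + 2 * min (m / i) ((A + 1 - t) / 2)) ≤ i * (A + 2) :=
            Nat.mul_le_mul_left i (by omega)
          simp only [mul_add, mul_left_comm i 2, mul_one] at h4
          rw [hA, add_mul, one_mul, mul_comm t i]
          omega
    · rw [if_neg (Nat.not_even_iff_odd.2 hodd)] at hc
      subst c
      have hex : ∀ W : Submodule F V, W ≤ D → NdOn B W → W.map g ≤ W → 2 * i ≤ finrank F W →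
          ∃ U : Submodule F V, U ≤ W ∧ U.map g ≤ U ∧ IsoOn B U ∧ finrank F U = i := by
        intro W hW hWn hWi hd
        obtain ⟨U, hU, hUW, hUd⟩ := (hH W hW hWi).exists_sub 1 (by omega)
        rw [one_mul] at hUd
        refine ⟨U, hUW, hU, ?_, hUd⟩
        by_cases hrad : U ⊓ B.orthogonal U = ⊥
        · exfalso
          have hUn : NdOn B U := fun v hv hv0 => by
            by_contra hcon
            push Not at hcon
            refine hv0 ((Submodule.mem_bot F).1 (hrad ▸ mem_perp.2 ⟨hv, fun p hp => ?_⟩))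
            rw [← LinearMap.IsAlt.neg halt, hcon p hp, neg_zero]
          have h2 := dvd_finrank halt hiso hinj hc0
            (hasPiece_free halt hiso hr2 hr0 hg (fun v hv => hfree v (hW (hUW hv))) hi
              (by rw [if_neg (Nat.not_even_iff_odd.2 hodd)])) hUn hU
          rw [hUd] at h2
          have := Nat.le_of_dvd hi0 h2
          omega
        · have h1 : finrank F ↥(U ⊓ B.orthogonal U) ≠ 0 := fun e => hrad (Submodule.finrank_eq_zero.1 e)
          have hle := Nat.le_of_dvd (Nat.pos_of_ne_zero h1)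
            ((hH W hW hWi).dvd _ (perp_inv' hiso hinj hU hU) (inf_le_left.trans hUW))
          have hall : U ⊓ B.orthogonal U = U := Submodule.eq_of_le_of_finrank_le inf_le_left (by omega)
          intro u hu v hv
          rw [← hall] at hv
          exact (mem_perp.1 hv).2 u hu
      refine ⟨min (m / i) A, ?_, exists_iso_multi halt hiso hinj hss _ hD hDi hex ?_⟩
      · have hjm : i * min (m / i) A ≤ m :=
          (Nat.mul_le_mul_left i (min_le_left _ _)).trans (Nat.mul_div_le m i)
        refine ⟨hjm, ?_⟩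
        have h1 := Nat.div_add_mod (2 * d) (2 * i)
        have h2 := Nat.div_add_mod m i
        have h3 : A ≤ (2 * d) / (2 * i) :=
          (Nat.le_div_iff_mul_le (by omega)).2 (by rw [mul_comm, ← hA]; omega)
        have h4 := Nat.mul_le_mul_left (2 * i) h3
        rw [mul_assoc 2 i A] at hA h4
        by_cases hcase : m / i ≤ A
        · rw [min_eq_left hcase]; omega
        · rw [min_eq_right (by omega)]; omega
      · refine Or.inr ?_
        rw [hA, mul_assoc]
        have := Nat.mul_le_mul_left i (min_le_right (m / i) A)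
        omega
  obtain ⟨U, hUD, hUi, hUI, hUd⟩ := hjD
  obtain ⟨U₀, hU₀, hU₀I, hU₀d⟩ := exists_iso halt hF0 (j := m - i * j) hjfix.2
  have hort : OrthTo B U₀ U := fun u hu w hw => (mem_perp.1 (hUD hw)).2 u (hU₀ hu)
  have hdisj : Disjoint U₀ U := by
    rw [Submodule.disjoint_def]
    exact fun v hv hv' => hfree v (hUD hv') (mem_fixSp.1 (hU₀ hv).1)
  refine ⟨U₀ ⊔ U, ?_, iso_sup halt hU₀I hUI hort, inv_sup ?_ hUi⟩
  · rw [finrank_sup_of_disjoint hdisj, hU₀d, hUd]; omega
  · rintro _ ⟨v, hv, rfl⟩
    rw [mem_fixSp.1 (hU₀ hv).1]; exact hv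

/-- the fixed vectors of an invariant totally isotropic subspace -/
theorem split_invariant (hnd : B.Nondegenerate) (halt : B.IsAlt) (hiso : ∀ u v, B (g u) (g v) = B u v)
    (hr0 : (r : F) ≠ 0) (hg : g ^ r = 1) (hi : i = orderOf ((Fintype.card F : ℕ) : ZMod r))
    {W : Submodule F V} (hWi : W.map g ≤ W) (hI : IsoOn B W) :
    ∃ (D : Submodule F V) (l j : ℕ), D ≤ W ∧ Disjoint (fixSp g) D ∧ Homog g i D ∧ finrank F D = i * j ∧
      finrank F W = l + i * j ∧ 2 * l ≤ finrank F (fixSp g) := by
  have hgr : ∀ v, (g ^ r) v = v := fun v => by rw [hg]; rfl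
  obtain ⟨D, hDW, -, hd', hD, hsum⟩ := exists_free_part hr0 hgr hWi
  rw [← hi] at hD
  obtain ⟨j, hj⟩ := hD.dvd D hD.inv le_rfl
  obtain ⟨hF0, -, -⟩ := fix_split halt hiso hr0 hg (ndOn_top hnd) (le_top : (⊤ : Submodule F V).map g ≤ ⊤)
  rw [inf_top_eq] at hF0
  refine ⟨D, _, j, hDW, hd', hD, hj, by rw [← hsum, hj], ?_⟩
  exact two_le_of_iso halt hF0 inf_le_left fun u hu v hv => hI u hu.2 v hv.2

/-- isotropic invariant subspaces avoid the simple self-dual factors -/
theorem bound_invariant (hnd : B.Nondegenerate) (halt : B.IsAlt) (hiso : ∀ u v, B (g u) (g v) = B u v)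
    (hr0 : (r : F) ≠ 0) (hg : g ^ r = 1) (hi : i = orderOf ((Fintype.card F : ℕ) : ZMod r)) (hev : Even i)
    {W D : Submodule F V} (hI : IsoOn B W) (hDW : D ≤ W) (hD : Homog g i D) (hd : Disjoint (fixSp g) D)
    (T : Multiset F[X]) (hT : ∀ P ∈ T, finrank F (LinearMap.ker (aeval g P)) ≤ i) (hT1 : T.prod.eval 1 ≠ 0) :
    2 * finrank F D + finrank F (fixSp g) + finrank F (LinearMap.ker (aeval g T.prod)) ≤ finrank F V := by
  classical
  have hi0 := hD.pos
  have hsingle : ∀ P ∈ T, ∀ v ∈ D, aeval g P v = 0 → v = 0 := by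
    intro P hP v hv hPv
    by_contra hv0
    set K := LinearMap.ker (aeval g P)
    have hne : D ⊓ K ≠ ⊥ := fun e => hv0 ((Submodule.mem_bot F).1 (e ▸ ⟨hv, LinearMap.mem_ker.2 hPv⟩))
    have h1 := Nat.le_of_dvd (Nat.pos_of_ne_zero fun e => hne (Submodule.finrank_eq_zero.1 e))
      (hD.dvd _ (inv_inf hD.inv (ker_inv P)) inf_le_left)
    have hall : D ⊓ K = K := Submodule.eq_of_le_of_finrank_le inf_le_right ((hT P hP).trans h1)
    have hKW : K ≤ W := fun x hx => hDW (hall.symm.le hx).1
    refine hv0 (hnd.1 v fun y => ?_)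
    obtain ⟨a, ha, b, hb, rfl⟩ := Submodule.mem_sup.1
      ((isCompl_ker_range hr0 hi hg P).sup_eq_top.symm ▸ Submodule.mem_top : y ∈ K ⊔ LinearMap.range (aeval g P))
    obtain ⟨w, rfl⟩ := hb
    rw [map_add, hI v (hDW hv) a (hKW ha), ker_perp_range hiso hi hi0 hev hg hPv w, add_zero]
  have hinjM : ∀ v ∈ D, aeval g T.prod v = 0 → v = 0 := by
    clear hT1
    induction T using Multiset.induction with
    | empty => intro v _ h; simpa using h
    | cons P T ih =>
      intro v hv h
      rw [Multiset.prod_cons, map_mul, Module.End.mul_apply] at h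
      exact ih (fun Q hQ => hT Q (Multiset.mem_cons_of_mem hQ))
        (fun Q hQ => hsingle Q (Multiset.mem_cons_of_mem hQ)) v hv
        (hsingle P (Multiset.mem_cons_self _ _) _ (aeval_mem hD.inv _ hv) h)
  have hinj1 : ∀ v ∈ D, aeval g (X - C (1 : F)) v = 0 → v = 0 := fun v hv h =>
    Submodule.disjoint_def.1 hd v (by rw [fixSp_eq_ker]; exact LinearMap.mem_ker.2 h) hv
  have horth : ∀ (P : F[X]), (∀ v ∈ D, aeval g P v = 0 → v = 0) → ∀ u, aeval g P u = 0 →
      ∀ w ∈ D, B u w = 0 := by
    intro P hP u hu w hw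
    let φ : D →ₗ[F] D := (aeval g P).restrict fun x hx => aeval_mem hD.inv P hx
    have hφ : Function.Injective φ := (injective_iff_map_eq_zero φ).2 fun x hx =>
      Subtype.ext (hP x x.2 (congrArg Subtype.val hx :))
    obtain ⟨⟨y, hy⟩, e⟩ := LinearMap.injective_iff_surjective.1 hφ ⟨w, hw⟩
    have e2 : aeval g P y = w := congrArg Subtype.val e
    rw [← e2]
    exact ker_perp_range hiso hi hi0 hev hg hu y
  set K := LinearMap.ker (aeval g T.prod) with hK
  have hcop : IsCoprime (X - C (1 : F)) T.prod :=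
    (irreducible_X_sub_C (1 : F)).coprime_iff_not_dvd.2 fun h => hT1 (dvd_iff_isRoot.1 h)
  have hdFK : Disjoint (fixSp g) K := by
    rw [fixSp_eq_ker]; exact disjoint_ker_aeval_of_isCoprime g hcop
  have hdD : Disjoint D (fixSp g ⊔ K) := by
    rw [fixSp_eq_ker, hK, sup_ker_aeval_eq_ker_aeval_mul_of_coprime g hcop, Submodule.disjoint_def]
    intro v hv hv'
    rw [LinearMap.mem_ker, map_mul, Module.End.mul_apply] at hv'
    exact hinjM v hv (hinj1 _ (aeval_mem hD.inv _ hv) hv')
  have hle : D ⊔ (fixSp g ⊔ K) ≤ B.orthogonal D := by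
    have hswap : ∀ x y, B x y = 0 → B y x = 0 := fun x y h => by
      rw [← LinearMap.IsAlt.neg halt, h, neg_zero]
    refine sup_le (fun x hx y hy => hI y (hDW hy) x (hDW hx)) (sup_le (fun x hx y hy => ?_) fun x hx y hy => ?_)
    · rw [fixSp_eq_ker, LinearMap.mem_ker] at hx
      exact hswap _ _ (horth _ hinj1 x hx y hy)
    · exact hswap _ _ (horth _ hinjM x (LinearMap.mem_ker.1 hx) y hy)
  have h1 := Submodule.finrank_mono hle
  rw [finrank_sup_of_disjoint hdD, finrank_sup_of_disjoint hdFK, LinearMap.BilinForm.finrank_orthogonal hnd] at h1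
  have := Submodule.finrank_le D
  omega

/-- all self-dual multisets of one kind -/
theorem real_selfdual (hS : OrthPrimeClasses.Setting F r i) (hev : Even i) :
    ∀ s : Multiset F[X], (∀ p ∈ s, Fac r p) → SympRealise.Real r s := by
  intro s
  induction s using Multiset.induction with
  | empty => exact fun _ => SympRealise.Real.zero r
  | cons p s ih =>
    intro h
    have hp := h p (Multiset.mem_cons_self _ _)
    rw [← Multiset.singleton_add]
    exact (SympRealise.real_single hS.cast_ne hS.ne_two hS.deg hp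
      ((hp.star_eq_iff hS.cast_ne hS.ne_two hS.deg).2 hev)).add (ih fun x hx => h x (Multiset.mem_cons_of_mem hx))

theorem real_pairs (hS : OrthPrimeClasses.Setting F r i) {p : F[X]} (hp : Fac r p) :
    ∀ n : ℕ, SympRealise.Real r (n • ({p, StarFactor.star r p} : Multiset F[X])) := by
  intro n
  induction n with
  | zero => rw [zero_smul]; exact SympRealise.Real.zero r
  | succ n ih => rw [succ_nsmul]; exact ih.add (SympRealise.real_pair hr.out.one_le hp.monic hp.dvd)

/-- a symplectic element with prescribed factors -/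
theorem exists_element (hS : OrthPrimeClasses.Setting F r i) {d : ℕ} (s : Multiset F[X])
    (hs : ∀ p ∈ s, Fac r p) (hR : SympRealise.Real r s) {f : ℕ} (hf : Even f)
    (hd : Multiset.card s * i + f = 2 * d) :
    ∃ x : Matrix.symplecticGroup (Fin d) F, x ^ r = 1 ∧
      (Matrix.toLin' (x : Matrix (Fin d ⊕ Fin d) (Fin d ⊕ Fin d) F)).charpoly =
        (s + Multiset.replicate f (X - C (1 : F))).prod ∧
      finrank F (fixSp (Matrix.toLin' (x : Matrix (Fin d ⊕ Fin d) (Fin d ⊕ Fin d) F))) = f := by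
  classical
  obtain ⟨e, rfl⟩ := hf
  have hmon : ∀ p ∈ s + Multiset.replicate (e + e) (X - C (1 : F)), p.Monic ∧ Irreducible p := by
    intro p hp
    rcases Multiset.mem_add.1 hp with h | h
    · exact ⟨(hs p h).monic, (hs p h).irr⟩
    · rw [Multiset.eq_of_mem_replicate h]; exact ⟨monic_X_sub_C 1, irreducible_X_sub_C 1⟩
  have hR' := hR.add (SympRealise.real_ones hr.out.one_le hS.cast_ne e)
  rw [two_mul] at hR'
  obtain ⟨x, hx, hxc⟩ := SympRealise.exists_symplectic (m := d) hR' (by
    rw [natDegree_multiset_prod_of_monic _ fun p hp => (hmon p hp).1, Multiset.map_add, Multiset.sum_add,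
      Multiset.map_replicate, natDegree_X_sub_C, Multiset.sum_replicate, smul_eq_mul, mul_one, ← hd]
    rw [Multiset.map_congr rfl fun p hp => hS.deg p (hs p hp), Multiset.map_const', Multiset.sum_replicate,
      smul_eq_mul])
  refine ⟨x, hx, (Matrix.charpoly_toLin' _).trans hxc, ?_⟩
  set g := Matrix.toLin' (x : Matrix (Fin d ⊕ Fin d) (Fin d ⊕ Fin d) F) with hgdef
  have hg : g ^ r = 1 := by
    rw [hgdef, ← Matrix.toLin'_pow, ← SubmonoidClass.coe_pow, hx, OneMemClass.coe_one, Matrix.toLin'_one]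
    rfl
  have hc : g.charpoly = (Multiset.replicate (e + e) (X - C (1 : F)) + s).prod := by
    rw [add_comm, hgdef, Matrix.charpoly_toLin', hxc]
  rw [fixSp_eq_ker]
  rcases Nat.eq_zero_or_pos (e + e) with h0 | h0
  · rw [h0, Multiset.replicate_zero, zero_add] at hc
    rw [h0, Submodule.finrank_eq_zero, Submodule.eq_bot_iff]
    intro v hv
    by_contra hv0
    rw [LinearMap.mem_ker, map_sub, aeval_X, map_one, map_one, LinearMap.sub_apply, Module.End.one_apply,
      sub_eq_zero] at hv
    have hev : Module.End.HasEigenvalue g (1 : F) :=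
      Module.End.hasEigenvalue_of_hasEigenvector ⟨Module.End.mem_eigenspace_iff.2 (by rw [hv, one_smul]), hv0⟩
    have hroot := (Module.End.hasEigenvalue_iff_isRoot_charpoly _ _).1 hev
    rw [hc] at hroot
    obtain ⟨p, hp, hdp⟩ := (prime_X_sub_C (1 : F)).exists_mem_multiset_dvd (dvd_iff_isRoot.2 hroot)
    exact (hs p hp).ne (eq_of_monic_of_associated (monic_X_sub_C 1) (hs p hp).monic
      ((irreducible_X_sub_C (1 : F)).associated_of_dvd (hs p hp).irr hdp)).symm
  · rw [finrank_ker_part hS.cast_ne hS.ord.symm hg (Multiset.replicate (e + e) (X - C (1 : F))) s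
      (fun p hp => hmon p (by rwa [add_comm])) ?_ hc (X - C 1) ?_ ?_]
    · rw [Multiset.map_replicate, natDegree_X_sub_C, Multiset.sum_replicate, smul_eq_mul, mul_one]
    · intro p hp hps
      exact (hs p hps).ne (Multiset.eq_of_mem_replicate hp)
    · intro p hp; rw [Multiset.eq_of_mem_replicate hp]
    · exact Multiset.dvd_prod (Multiset.mem_replicate.2 ⟨h0.ne', rfl⟩)

/-- necessity -/
theorem necessary (p : ℕ) [Fact p.Prime] [CharP F p] (hrp : r ≠ p) (hr2 : r ≠ 2)
    (hi : i = orderOf ((Fintype.card F : ℕ) : ZMod r)) (hc : c = if Even i then i else 2 * i)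
    {d m j₀ : ℕ} (hm : 1 ≤ m) (hj₀ : j₀ < m) (hmd : m ≤ d) (hdvd : i ∣ 2 * (d - j₀))
    (H : ∀ x : Matrix.symplecticGroup (Fin d) F, x ^ r = 1 → x ≠ 1 →
      ∃ W : Submodule F (Fin d ⊕ Fin d → F), finrank F W = m ∧ IsoOn (SympStd.sympB d F) W ∧
        W.map (Matrix.toLin' (x : Matrix (Fin d ⊕ Fin d) (Fin d ⊕ Fin d) F)) ≤ W) :
    i ≤ m ∧ 2 * (m % i) ≤ (2 * d) % c ∧ (Odd i ∨ (r - 1) / i + 2 * (m / i) ≤ (2 * d) / i) := by
  classical
  have hti : i ∣ r - 1 := by
    rw [hi]
    refine orderOf_dvd_of_pow_eq_one (ZMod.pow_card_sub_one_eq_one fun h => hrp ?_)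
    obtain ⟨n, -, hn⟩ := FiniteField.card F p
    rw [ZMod.natCast_eq_zero_iff, hn] at h
    exact (Nat.prime_dvd_prime_iff_eq hr.out Fact.out).1 (hr.out.dvd_of_dvd_pow h)
  obtain ⟨hS, P, hPcard, hP⟩ := OrthPrimeClasses.setting_of (F := F) (p := p) (t := (r - 1) / i) rfl hr.out
    hr2 hrp hi (Nat.div_mul_cancel hti)
  have hr0 := hS.cast_ne
  have hi0 := OrthPrimeClasses.ne_of_pos hS
  have ht0 : 0 < (r - 1) / i :=
    Nat.div_pos (Nat.le_of_dvd (by have := hr.out.two_le; omega) hti) hi0
  have halt : (SympStd.sympB d F).IsAlt := SympStd.sympB_isAlt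
  have hnd : (SympStd.sympB d F).Nondegenerate := SympStd.sympB_nondegenerate
  -- each non-trivial multiset gives a decomposition
  have key : ∀ (s : Multiset F[X]) (f : ℕ), (∀ q ∈ s, Fac r q) → SympRealise.Real r s → Even f →
      Multiset.card s * i + f = 2 * d → 0 < Multiset.card s →
      ∃ l j, m = l + i * j ∧ 2 * l ≤ f ∧ (Even i → ∀ T T' : Multiset F[X], s = T + T' → T.Nodup →
        (∀ q ∈ T, q ∉ T') → 2 * (i * j) + f + Multiset.card T * i ≤ 2 * d) := by
    intro s f hs hR hf hd hs0
    obtain ⟨x, hx, hxc, hxf⟩ := exists_element hS s hs hR hf hd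
    set g := Matrix.toLin' (x : Matrix (Fin d ⊕ Fin d) (Fin d ⊕ Fin d) F) with hgdef
    have hg : g ^ r = 1 := by
      rw [hgdef, ← Matrix.toLin'_pow, ← SubmonoidClass.coe_pow, hx, OneMemClass.coe_one, Matrix.toLin'_one]
      rfl
    have hne : x ≠ 1 := fun e => by
      have h1 : fixSp g = ⊤ := eq_top_iff.2 fun v _ => mem_fixSp.2 (by
        rw [hgdef, e, OneMemClass.coe_one, Matrix.toLin'_one]; rfl)
      rw [h1, finrank_top, SympStd.finrank_vec] at hxf
      have := Nat.mul_pos hs0 hi0
      omega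
    have hiso : ∀ u v, SympStd.sympB d F (g u) (g v) = SympStd.sympB d F u v := fun u v => by
      rw [hgdef, Matrix.toLin'_apply, Matrix.toLin'_apply, SympStd.sympB_apply, SympStd.sympB_apply,
        SympStd.sympForm_mulVec]
    obtain ⟨W, hWd, hI, hWi⟩ := H x hx hne
    obtain ⟨D, l, j, hDW, hd', hDH, hDd, hsum, hl⟩ := split_invariant hnd halt hiso hr0 hg hi hWi hI
    rw [hxf] at hl
    refine ⟨l, j, hWd ▸ hsum, hl, fun hev T T' hsT hTn hTd => ?_⟩
    have hTf : ∀ q ∈ T, Fac r q := fun q hq => hs q (hsT ▸ Multiset.mem_add.2 (Or.inl hq))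
    have hX : ∀ q, q ∈ T → q ∉ Multiset.replicate f (X - C (1 : F)) := fun q hq h =>
      (hTf q hq).ne (Multiset.eq_of_mem_replicate h)
    have hmon : ∀ q ∈ s + Multiset.replicate f (X - C (1 : F)), q.Monic ∧ Irreducible q := fun q hq => by
      rcases Multiset.mem_add.1 hq with h | h
      · exact ⟨(hs q h).monic, (hs q h).irr⟩
      · rw [Multiset.eq_of_mem_replicate h]; exact ⟨monic_X_sub_C 1, irreducible_X_sub_C 1⟩
    have hker : ∀ (U U' : Multiset F[X]), U + U' = T → finrank F (LinearMap.ker (aeval g U.prod)) =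
        Multiset.card U * i := by
      intro U U' hU
      have hUT : ∀ q ∈ U, q ∈ T := fun q hq => hU ▸ Multiset.mem_add.2 (Or.inl hq)
      rw [finrank_ker_part hr0 hi hg U (U' + T' + Multiset.replicate f (X - C (1 : F))) ?_ ?_ ?_ U.prod
        (fun q hq => Multiset.dvd_prod hq) dvd_rfl,
        Multiset.map_congr rfl fun q hq => hS.deg q (hTf q (hUT q hq)), Multiset.map_const', Multiset.sum_replicate,
        smul_eq_mul]
      · intro q hq; exact hmon q (by rw [hsT, ← hU]; simpa [add_assoc] using hq)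
      · intro q hq h
        rcases Multiset.mem_add.1 h with h | h
        · rcases Multiset.mem_add.1 h with h | h
          · rw [← hU, Multiset.nodup_add] at hTn
            exact Multiset.disjoint_left.1 hTn.2.2 hq h
          · exact hTd q (hUT q hq) h
        · exact hX q (hUT q hq) h
      · rw [hxc, hsT, ← hU, add_assoc, add_assoc, add_assoc]
    have hsmall : ∀ q ∈ T, finrank F (LinearMap.ker (aeval g q)) ≤ i := fun q hq => by
      obtain ⟨U', hU'⟩ := Multiset.exists_cons_of_mem hq
      have := hker {q} U' (by rw [hU', Multiset.singleton_add])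
      rw [Multiset.prod_singleton, Multiset.card_singleton, one_mul] at this
      omega
    have h1 : T.prod.eval 1 ≠ 0 := fun e => by
      obtain ⟨q, hq, hdq⟩ := (prime_X_sub_C (1 : F)).exists_mem_multiset_dvd (dvd_iff_isRoot.2 e)
      exact (hTf q hq).ne (eq_of_monic_of_associated (monic_X_sub_C 1) (hTf q hq).monic
        ((irreducible_X_sub_C (1 : F)).associated_of_dvd (hTf q hq).irr hdq)).symm
    have h2 := bound_invariant hnd halt hiso hr0 hg hi hev hI hDW hDH hd' T hsmall h1
    rw [hxf, hker T 0 (add_zero T), hDd, SympStd.finrank_vec] at h2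
    exact h2
  obtain ⟨p₀, hp₀⟩ := Finset.card_pos.1 (hPcard.symm ▸ ht0)
  have hp₀f : Fac r p₀ := (hP p₀).1 hp₀
  have hc0 : 0 < c := by rw [hc]; split_ifs <;> omega
  have hk0 : Even ((2 * d) % c) := by
    have : Even c := by rw [hc]; split_ifs with h; exacts [h, even_two_mul i]
    rw [Nat.even_iff] at this ⊢
    rw [Nat.mod_mod_of_dvd _ (Nat.dvd_of_mod_eq_zero this)]
    omega
  have hcj : c ∣ 2 * (d - j₀) := by
    rw [hc]
    split_ifs with h
    · exact hdvd
    · exact Nat.mul_dvd_mul_left 2 ((Nat.Coprime.dvd_mul_left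
        (Nat.coprime_two_right.2 (Nat.not_even_iff_odd.1 h))).1 hdvd)
  have hcle : c ≤ 2 * d := (Nat.le_of_dvd (by omega) hcj).trans (by omega)
  have h1 := Nat.div_add_mod (2 * d) c
  have hN : 0 < (2 * d) / c := Nat.div_pos hcle hc0
  -- the element with fewest fixed points
  obtain ⟨l, j, hsum, hl, -⟩ : ∃ l j, m = l + i * j ∧ 2 * l ≤ (2 * d) % c ∧ True := by
    by_cases hev : Even i
    · rw [if_pos hev] at hc
      subst c
      have hs : ∀ q ∈ Multiset.replicate ((2 * d) / i) p₀, Fac r q := fun q hq => by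
        rw [Multiset.eq_of_mem_replicate hq]; exact hp₀f
      obtain ⟨l, j, a, b, -⟩ := key _ ((2 * d) % i) hs (real_selfdual hS hev _ hs) hk0
        (by rw [Multiset.card_replicate, mul_comm]; exact h1) (by rw [Multiset.card_replicate]; exact hN)
      exact ⟨l, j, a, b, trivial⟩
    · rw [if_neg hev] at hc
      subst c
      obtain ⟨hsf, -⟩ := hp₀f.star_fac hr0 hS.deg
      have hs : ∀ q ∈ ((2 * d) / (2 * i)) • ({p₀, StarFactor.star r p₀} : Multiset F[X]), Fac r q := by
        intro q hq
        have := Multiset.mem_of_mem_nsmul hq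
        simp only [Multiset.insert_eq_cons, Multiset.mem_cons, Multiset.mem_singleton] at this
        rcases this with rfl | rfl
        exacts [hp₀f, hsf]
      have hcard : Multiset.card (((2 * d) / (2 * i)) • ({p₀, StarFactor.star r p₀} : Multiset F[X])) =
          2 * ((2 * d) / (2 * i)) := by
        rw [Multiset.card_nsmul, Multiset.insert_eq_cons, Multiset.card_cons, Multiset.card_singleton, mul_comm]
      obtain ⟨l, j, a, b, -⟩ := key _ ((2 * d) % (2 * i)) hs (real_pairs hS hp₀f _) hk0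
        (by rw [hcard]; linear_combination h1) (by rw [hcard]; omega)
      exact ⟨l, j, a, b, trivial⟩
  have hlt : (2 * d) % c < c := Nat.mod_lt _ hc0
  have hli : l < i := by
    have : c ≤ 2 * i := by rw [hc]; split_ifs <;> omega
    omega
  have hlm : m % i = l := by rw [hsum, Nat.add_mul_mod_self_left, Nat.mod_eq_of_lt hli]
  have him : i ≤ m := by
    by_contra hcon
    rw [Nat.mod_eq_of_lt (by omega)] at hlm
    obtain ⟨u, hu⟩ := hcj
    have hk : (2 * d) % c = 2 * j₀ := by
      rw [show 2 * d = 2 * j₀ + c * u by omega, Nat.add_mul_mod_self_left, Nat.mod_eq_of_lt (by omega)]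
    omega
  refine ⟨him, by rw [hlm]; exact hl, ?_⟩
  by_cases hev : Even i
  swap
  · exact Or.inl (Nat.not_even_iff_odd.1 hev)
  refine Or.inr ?_
  by_contra hcon
  rw [if_pos hev] at hc
  subst c
  set N := (2 * d) / i with hNdef
  set t := (r - 1) / i with htdef
  set o := min N t with hodef
  have ho : 0 < o := lt_min hN ht0
  obtain ⟨T, hTP, hTc⟩ := Finset.exists_subset_card_eq (show o ≤ P.card by rw [hPcard]; exact min_le_right _ _)
  obtain ⟨q₀, hq₀⟩ := Finset.card_pos.1 (hTc.symm ▸ ho)
  set S := o + 2 * ((N - o) / 2) with hSdef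
  set T' := Multiset.replicate (S - o + 1) q₀ with hT'
  have hs : ∀ q ∈ (T.erase q₀).val + T', Fac r q := fun q hq => by
    rcases Multiset.mem_add.1 hq with h | h
    · exact (hP q).1 (hTP (Finset.mem_of_mem_erase h))
    · rw [Multiset.eq_of_mem_replicate h]; exact (hP q₀).1 (hTP hq₀)
  have hcard : Multiset.card ((T.erase q₀).val + T') = S := by
    rw [Multiset.card_add, Finset.card_val, Finset.card_erase_of_mem hq₀, hTc, Multiset.card_replicate]
    omega
  have hSN : S ≤ N := by omega
  have h4 : i * S ≤ i * N := Nat.mul_le_mul_left i hSN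
  have hfeven : Even (2 * d - i * S) := by
    rw [Nat.even_sub (by omega)]
    exact ⟨fun _ => hev.mul_right S, fun _ => even_two_mul d⟩
  obtain ⟨l', j', a, b, hb⟩ := key _ (2 * d - i * S) hs (real_selfdual hS hev _ hs) hfeven
    (by rw [hcard, mul_comm S i]; omega) (by rw [hcard]; omega)
  have hb' := hb hev _ T' rfl (T.erase q₀).nodup fun q hq h => by
    rw [Multiset.eq_of_mem_replicate h] at hq
    exact Finset.notMem_erase q₀ T hq
  rw [Finset.card_val, Finset.card_erase_of_mem hq₀, hTc] at hb'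
  have h5 : i * (2 * j' + (o - 1)) ≤ i * S := by
    rw [mul_add, ← mul_assoc, mul_comm i 2, mul_assoc, mul_comm i (o - 1)]; omega
  have h6 : 2 * j' + (o - 1) ≤ S := Nat.le_of_mul_le_mul_left h5 hi0
  have h7 : j' + 1 ≤ m / i := by
    have h8 : 1 ≤ m / i := Nat.div_pos him hi0
    omega
  have h9 : i * (j' + 1) ≤ m := (Nat.mul_le_mul_left i h7).trans (Nat.mul_div_le m i)
  have h10 : i * N ≤ i * (S + 1) := Nat.mul_le_mul_left i (by omega)
  rw [mul_add, mul_one] at h9 h10
  omega

end Cfsg.Agent.Classical.IsoInvariant
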