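import Mathlib
import Cfsg.Agent.Lib.Classical.IsoInvariant.Basic
import Cfsg.Agent.Lib.Forms.Elusive.Involution
import Cfsg.Agent.Lib.Forms.SympStd

/-!
# Elements of order two modulo scalars: invariant totally isotropic subspaces
-/

set_option autoImplicit false
set_option linter.unusedSectionVars false

namespace Cfsg.Agent.Classical.IsoInvariant

open Module Polynomial
open Cfsg.Agent.Forms Cfsg.Agent.Forms.Elusive

variable {F : Type*} [Field F] {V : Type*} [AddCommGroup V] [Module F V] [FiniteDimensional F V]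
  {B : LinearMap.BilinForm F V}

/-- an odd power of a scalar isometry that is trivial -/
theorem normalise {T : V →ₗ[F] V} (hiso : ∀ u v, B (T u) (T v) = B u v) (hne : ∃ u v, B u v ≠ 0) {r : ℕ}
    {z : F} (hTr : ∀ v, (T ^ r) v = z • v) : z * z = 1 ∧ (Odd r → (z • T) ^ r = 1) := by
  have hpow : ∀ (k : ℕ) u v, B ((T ^ k) u) ((T ^ k) v) = B u v := fun k => by
    induction k with
    | zero => simp
    | succ k ih => intro u v; rw [pow_succ', Module.End.mul_apply, Module.End.mul_apply, hiso, ih]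
  obtain ⟨u, v, huv⟩ := hne
  have h := hpow r u v
  rw [hTr, hTr, map_smul, map_smul, LinearMap.smul_apply, smul_eq_mul, smul_eq_mul] at h
  have hzz : z * z = 1 := mul_right_cancel₀ huv (by linear_combination h)
  refine ⟨hzz, fun hr => LinearMap.ext fun w => ?_⟩
  rw [_root_.smul_pow, LinearMap.smul_apply, hTr, smul_smul, Module.End.one_apply]
  obtain ⟨k, rfl⟩ := hr
  rw [pow_succ, pow_mul, sq, hzz, one_pow, one_mul, hzz, one_smul]

theorem sympB_ne {d : ℕ} (hd : 0 < d) : ∃ u v, SympStd.sympB d F u v ≠ 0 :=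
  ⟨Pi.single (Sum.inl ⟨0, hd⟩) 1, Pi.single (Sum.inr ⟨0, hd⟩) 1, by
    simp [SympStd.sympB_apply, SympStd.sympForm_inl_inr]⟩

theorem exists_sub_dim (K : Submodule F V) {m : ℕ} (hm : m ≤ finrank F K) :
    ∃ U : Submodule F V, U ≤ K ∧ finrank F U = m := by
  refine ⟨Submodule.span F (Set.range fun a : Fin m => (Module.finBasis F K (Fin.castLE hm a) : V)),
    Submodule.span_le.2 (by rintro _ ⟨a, rfl⟩; exact Subtype.coe_prop _), ?_⟩
  have h := (((Module.finBasis F K).linearIndependent.map' K.subtype (Submodule.ker_subtype _)).comp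
    (Fin.castLE hm) (Fin.castLE_injective hm))
  exact (finrank_span_eq_card h).trans (Fintype.card_fin m)

variable [Fintype F]

theorem exists_involution (hnd : B.Nondegenerate) (halt : B.IsAlt) {T : V →ₗ[F] V}
    (hiso : ∀ u v, B (T u) (T v) = B u v) (h2 : (2 : F) ≠ 0) (hT : ∀ v, T (T v) = v) {d m : ℕ}
    (hV : finrank F V = 2 * d) (hmd : m ≤ d) :
    ∃ W : Submodule F V, finrank F W = m ∧ IsoOn B W ∧ W.map T ≤ W := by
  have : Fact (Nat.Prime 2) := ⟨Nat.prime_two⟩
  have hT2 : T ^ 2 = 1 := LinearMap.ext fun v => by rw [sq, Module.End.mul_apply, hT, Module.End.one_apply]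
  obtain ⟨hF, -, hsum, hD, hDi, hfree⟩ := Pieces.fix_split (r := 2) halt hiso (by exact_mod_cast h2) hT2
    (ndOn_top hnd) (le_top : (⊤ : Submodule F V).map T ≤ ⊤)
  have hneg : ∀ v ∈ ((⊤ : Submodule F V) ⊓ B.orthogonal (fixSp T ⊓ ⊤)), T v = -v := fun v hv =>
    eq_neg_of_add_eq_zero_left
      (hfree _ (add_mem (hDi ⟨v, hv, rfl⟩) hv) (by rw [map_add, hT, add_comm]))
  have hev : ∀ {X : Submodule F V}, NdOn B X → Even (finrank F X) := fun {X} hX => by
    obtain ⟨k, e, f, hef⟩ := Bases.exists_sympFamily B halt X fun u hu h => by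
      by_contra h0
      obtain ⟨v, hv, huv⟩ := hX u hu h0
      exact huv (h v hv)
    exact ⟨k, by have := hef.finrank_eq; omega⟩
  obtain ⟨a, ha⟩ := hev hF
  obtain ⟨b, hb⟩ := hev hD
  rw [finrank_top, hV, ha, hb] at hsum
  obtain ⟨U, hU, hUI, hUd⟩ := exists_iso halt hF (j := min m a) (by omega)
  obtain ⟨U', hU', hU'I, hU'd⟩ := exists_iso halt hD (j := m - min m a) (by omega)
  refine ⟨U ⊔ U', ?_, iso_sup halt hUI hU'I fun u hu w hw => (mem_perp.1 (hU' hw)).2 u (hU hu), inv_sup ?_ ?_⟩
  · rw [finrank_sup_of_disjoint, hUd, hU'd]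
    · omega
    · rw [Submodule.disjoint_def]
      exact fun v hv hv' => hfree v (hU' hv') (mem_fixSp.1 (hU hv).1)
  · rintro _ ⟨v, hv, rfl⟩
    rw [mem_fixSp.1 (hU hv).1]; exact hv
  · rintro _ ⟨v, hv, rfl⟩
    rw [hneg v (hU' hv)]; exact neg_mem hv

theorem exists_order_four (hnd : B.Nondegenerate) (halt : B.IsAlt) {T : V →ₗ[F] V}
    (hiso : ∀ u v, B (T u) (T v) = B u v) (h2 : (2 : F) ≠ 0) (hT : ∀ v, T (T v) = -v) {d m : ℕ}
    (hV : finrank F V = 2 * d) (hmd : m ≤ d) (hcond : Even m ∨ Fintype.card F % 4 = 1) :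
    ∃ W : Submodule F V, finrank F W = m ∧ IsoOn B W ∧ W.map T ≤ W := by
  by_cases hq : Fintype.card F % 4 = 1
  · obtain ⟨j, hj⟩ := FiniteField.isSquare_neg_one_iff.2 (show Fintype.card F % 4 ≠ 3 by omega)
    have hj' : j * j = -1 := hj.symm
    have hker : ∀ (s : F) v, v ∈ LinearMap.ker (T - s • (1 : V →ₗ[F] V)) ↔ T v = s • v := fun s v => by
      rw [LinearMap.mem_ker, LinearMap.sub_apply, LinearMap.smul_apply, Module.End.one_apply, sub_eq_zero]
    have hiso1 : ∀ s : F, s * s = -1 → IsoOn B (LinearMap.ker (T - s • (1 : V →ₗ[F] V))) := fun s hs u hu v hv => by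
      have h := hiso u v
      rw [(hker s u).1 hu, (hker s v).1 hv, map_smul, map_smul, LinearMap.smul_apply, smul_eq_mul, smul_eq_mul,
        ← mul_assoc, hs] at h
      exact (mul_eq_zero.1 (show (2 : F) * B u v = 0 by linear_combination -h)).resolve_left h2
    have hjn : (-j) * (-j) = -1 := by linear_combination hj'
    have hsup : (LinearMap.ker (T - j • (1 : V →ₗ[F] V)) ⊔ LinearMap.ker (T - (-j) • (1 : V →ₗ[F] V)) :
        Submodule F V) = ⊤ := by
      refine eq_top_iff.2 fun v _ => ?_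
      have key : ∀ s : F, s * s = -1 → v - s • T v ∈ LinearMap.ker (T - s • (1 : V →ₗ[F] V)) := by
        intro s hs
        rw [hker, map_sub, map_smul, hT, smul_sub, smul_smul, hs, neg_one_smul, smul_neg]
        abel
      have h1 := Submodule.add_mem_sup (key j hj') (key (-j) hjn)
      have e : v - j • T v + (v - (-j) • T v) = (2 : F) • v := by rw [two_smul, neg_smul]; abel
      rw [e] at h1
      simpa [h2] using Submodule.smul_mem _ (2 : F)⁻¹ h1
    have h1 := Submodule.finrank_add_le_finrank_add_finrank (LinearMap.ker (T - j • (1 : V →ₗ[F] V)))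
      (LinearMap.ker (T - (-j) • (1 : V →ₗ[F] V)))
    rw [hsup, finrank_top, hV] at h1
    have h3 := two_le_of_iso halt (ndOn_top hnd) le_top (hiso1 (-j) hjn)
    rw [finrank_top, hV] at h3
    obtain ⟨U, hU, hUd⟩ := exists_sub_dim (LinearMap.ker (T - j • (1 : V →ₗ[F] V)))
      (show m ≤ finrank F (LinearMap.ker (T - j • (1 : V →ₗ[F] V))) by omega)
    refine ⟨U, hUd, fun u hu v hv => hiso1 j hj' u (hU hu) v (hU hv), ?_⟩
    rintro _ ⟨v, hv, rfl⟩
    rw [(hker j v).1 (hU hv)]
    exact U.smul_mem j hv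
  · obtain ⟨k, hk⟩ := hcond.resolve_right hq
    have hchar : ringChar F ≠ 2 := fun e => h2 (by
      have := ringChar.of_eq e
      exact CharTwo.two_eq_zero)
    have hodd : Fintype.card F % 2 = 1 := FiniteField.odd_card_of_char_ne_two hchar
    have hns : ∀ s : F, s * s ≠ -1 := fun s hs => by
      have := FiniteField.isSquare_neg_one_iff.1 ⟨s, hs.symm⟩
      omega
    have hinj : Function.Injective T := fun u v e => by
      have := congrArg T e
      rwa [hT, hT, neg_inj] at this
    have hT4 : T ^ 4 = 1 := LinearMap.ext fun v => by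
      simp [pow_succ, Module.End.mul_apply, hT]
    have h4 : ((4 : ℕ) : F) ≠ 0 := by
      have : ((4 : ℕ) : F) = 2 * 2 := by norm_num
      rw [this]; exact mul_ne_zero h2 h2
    have hss : Module.End.IsSemisimple T :=
      isSemisimple_of_pow (r := 4) (c := 1) (fun v => by rw [hT4, one_smul]; rfl) h4 one_ne_zero
    have hP : ∀ v, aeval T (X ^ 2 + C (1 : F)) v = 0 := fun v => by
      simp [sq, Module.End.mul_apply, hT]
    obtain ⟨U, -, hUi, hUI, hUd⟩ := exists_iso_multi halt hiso hinj hss (i := 2) (L := 3) k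
      (ndOn_top hnd) (le_top : (⊤ : Submodule F V).map T ≤ ⊤) (fun W _ _ hWi hL => by
        obtain ⟨S, hSW, hSi, hSI, hS0, hSd⟩ := exists_cyclic (N := 4) (h := 1) halt hiso (by omega) hT4
          (monic_X_pow_add_C (1 : F) two_ne_zero) (natDegree_X_pow_add_C) hWi (fun v _ => hP v) (by omega)
        refine ⟨S, hSW, hSi, hSI, ?_⟩
        have hne : finrank F S ≠ 0 := fun e => hS0 (Submodule.finrank_eq_zero.1 e)
        obtain ⟨e, he⟩ := Cfsg.Agent.Forms.Elusive.Inv.even_finrank
          (θ := T.restrict fun v hv => hSi ⟨v, hv, rfl⟩) (a := (0 : F)) (N := (1 : F))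
          (fun v => Subtype.ext (by
            show T (T (v : V)) = _
            rw [hT]; simp))
          (fun s hs => hns s (by linear_combination hs))
        omega) (by
        rcases Nat.eq_zero_or_pos k with h0 | h0
        · exact Or.inl h0
        · refine Or.inr ?_
          rw [finrank_top, hV]; omega)
    exact ⟨U, by omega, hUI, hUi⟩

end Cfsg.Agent.Classical.IsoInvariant
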