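import Mathlib

/-!
# Arithmetic for invariant totally singular subspaces
-/

set_option autoImplicit false

namespace Cfsg.Agent.Classical.IsoInvariant.TsArith

/-- the number of pairs that every multiset of `a` moved blocks contains -/
def pairs (i t a : ℕ) : ℕ := if Even i then (a + 1 - t) / 2 else a / 2

/-- an element with `f` fixed dimensions and `a` moved blocks fixes one -/
def Ok (τ : Prop) (i m f a J : ℕ) : Prop :=
  ∃ j, j ≤ J ∧ i * j ≤ m ∧ 2 * (m - i * j) ≤ f ∧ (2 * (m - i * j) = f → (τ ↔ Odd i ∨ Even a))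

/-- all of them do -/
def AllOk (τ : Prop) (i t d m : ℕ) : Prop :=
  ∀ f a, f + i * a = 2 * d → 0 < a → (Odd i → Even a) → (f = 0 → (τ ↔ Odd i ∨ Even a)) →
    Ok τ i m f a (pairs i t a)

variable {τ : Prop} {i t d m : ℕ}

theorem odd_iff (hodd : Odd i) (hm0 : 0 < m) (hmd : m < d)
    (hcount : ∃ a, (d - m < a ∧ a ≤ d ∧ i ∣ 2 * a ∧ (i ∣ a ↔ τ)) ∨
      (d - m ≤ a ∧ a < d ∧ i ∣ 2 * a ∧ (i ∣ a ↔ ¬ τ))) :
    AllOk τ i t d m ↔ i ≤ m ∧ ((τ ∧ 2 * (m % i) ≤ 2 * d % (2 * i)) ∨
      (¬ τ ∧ (2 * d % (2 * i) = 0 ∨ 2 * (m % i) < 2 * d % (2 * i)))) := by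
  have hne : ¬ Even i := Nat.not_even_iff_odd.2 hodd
  have hi0 : 0 < i := hodd.pos
  have hk : 2 * d % (2 * i) = 2 * (d % i) := Nat.mul_mod_mul_left 2 d i
  have hd2 := Nat.div_add_mod d i
  have hm2 := Nat.div_add_mod m i
  have hkl := Nat.mod_lt d hi0
  have hll := Nat.mod_lt m hi0
  have hpar : ∀ a, pairs i t (2 * a) = a := fun a => by rw [pairs, if_neg hne]; omega
  have hcast : ∀ a : ℕ, (τ ↔ Odd i ∨ Even a) ↔ τ := fun a => by
    have : Odd i ∨ Even a := Or.inl hodd
    simp [this]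
  constructor
  · intro H
    have test : ∀ a e, i * a + e = d → 0 < a → (e = 0 → τ) →
        ∃ j, j ≤ a ∧ i * j ≤ m ∧ m - i * j ≤ e ∧ (m - i * j = e → τ) := fun a e hae ha he => by
      obtain ⟨j, h1, h2, h3, h4⟩ := H (2 * e) (2 * a) (by rw [← hae]; ring) (by omega)
        (fun _ => even_two_mul a) (fun h0 => (hcast _).2 (he (by omega)))
      rw [hpar] at h1
      exact ⟨j, h1, h2, by omega, fun h5 => (hcast _).1 (h4 (by omega))⟩
    have hle : i ≤ m := by
      by_contra hlt
      have hz : ∀ j, i * j ≤ m → i * j = 0 := fun j hj => by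
        rcases Nat.eq_zero_or_pos j with rfl | hj0
        · rw [mul_zero]
        · have := Nat.le_mul_of_pos_right i hj0; omega
      obtain ⟨b, ⟨h1, h2, h3, h4⟩ | ⟨h1, h2, h3, h4⟩⟩ := hcount
      all_goals
        obtain ⟨a, rfl⟩ : i ∣ b := (Nat.coprime_two_right.2 hodd).dvd_of_dvd_mul_left h3
        have ha : 0 < a := Nat.pos_of_ne_zero fun e => by rw [e, mul_zero] at h1; omega
      · obtain ⟨j, -, hj, h5, -⟩ := test a (d - i * a) (by omega) ha fun _ => h4.1 (dvd_mul_right _ _)
        have := hz j hj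
        omega
      · obtain ⟨j, -, hj, h5, h6⟩ := test a (d - i * a) (by omega) ha fun h => absurd h (by omega)
        have := hz j hj
        exact h4.1 (dvd_mul_right _ _) (h6 (by omega))
    refine ⟨hle, ?_⟩
    have hM : 1 ≤ m / i := Nat.div_pos hle hi0
    have hN : m / i ≤ d / i := Nat.div_le_div_right hmd.le
    have hzz : ∀ j, i * j ≤ m → i * j ≤ i * (m / i) := fun j hj =>
      Nat.mul_le_mul_left i ((Nat.le_div_iff_mul_le hi0).2 (by rw [mul_comm]; exact hj))
    rw [hk]
    by_cases hτ : τ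
    · refine Or.inl ⟨hτ, ?_⟩
      obtain ⟨j, -, hj, h5, -⟩ := test (d / i) (d % i) hd2 (by omega) fun _ => hτ
      have := hzz j hj
      omega
    · refine Or.inr ⟨hτ, ?_⟩
      by_contra hcon
      obtain ⟨j, -, hj, h5, h6⟩ := test (d / i) (d % i) hd2 (by omega) fun h => absurd h (by omega)
      have := hzz j hj
      exact hτ (h6 (by omega))
  · rintro ⟨-, hbr⟩ f a hfa ha hev hf0
    obtain ⟨a, rfl⟩ := (hev hodd).two_dvd
    obtain ⟨e, rfl⟩ : ∃ e, f = 2 * e := ⟨d - i * a, by rw [mul_left_comm] at hfa; omega⟩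
    rw [mul_left_comm] at hfa
    refine ⟨min a (m / i), by rw [hpar]; exact min_le_left _ _, ?_, ?_⟩
    · exact (Nat.mul_le_mul_left i (min_le_right _ _)).trans (Nat.mul_div_le m i)
    rcases le_or_gt a (m / i) with h1 | h1
    · rw [min_eq_left h1]
      have := Nat.mul_le_mul_left i h1
      exact ⟨by omega, fun h => absurd h (by omega)⟩
    · rw [min_eq_right h1.le]
      have haN : a ≤ d / i := (Nat.le_div_iff_mul_le hi0).2 (by rw [mul_comm]; omega)
      have h2 := Nat.mul_le_mul_left i haN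
      rw [hcast, hk] at *
      rcases hbr with ⟨hτ, hb⟩ | ⟨hτ, hb⟩
      · exact ⟨by omega, fun _ => hτ⟩
      · have he : e ≠ 0 := fun e0 => hτ (hf0 (by omega))
        rcases hb with hb | hb
        · obtain ⟨u, hu⟩ : i ∣ e := by
            have hd' : i ∣ d := Nat.dvd_of_mod_eq_zero (by omega)
            exact (Nat.dvd_add_left (dvd_mul_right i a)).1 (by rwa [show e + i * a = d by omega])
          have := Nat.le_mul_of_pos_right i (show 0 < u from Nat.pos_of_ne_zero fun e0 => he (by rw [hu, e0, mul_zero]))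
          exact ⟨by omega, fun h => absurd h (by omega)⟩
        · exact ⟨by omega, fun h => absurd h (by omega)⟩

theorem even_iff (hev : Even i) (hi0 : 0 < i) (ht : 1 ≤ t) (hm0 : 0 < m) (hmd : m < d)
    (hcount : ∃ a, (d - m < a ∧ a ≤ d ∧ i ∣ 2 * a ∧ (i ∣ a ↔ τ)) ∨
      (d - m ≤ a ∧ a < d ∧ i ∣ 2 * a ∧ (i ∣ a ↔ ¬ τ))) :
    AllOk τ i t d m ↔ i ≤ m ∧ t + 2 * (m / i) ≤ 2 * d / i ∧
      ((2 * (m % i) ≤ i ∧ 2 * d % i = 0 ∧ ¬ (τ ↔ Even (2 * d / i)) ∧ t + 2 * (m / i) < 2 * d / i) ∨
        ((τ ↔ Even (2 * d / i)) ∧ 2 * (m % i) ≤ 2 * d % i) ∨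
        (¬ (τ ↔ Even (2 * d / i)) ∧ 2 * (m % i) < 2 * d % i)) := by
  have hno : ¬ Odd i := Nat.not_odd_iff_even.2 hev
  have hpar : ∀ a, pairs i t a = (a + 1 - t) / 2 := fun a => by rw [pairs, if_pos hev]
  obtain ⟨h, rfl⟩ := hev.two_dvd
  have hh : 0 < h := by omega
  rw [Nat.mul_div_mul_left d h two_pos, Nat.mul_mod_mul_left 2 d h]
  set M := m / (2 * h) with hM
  set ℓ := m % (2 * h) with hℓ
  set N := d / h with hN
  set k := d % h with hk
  have hd2 : h * N + k = d := Nat.div_add_mod d h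
  have hm2 : 2 * h * M + ℓ = m := Nat.div_add_mod m (2 * h)
  have hkl : k < h := Nat.mod_lt d hh
  have hll : ℓ < 2 * h := Nat.mod_lt m (by omega)
  have hodd' : ∀ a : ℕ, (τ ↔ Odd (2 * h) ∨ Even a) ↔ (τ ↔ Even a) := fun a => by simp [hno]
  have hflip : ∀ a b : ℕ, (Even a ↔ ¬ Even b) → ((τ ↔ Even a) ↔ ¬ (τ ↔ Even b)) := fun a b e => by
    rw [e]; by_cases τ <;> by_cases Even b <;> simp [*]
  have hjM : ∀ j, 2 * h * j ≤ m → j ≤ M := fun j hj =>
    (Nat.le_div_iff_mul_le (by omega)).2 (by rw [mul_comm]; exact hj)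
  constructor
  · intro H
    have test : ∀ a e, h * a + e = d → 0 < a → (e = 0 → (τ ↔ Even a)) →
        ∃ j, j ≤ (a + 1 - t) / 2 ∧ j ≤ M ∧ m ≤ e + 2 * (h * j) ∧ (m = e + 2 * (h * j) → (τ ↔ Even a)) :=
      fun a e hae ha he => by
      obtain ⟨j, h1, h2, h3, h4⟩ := H (2 * e) a (by rw [← hae]; ring) ha
        (fun o => absurd o hno) (fun h0 => (hodd' a).2 (he (by omega)))
      have hj : 2 * h * j = 2 * (h * j) := by ring
      rw [hpar] at h1
      exact ⟨j, h1, hjM j h2, by omega, fun h5 => (hodd' a).1 (h4 (by omega))⟩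
    have hle : 2 * h ≤ m := by
      by_contra hlt
      have hz : M = 0 := Nat.div_eq_of_lt (by omega)
      obtain ⟨b, ⟨h1, h2, h3, h4⟩ | ⟨h1, h2, h3, h4⟩⟩ := hcount
      all_goals
        obtain ⟨a, rfl⟩ : h ∣ b := Nat.dvd_of_mul_dvd_mul_left two_pos h3
        have ha : 0 < a := Nat.pos_of_ne_zero fun e => by rw [e, mul_zero] at h1; omega
        have hd' : 2 * h ∣ h * a ↔ Even a := by
          rw [mul_comm 2 h, Nat.mul_dvd_mul_iff_left hh, even_iff_two_dvd]
        rw [hd'] at h4
      · obtain ⟨j, -, hj, h5, -⟩ := test a (d - h * a) (by omega) ha fun _ => h4.symm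
        obtain rfl : j = 0 := by omega
        omega
      · obtain ⟨j, -, hj, h5, h6⟩ := test a (d - h * a) (by omega) ha fun h => absurd h (by omega)
        obtain rfl : j = 0 := by omega
        have h7 := h6 (by omega)
        by_cases hτ : τ
        · exact h4.1 (h7.1 hτ) hτ
        · exact hτ (h7.2 (h4.2 hτ))
    have hM1 : 1 ≤ M := Nat.div_pos hle (by omega)
    have hMN : 2 * M ≤ N := (Nat.le_div_iff_mul_le hh).2 (by
      have : 2 * M * h = 2 * h * M := by ring
      omega)
    have hN1 : ∀ x, x ≤ N → h * (N - x) + (k + h * x) = d := fun x hx => by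
      have := congrArg (h * ·) (Nat.sub_add_cancel hx)
      simp only [mul_add] at this
      omega
    have hG1 : t + 2 * M ≤ N := by
      by_contra hcon
      obtain ⟨j, hj, -, h5, -⟩ := test (N - 1) (k + h * 1) (hN1 1 (by omega)) (by omega) (by omega)
      have : h * (j + 1) ≤ h * M := Nat.mul_le_mul_left h (by omega)
      rw [mul_add] at this
      have : 2 * h * M = 2 * (h * M) := by ring
      omega
    refine ⟨hle, hG1, ?_⟩
    have hmj : ∀ j, j ≤ M → 2 * (h * j) ≤ 2 * h * M := fun j hj => by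
      rw [mul_assoc]; exact Nat.mul_le_mul_left 2 (Nat.mul_le_mul_left h hj)
    by_cases hX : τ ↔ Even N
    · refine Or.inr (Or.inl ⟨hX, ?_⟩)
      obtain ⟨j, -, hj, h5, -⟩ := test N k hd2 (by omega) fun _ => hX
      have := hmj j hj
      omega
    rcases Nat.eq_zero_or_pos k with h0 | h0
    · obtain ⟨j, -, hj, h5, -⟩ := test (N - 1) (k + h * 1) (hN1 1 (by omega)) (by omega) (by omega)
      have := hmj j hj
      refine Or.inl ⟨by omega, by omega, hX, ?_⟩
      by_contra hS
      obtain ⟨j, hj, -, h5, h6⟩ := test (N - 2) (k + h * 2) (hN1 2 (by omega)) (by omega) (by omega)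
      have : h * (j + 1) ≤ h * M := Nat.mul_le_mul_left h (by omega)
      rw [mul_add] at this
      have : 2 * h * M = 2 * (h * M) := by ring
      have he : Even (N - 2) ↔ Even N := by simp only [Nat.even_iff]; omega
      exact hX (by rw [← he]; exact h6 (by omega))
    · refine Or.inr (Or.inr ⟨hX, ?_⟩)
      by_contra hcon
      obtain ⟨j, -, hj, h5, h6⟩ := test N k hd2 (by omega) fun h => absurd h (by omega)
      have := hmj j hj
      exact hX (h6 (by omega))
  · rintro ⟨hle, hS, hbr⟩ f a hfa ha - hf0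
    rw [hodd'] at hf0
    obtain ⟨e, rfl⟩ : ∃ e, f = 2 * e := ⟨d - h * a, by rw [mul_assoc] at hfa; omega⟩
    have hae : h * a + e = d := by rw [mul_assoc] at hfa; omega
    have haN : a ≤ N := (Nat.le_div_iff_mul_le hh).2 (by rw [mul_comm]; omega)
    have hM2 : 2 * h * M = 2 * (h * M) := by ring
    have hlast : k = 0 → ¬ (τ ↔ Even N) → a < N := fun h0 hX => lt_of_le_of_ne haN fun e0 => hX (by
      subst e0
      exact hf0 (by omega))
    refine ⟨min ((a + 1 - t) / 2) M, by rw [hpar]; exact min_le_left _ _, ?_, ?_⟩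
    · exact (Nat.mul_le_mul_left _ (min_le_right _ _)).trans (Nat.mul_div_le m _)
    rw [hodd']
    rcases le_or_gt M ((a + 1 - t) / 2) with h1 | h1
    · rw [min_eq_right h1]
      rcases Nat.eq_or_lt_of_le haN with rfl | hlt
      · rcases hbr with ⟨-, hk0, hX, -⟩ | ⟨hX, hb⟩ | ⟨-, hb⟩
        · exact absurd (hlast (by omega) hX) (lt_irrefl _)
        · exact ⟨by omega, fun _ => hX⟩
        · exact ⟨by omega, fun h => absurd h (by omega)⟩
      · have h2 : h * (a + 1) ≤ h * N := Nat.mul_le_mul_left h hlt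
        rw [mul_add, mul_one] at h2
        rcases hbr with ⟨hb, hk0, hX, -⟩ | ⟨-, hb⟩ | ⟨-, hb⟩
        · refine ⟨by omega, fun he => ?_⟩
          rcases Nat.eq_or_lt_of_le (Nat.succ_le_of_lt hlt) with h3 | h3
          · refine (hflip a N ?_).2 hX
            simp only [Nat.even_iff]; omega
          · have h4 : h * (a + 2) ≤ h * N := Nat.mul_le_mul_left h h3
            rw [mul_add] at h4
            omega
        · exact ⟨by omega, fun h => absurd h (by omega)⟩
        · exact ⟨by omega, fun h => absurd h (by omega)⟩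
    · rw [min_eq_left h1.le]
      set J := (a + 1 - t) / 2 with hJ
      have hJ2 : 2 * h * J = 2 * (h * J) := by ring
      have hjm : 2 * h * J ≤ 2 * h * M := Nat.mul_le_mul_left _ h1.le
      by_cases hat : a < t + 2 * J
      · have h3 : h * (a + (2 * M + 1)) ≤ h * (N + 2 * J) := Nat.mul_le_mul_left h (by omega)
        have e1 : h * (2 * M) = 2 * (h * M) := by ring
        have e2 : h * (2 * J) = 2 * (h * J) := by ring
        rw [mul_add, mul_add, mul_add] at h3
        rcases hbr with ⟨hb, -, -, hb'⟩ | ⟨-, hb⟩ | ⟨-, hb⟩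
        · have h4 : h * (a + (2 * M + 2)) ≤ h * (N + 2 * J) := Nat.mul_le_mul_left h (by omega)
          rw [mul_add, mul_add, mul_add] at h4
          exact ⟨by omega, fun h => absurd h (by omega)⟩
        all_goals exact ⟨by omega, fun h => absurd h (by omega)⟩
      · have hat' : a = t + 2 * J := by omega
        rcases Nat.eq_or_lt_of_le hS with h3 | h3
        · have h4 : h * (a + 2 * M) = h * (N + 2 * J) := congrArg (h * ·) (by omega)
          have e1 : h * (2 * M) = 2 * (h * M) := by ring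
          have e2 : h * (2 * J) = 2 * (h * J) := by ring
          rw [mul_add, mul_add] at h4
          rcases hbr with ⟨-, -, -, hb⟩ | ⟨hX, hb⟩ | ⟨-, hb⟩
          · omega
          · refine ⟨by omega, fun _ => hX.trans ?_⟩
            simp only [Nat.even_iff]; omega
          · exact ⟨by omega, fun h => absurd h (by omega)⟩
        · have h4 : h * (a + (2 * M + 1)) ≤ h * (N + 2 * J) := Nat.mul_le_mul_left h (by omega)
          have e1 : h * (2 * M) = 2 * (h * M) := by ring
          have e2 : h * (2 * J) = 2 * (h * J) := by ring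
          rw [mul_add, mul_add, mul_add] at h4
          rcases hbr with ⟨hb, -, hX, -⟩ | ⟨-, hb⟩ | ⟨-, hb⟩
          · refine ⟨by omega, fun he => (hflip a N ?_).2 hX⟩
            rcases Nat.eq_or_lt_of_le (Nat.succ_le_of_lt h3) with h5 | h5
            · simp only [Nat.even_iff]; omega
            · have h6 : h * (a + (2 * M + 2)) ≤ h * (N + 2 * J) := Nat.mul_le_mul_left h (by omega)
              rw [mul_add, mul_add, mul_add] at h6
              omega
          · exact ⟨by omega, fun h => absurd h (by omega)⟩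
          · exact ⟨by omega, fun h => absurd h (by omega)⟩

end Cfsg.Agent.Classical.IsoInvariant.TsArith
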