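import Mathlib
import Cfsg.Agent.Lib.Classical.IsoInvariant.QuadNd
import Cfsg.Agent.Lib.Classical.IsoInvariant.Refl

/-!
# Counting totally singular subspaces of an even-dimensional quadratic space
-/

set_option autoImplicit false
set_option linter.unusedSectionVars false

namespace Cfsg.Agent.Classical.IsoInvariant.TsCount

open Module
open Cfsg.Agent.Forms
open Cfsg.Agent.Forms.Elusive Cfsg.Agent.Forms.Elusive.Pieces
open Cfsg.Agent.Classical.OrthTypes Cfsg.Agent.Classical.OrthCount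
open Cfsg.Agent.Classical.IsoInvariant.NdType Cfsg.Agent.Classical.IsoInvariant.EvenDim
open Cfsg.Agent.Classical.IsoInvariant.QuadNd

variable {F : Type*} [Field F] [Fintype F] {ι : Type} [Fintype ι] [DecidableEq ι]
  {Q : QuadraticForm F (ι → F)}

/-- totally singular subspaces are totally isotropic -/
theorem iso_of_sing {W : Submodule F (ι → F)} (h : ∀ w ∈ W, Q w = 0) : IsoOn (pB Q) W := fun u hu v hv => by
  rw [QuadraticMap.polarBilin_apply_apply, QuadraticMap.polar, h _ (W.add_mem hu hv), h u hu, h v hv, sub_zero,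
    sub_zero]

theorem sing_span {κ : Type} {v : κ → (ι → F)} (h1 : ∀ a, Q (v a) = 0) (h2 : ∀ a b, pB Q (v a) (v b) = 0) :
    ∀ x ∈ Submodule.span F (Set.range v), Q x = 0 := by
  have hiso : ∀ x ∈ Submodule.span F (Set.range v), ∀ y ∈ Submodule.span F (Set.range v), pB Q x y = 0 := by
    intro x hx y hy
    induction hx using Submodule.span_induction with
    | mem x hx =>
      obtain ⟨a, rfl⟩ := hx
      induction hy using Submodule.span_induction with
      | mem y hy => obtain ⟨b, rfl⟩ := hy; exact h2 a b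
      | zero => exact map_zero _
      | add y z _ _ e1 e2 => rw [map_add, e1, e2, add_zero]
      | smul c y _ e1 => rw [map_smul, e1, smul_zero]
    | zero => rw [map_zero, LinearMap.zero_apply]
    | add x z _ _ e1 e2 => rw [map_add, LinearMap.add_apply, e1, e2, add_zero]
    | smul c x _ e1 => rw [map_smul, LinearMap.smul_apply, e1, smul_zero]
  intro x hx
  induction hx using Submodule.span_induction with
  | mem x hx => obtain ⟨a, rfl⟩ := hx; exact h1 a
  | zero => exact QuadraticMap.map_zero _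
  | add x y hx hy e1 e2 =>
    have := hiso x hx y hy
    rw [QuadraticMap.polarBilin_apply_apply] at this
    rw [QuadraticMap.map_add (⇑Q), e1, e2, this, add_zero, add_zero]
  | smul c x _ e1 => rw [QuadraticMap.map_smul, e1, smul_zero]

open _root_.Classical in
/-- the nonzero singular vectors of a space of dimension `2e` -/
noncomputable def factor (q : ℕ) (τ : Prop) (e : ℕ) : ℕ :=
  if τ then (q ^ e - 1) * (q ^ (e - 1) + 1) else (q ^ e + 1) * (q ^ (e - 1) - 1)

theorem factor_pos {q : ℕ} (hq : 1 ≤ q) (e : ℕ) {τ : Prop} :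
    (τ → q ^ (2 * e + 1) + q ^ (e + 1) - q ^ e = factor q τ (e + 1) + 1) ∧
      (¬ τ → q ^ (2 * e + 1) + q ^ e - q ^ (e + 1) = factor q τ (e + 1) + 1) := by
  have h1 : ∀ k, 1 ≤ q ^ k := fun k => Nat.one_le_pow _ _ hq
  have h2 : q ^ e ≤ q ^ (e + 1) := Nat.pow_le_pow_right hq (by omega)
  have h3 : q ^ (e + 1) ≤ q ^ (2 * e + 1) := Nat.pow_le_pow_right hq (by omega)
  constructor <;> intro ht
  · rw [factor, if_pos ht, Nat.add_sub_cancel, ← Nat.cast_inj (R := ℤ)]
    push_cast [Nat.cast_sub (h1 (e + 1)), Nat.cast_sub (le_add_left h2 : q ^ e ≤ q ^ (2 * e + 1) + q ^ (e + 1))]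
    ring
  · rw [factor, if_neg ht, Nat.add_sub_cancel, ← Nat.cast_inj (R := ℤ)]
    push_cast [Nat.cast_sub (h1 e), Nat.cast_sub (le_add_right h3 : q ^ (e + 1) ≤ q ^ (2 * e + 1) + q ^ e)]
    ring

/-- singular vectors of a nondegenerate subspace -/
theorem natCard_sing {R : Submodule F (ι → F)} (hR : NdOn (pB Q) R) {e : ℕ} (he : finrank F R = 2 * (e + 1))
    {τ : Prop} (hτ : QPlus Q R ↔ τ) :
    Nat.card {y : R // Q (y : ι → F) = 0} = factor (Fintype.card F) τ (e + 1) + 1 := by
  let L := coord he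
  have hT := coordQ_nondeg hR L
  have hc : Fintype.card (Fin (2 * (e + 1))) = 2 * (e + 1) := Fintype.card_fin _
  have hiff := (isPlus_coordQ (Q := Q) L hc).trans hτ
  have hq : 1 ≤ Fintype.card F := Fintype.card_pos
  have key : ∀ {κ : Type} [Fintype κ] (S : QuadraticForm F (κ → F))
      (f : (Fin (2 * (e + 1)) → F) ≃ₗ[F] (κ → F)), (∀ x, S (f x) = coordQ Q L x) →
      Nat.card {y : R // Q (y : ι → F) = 0} = zeros ⇑S := fun S f hf =>
    Nat.card_congr (Equiv.subtypeEquiv (L.symm.trans f).toEquiv fun y => by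
      show Q (y : ι → F) = 0 ↔ S (f (L.symm y)) = 0
      rw [hf, coordQ_apply, L.apply_symm_apply])
  rcases normal_form hc hT with ⟨hp, f, hf⟩ | ⟨hp, -, ζ, f, hζ, hf⟩
  · rw [key _ f hf, OrthForms.zeros_plus rfl (by omega), show 2 * (e + 1) - 1 = 2 * e + 1 by omega,
      show e + 1 - 1 = e from rfl]
    exact (factor_pos hq e).1 (hiff.1 hp)
  · rw [key _ f hf, OrthForms.zeros_min rfl (QuadClass.aniso_one hζ)]
    exact (factor_pos hq e).2 fun h => hp (hiff.2 h)

/-- linearly independent singular pairwise orthogonal tuples -/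
def QFrames (Q : QuadraticForm F (ι → F)) (m : ℕ) :=
  {v : Fin m → (ι → F) // LinearIndependent F v ∧ (∀ a, Q (v a) = 0) ∧ ∀ a b, pB Q (v a) (v b) = 0}

theorem natCard_fibre (hQ : (QuadraticMap.polarBilin Q).Nondegenerate) {d : ℕ} (hcard : Fintype.card ι = 2 * d)
    {S : Submodule F (ι → F)} {m : ℕ} (hS : finrank F S = m) (hm : m < d) (hts : ∀ w ∈ S, Q w = 0) :
    Nat.card {x : ι → F // (x ∈ (pB Q).orthogonal S ∧ Q x = 0) ∧ x ∉ S} =
      Fintype.card F ^ m * factor (Fintype.card F) (IsPlus Q d) (d - m) := by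
  classical
  have hB := pB_refl Q
  have hI := iso_of_sing hts
  have : Nontrivial F := inferInstance
  have hss : Module.End.IsSemisimple (1 : Module.End F (ι → F)) :=
    isSemisimple_of_pow (r := 1) (c := 1) (fun v => by simp) (by simp) one_ne_zero
  obtain ⟨R, -, hR, -, hort, hd', hsum⟩ := Refl.exists_middle (g := (1 : Module.End F (ι → F))) hB (fun _ _ => rfl)
    Function.injective_id hss (ndOn_top hQ) (by simp) le_top (by rintro _ ⟨a, ha, rfl⟩; exact ha) hI
  rw [finrank_top, Module.finrank_pi, hcard, hS] at hsum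
  have hperp : finrank F ((pB Q).orthogonal S) = 2 * d - m := by
    rw [LinearMap.BilinForm.finrank_orthogonal hQ, Module.finrank_pi, hcard, hS]
  have hsup : S ⊔ R = (pB Q).orthogonal S := by
    refine Submodule.eq_of_le_of_finrank_le (sup_le (fun x hx y hy => hI y hy x hx)
      fun x hx y hy => hort y hy x hx) ?_
    rw [finrank_sup_of_disjoint hd', hperp, hS]; omega
  obtain ⟨e, he⟩ : ∃ e, d - m = e + 1 := ⟨d - m - 1, by omega⟩
  have hRd : finrank F R = 2 * (e + 1) := by omega
  obtain ⟨hP, ho, hsupP, hdimP⟩ := perp_nd hB (ndOn_top hQ) hR le_top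
  rw [finrank_top, Module.finrank_pi, hcard, hRd] at hdimP
  have hPd : finrank F ↥((⊤ : Submodule F (ι → F)) ⊓ (pB Q).orthogonal R) = 2 * m := by omega
  have hτ : QPlus Q R ↔ IsPlus Q d := by
    have hPp : QPlus Q ((⊤ : Submodule F (ι → F)) ⊓ (pB Q).orthogonal R) :=
      ⟨S, fun s hs => mem_perp.2 ⟨Submodule.mem_top, fun x hx => Refl.orthTo_symm hB hort x hx s hs⟩, hts,
        by rw [hPd, hS]⟩
    rw [← qplus_top hcard, type_sum hcard hR hP ho hsupP hRd hPd, iff_true_right hPp]
  have hself : ∀ a ∈ S, ∀ y ∈ R, Q (a + y) = Q y := fun a ha y hy => by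
    have h0 := hort a ha y hy
    rw [QuadraticMap.polarBilin_apply_apply] at h0
    rw [QuadraticMap.map_add (⇑Q), hts a ha, h0, zero_add, add_zero]
  let ψ : S × {y : R // Q (y : ι → F) = 0} ≃ {x : ι → F // x ∈ (pB Q).orthogonal S ∧ Q x = 0} :=
    Equiv.ofBijective (fun ay => ⟨(ay.1 : ι → F) + (ay.2.1 : ι → F),
      hsup.le (Submodule.add_mem_sup ay.1.2 ay.2.1.2), (hself _ ay.1.2 _ ay.2.1.2).trans ay.2.2⟩) ⟨by
      rintro ⟨a, y⟩ ⟨a', y'⟩ h
      have h' : (a : ι → F) + (y.1 : ι → F) = (a' : ι → F) + (y'.1 : ι → F) := congrArg Subtype.val h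
      have h0 : (a : ι → F) - (a' : ι → F) = 0 := Submodule.disjoint_def.1 hd' _ (sub_mem a.2 a'.2) (by
        rw [show (a : ι → F) - (a' : ι → F) = (y'.1 : ι → F) - (y.1 : ι → F) by
          rw [sub_eq_sub_iff_add_eq_add, h', add_comm]]
        exact sub_mem y'.1.2 y.1.2)
      rw [sub_eq_zero] at h0
      rw [h0, add_right_inj] at h'
      exact Prod.ext (Subtype.ext h0) (Subtype.ext (Subtype.ext h')), by
      rintro ⟨x, hx, hxx⟩
      obtain ⟨a, ha, y, hy, rfl⟩ := Submodule.mem_sup.1 (hsup.ge hx)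
      exact ⟨(⟨a, ha⟩, ⟨⟨y, hy⟩, (hself a ha y hy).symm.trans hxx⟩), rfl⟩⟩
  have hA : Nat.card {x : ι → F // x ∈ (pB Q).orthogonal S ∧ Q x = 0} =
      Fintype.card F ^ m * (factor (Fintype.card F) (IsPlus Q d) (d - m) + 1) := by
    rw [← Nat.card_congr ψ, Nat.card_prod, natCard_sing hR hRd hτ,
      Module.natCard_eq_pow_finrank (K := F) (V := S), hS, Nat.card_eq_fintype_card, he]
  have hle : (S : Set (ι → F)) ⊆ {x | x ∈ (pB Q).orthogonal S ∧ Q x = 0} := fun x hx =>
    ⟨fun y hy => hI y hy x hx, hts x hx⟩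
  have h3 : Nat.card {x : ι → F // (x ∈ (pB Q).orthogonal S ∧ Q x = 0) ∧ x ∉ S} =
      ({x | x ∈ (pB Q).orthogonal S ∧ Q x = 0} \ (S : Set (ι → F))).ncard := Nat.card_coe_set_eq _
  rw [h3, Set.ncard_sdiff hle, ← Nat.card_coe_set_eq, ← Nat.card_coe_set_eq, SetLike.coe_sort_coe,
    Set.coe_setOf, hA, Module.natCard_eq_pow_finrank (K := F) (V := S), hS, Nat.card_eq_fintype_card, mul_add,
    mul_one, Nat.add_sub_cancel]

theorem natCard_frames (hQ : (QuadraticMap.polarBilin Q).Nondegenerate) {d : ℕ} (hcard : Fintype.card ι = 2 * d) :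
    ∀ m : ℕ, m ≤ d → Nat.card (QFrames Q m) = ∏ j ∈ Finset.range m,
      Fintype.card F ^ j * factor (Fintype.card F) (IsPlus Q d) (d - j) := by
  classical
  intro m
  induction m with
  | zero =>
    intro _
    have : Unique (QFrames Q 0) :=
      { default := ⟨Fin.elim0, linearIndependent_empty_type, fun a => a.elim0, fun a => a.elim0⟩
        uniq := fun v => Subtype.ext (funext fun a => a.elim0) }
    rw [Nat.card_unique, Finset.range_zero, Finset.prod_empty]
  | succ m ih =>
    intro hm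
    let S : QFrames Q m → Submodule F (ι → F) := fun v => Submodule.span F (Set.range v.1)
    let e : QFrames Q (m + 1) ≃
        Σ v : QFrames Q m, {x : ι → F // (x ∈ (pB Q).orthogonal (S v) ∧ Q x = 0) ∧ x ∉ S v} :=
      { toFun := fun w => ⟨⟨Fin.tail w.1, w.2.1.comp _ (Fin.succ_injective _), fun a => w.2.2.1 _,
          fun a b => w.2.2.2 _ _⟩, w.1 0, by
          refine ⟨⟨fun y hy => ?_, w.2.2.1 0⟩, ?_⟩
          · induction hy using Submodule.span_induction with
            | mem y hy => obtain ⟨a, rfl⟩ := hy; exact w.2.2.2 _ _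
            | zero => show pB Q 0 _ = 0; rw [map_zero, LinearMap.zero_apply]
            | add y z _ _ h1 h2 =>
              show pB Q (y + z) _ = 0
              rw [map_add, LinearMap.add_apply, h1, h2, add_zero]
            | smul c y _ h1 =>
              show pB Q (c • y) _ = 0
              rw [map_smul, LinearMap.smul_apply, h1, smul_zero]
          · have h := w.2.1
            rw [← Fin.cons_self_tail w.1, linearIndependent_finCons] at h
            exact h.2⟩
        invFun := fun p => ⟨Fin.cons p.2.1 p.1.1, linearIndependent_finCons.2 ⟨p.1.2.1, p.2.2.2⟩,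
          Fin.cases (by simpa using p.2.2.1.2) fun a => by simpa using p.1.2.2.1 a, by
          have h1 : ∀ a, pB Q (p.1.1 a) p.2.1 = 0 := fun a => p.2.2.1.1 _ (Submodule.subset_span ⟨a, rfl⟩)
          refine Fin.cases (Fin.cases ?_ fun b => ?_) fun a => Fin.cases ?_ fun b => ?_
          · rw [Fin.cons_zero, pB_self, p.2.2.1.2, mul_zero]
          · rw [Fin.cons_zero, Fin.cons_succ, (pB_symm Q).eq, h1]
          · rw [Fin.cons_zero, Fin.cons_succ, h1]
          · rw [Fin.cons_succ, Fin.cons_succ]; exact p.1.2.2.2 a b⟩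
        left_inv := fun w => Subtype.ext (Fin.cons_self_tail w.1)
        right_inv := fun p => by
          obtain ⟨⟨v, hv⟩, x, hx⟩ := p
          rfl }
    have : Finite (QFrames Q m) := Subtype.finite
    have : Fintype (QFrames Q m) := Fintype.ofFinite _
    have hfib : ∀ v : QFrames Q m, Nat.card {x : ι → F // (x ∈ (pB Q).orthogonal (S v) ∧ Q x = 0) ∧ x ∉ S v} =
        Fintype.card F ^ m * factor (Fintype.card F) (IsPlus Q d) (d - m) := fun v =>
      natCard_fibre hQ hcard (by rw [finrank_span_eq_card v.2.1, Fintype.card_fin]) (by omega)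
        (sing_span v.2.2.1 v.2.2.2)
    rw [Nat.card_congr e, Nat.card_sigma, Finset.sum_congr rfl (fun v _ => hfib v), Finset.sum_const,
      Finset.card_univ, smul_eq_mul, ← Nat.card_eq_fintype_card, ih (by omega), Finset.prod_range_succ]

/-- the number of totally singular subspaces -/
theorem natCard_mul (hQ : (QuadraticMap.polarBilin Q).Nondegenerate) {d m : ℕ} (hcard : Fintype.card ι = 2 * d)
    (hm : m ≤ d) :
    Nat.card {W : Submodule F (ι → F) // finrank F W = m ∧ ∀ w ∈ W, Q w = 0} *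
        ∏ j ∈ Finset.range m, (Fintype.card F ^ (m - j) - 1) =
      ∏ j ∈ Finset.range m, factor (Fintype.card F) (IsPlus Q d) (d - j) := by
  classical
  have : Finite (QFrames Q m) := Subtype.finite
  let Ω := {W : Submodule F (ι → F) // finrank F W = m ∧ ∀ w ∈ W, Q w = 0}
  let f : QFrames Q m → Ω := fun v => ⟨Submodule.span F (Set.range v.1),
    by rw [finrank_span_eq_card v.2.1, Fintype.card_fin], sing_span v.2.2.1 v.2.2.2⟩
  let e : ∀ W : Ω, {v : QFrames Q m // f v = W} ≃ {s : Fin m → W.1 // LinearIndependent F s} := fun W =>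
    { toFun := fun v => ⟨fun a => ⟨v.1.1 a, by
          rw [← congrArg Subtype.val v.2]; exact Submodule.subset_span ⟨a, rfl⟩⟩,
        (LinearMap.linearIndependent_iff W.1.subtype (Submodule.ker_subtype _)).1 v.1.2.1⟩
      invFun := fun s => ⟨⟨fun a => (s.1 a : ι → F),
          s.2.map' W.1.subtype (Submodule.ker_subtype _), fun a => W.2.2 _ (s.1 a).2,
            fun a b => iso_of_sing W.2.2 _ (s.1 a).2 _ (s.1 b).2⟩,
        Subtype.ext (Submodule.eq_of_le_of_finrank_eq
          (Submodule.span_le.2 (by rintro _ ⟨a, rfl⟩; exact (s.1 a).2)) (by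
            show finrank F (Submodule.span F (Set.range (W.1.subtype ∘ s.1))) = finrank F W.1
            exact (finrank_span_eq_card (s.2.map' W.1.subtype (Submodule.ker_subtype _))).trans
              ((Fintype.card_fin m).trans W.2.1.symm)))⟩
      left_inv := fun v => rfl
      right_inv := fun s => rfl }
  have : Fintype Ω := Fintype.ofFinite _
  have h1 : Nat.card (QFrames Q m) =
      Nat.card Ω * ∏ j ∈ Finset.range m, (Fintype.card F ^ m - Fintype.card F ^ j) := by
    rw [← Nat.card_congr (Equiv.sigmaFiberEquiv f), Nat.card_sigma,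
      Finset.sum_congr rfl fun W _ => Nat.card_congr (e W), Finset.sum_congr rfl fun W _ => ?_,
      Finset.sum_const, Finset.card_univ, smul_eq_mul, ← Nat.card_eq_fintype_card]
    rw [card_linearIndependent (K := F) (V := W.1) (le_of_eq W.2.1.symm), W.2.1,
      Fin.prod_univ_eq_prod_range (fun j => Fintype.card F ^ m - Fintype.card F ^ j)]
  have hfac : ∏ j ∈ Finset.range m, (Fintype.card F ^ m - Fintype.card F ^ j) =
      (∏ j ∈ Finset.range m, Fintype.card F ^ j) * ∏ j ∈ Finset.range m, (Fintype.card F ^ (m - j) - 1) := by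
    rw [← Finset.prod_mul_distrib]
    refine Finset.prod_congr rfl fun j hj => ?_
    rw [Nat.mul_sub, mul_one, ← pow_add, Nat.add_sub_cancel' (Finset.mem_range.1 hj).le]
  rw [natCard_frames hQ hcard m hm, Finset.prod_mul_distrib, hfac, mul_left_comm] at h1
  exact (Nat.eq_of_mul_eq_mul_left (Finset.prod_pos fun j _ => Nat.pow_pos Fintype.card_pos) h1).symm

/-- what a prime divisor of the number of totally singular subspaces says -/
theorem index_of_dvd (hQ : (QuadraticMap.polarBilin Q).Nondegenerate) (p : ℕ) [Fact p.Prime] [CharP F p]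
    {r : ℕ} [hr : Fact r.Prime] {d m : ℕ} (hcard : Fintype.card ι = 2 * d) (hmd : m < d)
    (h : r ∣ Nat.card {W : Submodule F (ι → F) // finrank F W = m ∧ ∀ w ∈ W, Q w = 0}) :
    r ≠ p ∧ ∀ i, i = orderOf ((Fintype.card F : ℕ) : ZMod r) → r ≠ 2 → ∃ a,
      (d - m < a ∧ a ≤ d ∧ i ∣ 2 * a ∧ (i ∣ a ↔ IsPlus Q d)) ∨
      (d - m ≤ a ∧ a < d ∧ i ∣ 2 * a ∧ (i ∣ a ↔ ¬ IsPlus Q d)) := by
  classical
  have h1 : r ∣ ∏ j ∈ Finset.range m, factor (Fintype.card F) (IsPlus Q d) (d - j) := by
    rw [← natCard_mul hQ hcard hmd.le]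
    exact h.mul_right _
  obtain ⟨j, hj, hd⟩ := (hr.out.prime.dvd_finsetProd_iff _).1 h1
  have hj' := Finset.mem_range.1 hj
  obtain ⟨e, he⟩ : ∃ e, d - j = e + 2 := ⟨d - j - 2, by omega⟩
  rw [he, factor, show e + 2 - 1 = e + 1 from rfl] at hd
  set q := Fintype.card F with hq
  have hrp : r ≠ p := by
    intro e'
    obtain ⟨n, -, hn⟩ := FiniteField.card F p
    have hrq : ∀ k, 0 < k → r ∣ q ^ k := fun k hk =>
      dvd_trans (by rw [hq, hn, e']; exact dvd_pow_self _ n.pos.ne') (dvd_pow_self _ hk.ne')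
    have hm1 : ∀ k, 0 < k → ¬ r ∣ q ^ k - 1 := fun k hk h2 => hr.out.not_dvd_one (by
      have h4 := Nat.dvd_sub (hrq k hk) h2
      rwa [Nat.sub_sub_self (Nat.one_le_pow _ _ Fintype.card_pos)] at h4)
    have hp1 : ∀ k, 0 < k → ¬ r ∣ q ^ k + 1 := fun k hk h2 => hr.out.not_dvd_one (by
      have h4 := Nat.dvd_sub h2 (hrq k hk)
      rwa [Nat.add_sub_cancel_left] at h4)
    split_ifs at hd <;> rcases hr.out.dvd_mul.1 hd with h2 | h2
    exacts [hm1 _ (by omega) h2, hp1 _ (by omega) h2, hp1 _ (by omega) h2, hm1 _ (by omega) h2]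
  refine ⟨hrp, fun i hi hr2 => ?_⟩
  have hord : ∀ n, r ∣ q ^ n - 1 ↔ i ∣ n := fun n => by
    rw [hi, orderOf_dvd_iff_pow_eq_one, ← ZMod.natCast_eq_zero_iff, Nat.cast_sub (Nat.one_le_pow _ _ Fintype.card_pos),
      Nat.cast_pow, Nat.cast_one, sub_eq_zero]
  have hplus : ∀ n, r ∣ q ^ n + 1 → (i ∣ 2 * n ∧ ¬ i ∣ n) := fun n => by
    have h22 : (2 : ZMod r) ≠ 0 := fun h => hr2 ((Nat.prime_dvd_prime_iff_eq hr.out Nat.prime_two).1
      ((ZMod.natCast_eq_zero_iff 2 r).1 (by exact_mod_cast h)))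
    rw [hi, orderOf_dvd_iff_pow_eq_one, orderOf_dvd_iff_pow_eq_one, ← ZMod.natCast_eq_zero_iff, Nat.cast_add,
      Nat.cast_pow, Nat.cast_one, mul_comm 2 n, pow_mul]
    intro h
    have e1 := eq_neg_of_add_eq_zero_left h
    refine ⟨by rw [e1]; ring, fun h1 => h22 ?_⟩
    rw [e1] at h1
    linear_combination -h1
  by_cases hp : IsPlus Q d
  · rw [if_pos hp] at hd
    rcases hr.out.dvd_mul.1 hd with h2 | h2
    · exact ⟨e + 2, Or.inl ⟨by omega, by omega, ((hord _).1 h2).mul_left 2, iff_of_true ((hord _).1 h2) hp⟩⟩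
    · exact ⟨e + 1, Or.inr ⟨by omega, by omega, (hplus _ h2).1,
        iff_of_false (hplus _ h2).2 (not_not.2 hp)⟩⟩
  · rw [if_neg hp] at hd
    rcases hr.out.dvd_mul.1 hd with h2 | h2
    · exact ⟨e + 2, Or.inl ⟨by omega, by omega, (hplus _ h2).1, iff_of_false (hplus _ h2).2 hp⟩⟩
    · exact ⟨e + 1, Or.inr ⟨by omega, by omega, ((hord _).1 h2).mul_left 2, iff_of_true ((hord _).1 h2) hp⟩⟩

end Cfsg.Agent.Classical.IsoInvariant.TsCount
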