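import Mathlib
import Cfsg.Agent.Lib.Classical.IsoInvariant.TsCount
import Cfsg.Agent.Lib.Classical.OrthPrimeClasses

/-!
# Invariant totally singular subspaces of elements of odd prime order, not the characteristic
-/

set_option autoImplicit false
set_option linter.unusedSectionVars false

namespace Cfsg.Agent.Classical.IsoInvariant.TsFree

open Module Polynomial
open scoped Matrix
open Cfsg.Agent.Forms
open Cfsg.Agent.Forms.Elusive Cfsg.Agent.Forms.Elusive.Pieces
open Cfsg.Agent.Classical.OrthTypes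
open Cfsg.Agent.Classical.PowScalarClasses (Admissible)
open Cfsg.Agent.Classical.IsoInvariant.NdType Cfsg.Agent.Classical.IsoInvariant.EvenDim
open Cfsg.Agent.Classical.IsoInvariant.QuadNd
open Cfsg.Agent.Classical.OrthPrimeClasses (Setting Good)

variable {F : Type*} [Field F] [Fintype F] {ι : Type} [Fintype ι] [DecidableEq ι]
  {Q : QuadraticForm F (ι → F)} {r i : ℕ}

/-- a factor pairing fills a hyperbolic space with an invariant half -/
theorem hyperbolic_datum (hset : Setting F r i) {m : ℕ} {t : Multiset F[X]} (ht : Admissible r m 1 t) :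
    ∃ B : Matrix (Fin m) (Fin m) F, OrthRealise.IsoDatum r (t + t.map (StarFactor.star r)) (PlusStd.plusQ F m)
      (Matrix.fromBlocks B 0 0 (B ^ (r - 1))ᵀ) := by
  have hr := hset.prime.one_le
  obtain ⟨B, hB, hBc, hBi⟩ := StarFactor.exists_matrix_inv hset.prime.ne_zero t ht.1 m ht.2
  have h1 : B ^ (r - 1) * B = 1 := by rw [← pow_succ, Nat.sub_add_cancel hr, hB]
  refine ⟨B, PlusStd.plusQ_nondeg F m, fun v => ?_, ?_, ?_⟩
  · rw [OrthRealise.plusQ_eq_dot, OrthRealise.plusQ_eq_dot, Matrix.fromBlocks_mulVec]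
    simp only [Sum.elim_comp_inl, Sum.elim_comp_inr, Matrix.zero_mulVec, add_zero, zero_add]
    rw [dotProduct_comm, Matrix.dotProduct_mulVec, ← Matrix.mulVec_transpose, Matrix.mulVec_mulVec,
      ← Matrix.transpose_mul, h1, Matrix.transpose_one, Matrix.one_mulVec, dotProduct_comm]
  · rw [OrthRealise.pow_blocks, hB, ← Matrix.transpose_pow, ← pow_mul, mul_comm, pow_mul, hB, one_pow,
      Matrix.transpose_one, Matrix.fromBlocks_one]
  · rw [Matrix.charpoly_fromBlocks_zero₁₂, Matrix.charpoly_transpose, hBc, hBi, Multiset.prod_add]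

/-- an element whose multiset splits fixes a totally singular subspace -/
theorem exists_fixed (hset : Setting F r i) (hQ : (QuadraticMap.polarBilin Q).Nondegenerate) {m n d : ℕ}
    (hcard : Fintype.card ι = 2 * d) (hmn : m + n = d) {t u : Multiset F[X]} (ht : Admissible r m 1 t)
    (hu : Good r (2 * n) u) {M : Matrix ι ι F}
    (hM : OrthRealise.IsoDatum r (t + t.map (StarFactor.star r) + u) Q M)
    (he : X - C 1 ∈ u ∨ (IsPlus Q d ↔ Odd i ∨ Even (2 * n / i))) :
    ∃ W : Submodule F (ι → F), (finrank F W = m ∧ ∀ w ∈ W, Q w = 0) ∧ W.map (Matrix.toLin' M) ≤ W := by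
  classical
  obtain ⟨B, hA⟩ := hyperbolic_datum hset ht
  obtain ⟨μ, _, _, l, S, D, hl, hD, hb⟩ := OrthPrimeClasses.real_of_good hset hu (decide (IsPlus Q d))
    (he.imp id fun h => by rw [decide_eq_true_iff]; exact h)
  rw [decide_eq_true_iff] at hb
  obtain rfl : l = n := by
    have h := OrthPrimeClasses.sum_degree_of_datum hD hu.monic
    rw [hu.1.2] at h; omega
  have hc : Fintype.card ((Fin m ⊕ Fin m) ⊕ μ) = 2 * d := by simp only [Fintype.card_sum, Fintype.card_fin, hl]; omega
  obtain ⟨e, he'⟩ := exists_isometry hc hcard (sumQ_nondeg hA.nd hD.nd) hQ (by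
    rw [← hmn, isPlus_sum_iff (a := m) (by simp; omega) hl hA.nd hD.nd, hb, hmn]
    exact ⟨fun h => h.1 (isPlus_plusQ m), fun h => iff_of_true (isPlus_plusQ m) h⟩)
  have hAD := hA.sum hD
  obtain ⟨g, hg, hgM⟩ := OrthRealise.exists_intertwine (hset.prime.odd_of_ne_two hset.ne_two) hset.cast_ne hQ
    hAD.pres hAD.pow hM.pres hM.pow (hAD.char.trans hM.char.symm) e he'
  let inl : (Fin m → F) →ₗ[F] ((Fin m ⊕ Fin m) ⊕ μ → F) :=
    (LinearEquiv.sumArrowLequivProdArrow (Fin m ⊕ Fin m) μ F F).symm.toLinearMap ∘ₗ LinearMap.inl F _ _ ∘ₗ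
      (LinearEquiv.sumArrowLequivProdArrow (Fin m) (Fin m) F F).symm.toLinearMap ∘ₗ LinearMap.inl F _ _
  have hinl : ∀ a, inl a = Sum.elim (Sum.elim a (0 : Fin m → F)) (0 : μ → F) := fun a => by
    funext z
    rcases z with (z | z) | z <;> rfl
  set φ : (Fin m → F) →ₗ[F] (ι → F) := g.toLinearMap ∘ₗ inl with hφ
  have hinj : Function.Injective φ := fun a b h => by
    have h' : g (inl a) = g (inl b) := h
    rw [hinl, hinl] at h'
    exact funext fun z => congrFun (g.injective h') (Sum.inl (Sum.inl z))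
  refine ⟨LinearMap.range φ, ⟨by rw [LinearMap.finrank_range_of_inj hinj, Module.finrank_pi, Fintype.card_fin], ?_⟩, ?_⟩
  · rintro _ ⟨a, rfl⟩
    show Q (g (inl a)) = 0
    rw [hg, hinl, sumQ_apply, Sum.elim_comp_inl, Sum.elim_comp_inr, QuadraticMap.map_zero, add_zero,
      OrthRealise.plusQ_eq_dot, Sum.elim_comp_inl, Sum.elim_comp_inr, dotProduct_zero]
  · rintro _ ⟨_, ⟨a, rfl⟩, rfl⟩
    refine ⟨B.mulVec a, ?_⟩
    show g (inl (B *ᵥ a)) = Matrix.toLin' M (g (inl a))
    rw [Matrix.toLin'_apply, hinl, hinl, ← hgM, Matrix.fromBlocks_mulVec, Sum.elim_comp_inl, Sum.elim_comp_inr,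
      Matrix.fromBlocks_mulVec, Sum.elim_comp_inl, Sum.elim_comp_inr]
    simp only [Matrix.mulVec_zero, Matrix.zero_mulVec, add_zero]

/-- the isometry on an invariant nondegenerate subspace -/
theorem exists_good_on (hset : Setting F r i) {U : Submodule F (ι → F)} {n : ℕ} (hU : NdOn (pB Q) U)
    (hn : finrank F U = 2 * n) {M : Matrix ι ι F} (hMQ : ∀ v, Q (M.mulVec v) = Q v) (hMr : M ^ r = 1)
    (hUi : U.map (Matrix.toLin' M) ≤ U) :
    ∃ (t : Multiset F[X]) (A : Matrix (Fin (2 * n)) (Fin (2 * n)) F), Good r (2 * n) t ∧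
      OrthRealise.IsoDatum r t (coordQ Q (coord hn)) A ∧
      ∀ x, (coord hn (A.mulVec x) : ι → F) = Matrix.toLin' M (coord hn x : ι → F) := by
  set f := Matrix.toLin' M with hf
  let L := coord hn
  let g : Module.End F (Fin (2 * n) → F) :=
    L.symm.toLinearMap ∘ₗ (f.restrict fun v hv => hUi ⟨v, hv, rfl⟩) ∘ₗ L.toLinearMap
  have hg : ∀ x, (L (g x) : ι → F) = f (L x : ι → F) := fun x => by
    show ((L (L.symm _)) : ι → F) = _
    rw [L.apply_symm_apply]
    rfl
  set A := LinearMap.toMatrix' g with hA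
  have hAg : ∀ x, A.mulVec x = g x := fun x => by rw [hA, ← Matrix.toLin'_apply, Matrix.toLin'_toMatrix']
  have hgp : ∀ (k : ℕ) x, (L ((g ^ k) x) : ι → F) = (f ^ k) (L x : ι → F) := fun k => by
    induction k with
    | zero => simp
    | succ k ih => intro x; rw [pow_succ', pow_succ', Module.End.mul_apply, Module.End.mul_apply, hg, ih]
  obtain ⟨t, ht, hd⟩ := OrthPrimeClasses.exists_good hset (coordQ_nondeg hU L) (A := A)
    (fun x => by rw [hAg, coordQ_apply, coordQ_apply, hg, hf, Matrix.toLin'_apply, hMQ]) (by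
      have e : g ^ r = 1 := LinearMap.ext fun x => L.injective (Subtype.ext (by
        rw [hgp, hf, ← Matrix.toLin'_pow, hMr, Matrix.toLin'_one]; rfl))
      exact Matrix.toLin'.injective (by
        rw [Matrix.toLin'_pow, hA, Matrix.toLin'_toMatrix', e, Matrix.toLin'_one]; rfl))
  rw [Fintype.card_fin] at ht
  exact ⟨t, A, ht, hd, fun x => by rw [hAg, hg]⟩

/-- a totally singular invariant subspace splits the multiset -/
theorem split_of_fixed (hset : Setting F r i) {m n d : ℕ} (hcard : Fintype.card ι = 2 * d) (hmn : m + n = d)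
    {s : Multiset F[X]} (hs : Good r (2 * d) s) {M : Matrix ι ι F} (hM : OrthRealise.IsoDatum r s Q M)
    {W : Submodule F (ι → F)} (hWd : finrank F W = m) (hWts : ∀ w ∈ W, Q w = 0)
    (hWi : W.map (Matrix.toLin' M) ≤ W) :
    ∃ t u, s = t + t.map (StarFactor.star r) + u ∧ Admissible r m 1 t ∧ Good r (2 * n) u ∧
      (X - C 1 ∉ u → (IsPlus Q d ↔ Odd i ∨ Even (2 * n / i))) := by
  classical
  have hB := pB_refl Q
  have := Fact.mk hset.prime
  set f := Matrix.toLin' M with hf
  have hfr : ∀ v, (f ^ r) v = v := fun v => by rw [hf, ← Matrix.toLin'_pow, hM.pow, Matrix.toLin'_one]; rfl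
  have hinj : Function.Injective f := fun u v h => by
    have := congrArg (f ^ (r - 1)) h
    rwa [← Module.End.mul_apply, ← Module.End.mul_apply, ← pow_succ, Nat.sub_add_cancel hset.prime.one_le,
      hfr, hfr] at this
  have hfQ : ∀ v, Q (f v) = Q v := fun v => by rw [hf, Matrix.toLin'_apply, hM.pres]
  have hiso : ∀ u v, pB Q (f u) (f v) = pB Q u v := fun u v => by
    simp only [QuadraticMap.polarBilin_apply_apply, QuadraticMap.polar, ← map_add, hfQ]
  have hss : Module.End.IsSemisimple f :=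
    isSemisimple_of_pow (c := 1) (fun v => by rw [hfr, one_smul]) hset.cast_ne one_ne_zero
  have hI := TsCount.iso_of_sing hWts
  obtain ⟨R, -, hR, hRi, hort, -, hsum⟩ := Refl.exists_middle hB hiso hinj hss (ndOn_top hM.nd) le_top le_top hWi hI
  rw [finrank_top, Module.finrank_pi, hcard, hWd] at hsum
  have hRd : finrank F R = 2 * n := by omega
  obtain ⟨hP, ho, hsupP, hdimP⟩ := perp_nd hB (ndOn_top hM.nd) hR le_top
  rw [finrank_top, Module.finrank_pi, hcard, hRd] at hdimP
  set P := (⊤ : Submodule F (ι → F)) ⊓ (pB Q).orthogonal R with hPdef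
  have hPd : finrank F P = 2 * m := by omega
  have hPi : P.map f ≤ P := perp_inv' hiso hinj le_top hRi
  have hWP : W ≤ P := fun s hs => mem_perp.2 ⟨Submodule.mem_top, fun x hx => Refl.orthTo_symm hB hort x hx s hs⟩
  have hPp : QPlus Q P := ⟨W, hWP, hWts, by rw [hPd, hWd]⟩
  obtain ⟨W', hW'i, hW'P, hd, hsupW, hdimW⟩ := exists_compl hss hWi hPi hWP
  rw [hWd, hPd] at hdimW
  obtain ⟨u, D, hu, hdD, hD⟩ := exists_good_on hset hR hRd hM.pres hM.pow hRi
  let bW : Basis (Fin m) F W := Module.finBasisOfFinrankEq F W hWd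
  let h := f.restrict fun v hv => hWi ⟨v, hv, rfl⟩
  let k := f.restrict fun v hv => hW'i ⟨v, hv, rfl⟩
  let A := LinearMap.toMatrix bW bW h
  have hAr : A ^ r = 1 := by
    have e : h ^ r = 1 := LinearMap.ext fun x => Subtype.ext (by
      rw [Module.End.pow_restrict r, LinearMap.restrict_coe_apply, hfr]; rfl)
    show (LinearMap.toMatrixAlgEquiv bW h) ^ r = 1
    rw [← map_pow, e, map_one]
  obtain ⟨t, ht, htc⟩ := PowScalarClasses.admissible_factors hset.cast_ne one_ne_zero
    (show A ^ r = (1 : F) • 1 by rw [one_smul, hAr])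
  have hhc : h.charpoly = t.prod := by rw [← LinearMap.charpoly_toMatrix h bW]; exact htc
  -- the pairing of the two halves
  let Ψ : W' →ₗ[F] Module.Dual F W := ((pB Q).compl₁₂ W'.subtype W.subtype)
  have hΨ : ∀ x y, Ψ x y = pB Q (x : ι → F) (y : ι → F) := fun x y => rfl
  have hΨi : Function.Injective Ψ := (injective_iff_map_eq_zero Ψ).2 fun x hx => by
    have h1 := Refl.perp_dim hB hP hWP
    have h2 : W = P ⊓ (pB Q).orthogonal W := Submodule.eq_of_le_of_finrank_le
      (fun a ha => mem_perp.2 ⟨hWP ha, fun b hb => hI b hb a ha⟩) (by omega)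
    refine Subtype.ext (Submodule.disjoint_def.1 hd _ ?_ x.2)
    rw [h2]
    refine mem_perp.2 ⟨hW'P x.2, fun b hb => hB _ _ ?_⟩
    have := congrArg (fun φ => φ ⟨b, hb⟩) hx
    simpa [hΨ] using this
  let Ψe : W' ≃ₗ[F] Module.Dual F W := LinearEquiv.ofBijective Ψ ⟨hΨi,
    (LinearMap.injective_iff_surjective_of_finrank_eq_finrank
      (by rw [Subspace.dual_finrank_eq, hWd]; omega)).1 hΨi⟩
  have hconj : Ψe.conj k = (h ^ (r - 1)).dualMap := by
    refine LinearMap.ext fun φ => LinearMap.ext fun y => ?_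
    obtain ⟨x, rfl⟩ := Ψe.surjective φ
    rw [LinearEquiv.conj_apply_apply, LinearEquiv.symm_apply_apply, LinearMap.dualMap_apply]
    show Ψ (k x) y = Ψ x ((h ^ (r - 1)) y)
    rw [hΨ, hΨ, Module.End.pow_restrict (r - 1), LinearMap.restrict_coe_apply]
    conv_lhs => rw [← hfr (y : ι → F), show r = r - 1 + 1 from (Nat.sub_add_cancel hset.prime.one_le).symm,
      pow_succ', Module.End.mul_apply]
    rw [LinearMap.restrict_coe_apply, hiso]
  have hkc : k.charpoly = (t.map (StarFactor.star r)).prod := by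
    rw [← LinearEquiv.charpoly_conj Ψe k, hconj, ← LinearMap.charpoly_toMatrix _ bW.dualBasis,
      show (h ^ (r - 1)).dualMap = Module.Dual.transpose (R := F) (h ^ (r - 1)) from rfl,
      LinearMap.toMatrix_transpose, Matrix.charpoly_transpose,
      show LinearMap.toMatrix bW bW (h ^ (r - 1)) = A ^ (r - 1) from map_pow (LinearMap.toMatrixAlgEquiv bW) h _]
    exact StarFactor.charpoly_inv_of hset.cast_ne hAr ht htc
  -- the whole space
  let c : ((W × W') × R) →ₗ[F] (ι → F) := (W.subtype.coprod W'.subtype).coprod R.subtype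
  have hcsurj : Function.Surjective c := fun v => by
    obtain ⟨b, hb, a, ha, rfl⟩ := Submodule.mem_sup.1 (hsupP.symm ▸ (Submodule.mem_top : v ∈ ⊤))
    rw [← hsupW] at ha
    obtain ⟨w, hw, w', hw', rfl⟩ := Submodule.mem_sup.1 ha
    exact ⟨((⟨w, hw⟩, ⟨w', hw'⟩), ⟨b, hb⟩), by simp [c, add_comm, add_left_comm]⟩
  let ce : ((W × W') × R) ≃ₗ[F] (ι → F) := LinearEquiv.ofBijective c
    ⟨(LinearMap.injective_iff_surjective_of_finrank_eq_finrank (by
      rw [Module.finrank_prod, Module.finrank_prod, Module.finrank_pi, hcard, hWd, hRd]; omega)).2 hcsurj, hcsurj⟩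
  let kR := f.restrict fun v hv => hRi ⟨v, hv, rfl⟩
  have hint : ce.conj ((h.prodMap k).prodMap kR) = f := LinearMap.ext fun v => by
    obtain ⟨x, rfl⟩ := ce.surjective v
    rw [LinearEquiv.conj_apply_apply, LinearEquiv.symm_apply_apply]
    show ((f (x.1.1 : ι → F) + f (x.1.2 : ι → F)) + f (x.2 : ι → F)) =
      f (((x.1.1 : ι → F) + (x.1.2 : ι → F)) + (x.2 : ι → F))
    rw [map_add, map_add]
  have hRc : kR.charpoly = u.prod := by
    rw [← hdD.char, ← Matrix.charpoly_toLin' D, ← LinearEquiv.charpoly_conj (coord hRd)]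
    congr 1
    refine LinearMap.ext fun y => Subtype.ext ?_
    obtain ⟨x, rfl⟩ := (coord hRd).surjective y
    rw [LinearEquiv.conj_apply_apply, LinearEquiv.symm_apply_apply, Matrix.toLin'_apply, hD]
    rfl
  refine ⟨t, u, PowScalarClasses.eq_of_prod_eq hs.1 ⟨fun y hy => ?_, ?_⟩ ?_, ht, hu, fun hz => ?_⟩
  · rcases Multiset.mem_add.1 hy with hy | hy
    rcases Multiset.mem_add.1 hy with hy | hy
    · exact ht.1 y hy
    · obtain ⟨z, hz, rfl⟩ := Multiset.mem_map.1 hy
      by_cases hz1 : z = X - C 1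
      · subst hz1
        rw [StarFactor.star_X_sub_one hset.cast_ne]
        exact ht.1 _ hz
      · have hzf := ((⟨(ht.1 z hz).1, (ht.1 z hz).2.1, (ht.1 z hz).2.2, hz1⟩ : StarFactor.Fac r z).star_fac
          hset.cast_ne hset.deg).1
        exact ⟨hzf.monic, hzf.irr, hzf.dvd⟩
    · exact hu.1.1 y hy
  · rw [Multiset.map_add, Multiset.map_add, Multiset.sum_add, Multiset.sum_add, hu.1.2, ht.2, Multiset.map_map,
      Multiset.map_congr rfl (g := natDegree) fun z hz => ?_, ht.2]
    · omega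
    show (StarFactor.star r z).natDegree = z.natDegree
    by_cases hz1 : z = X - C 1
    · subst hz1; rw [StarFactor.star_X_sub_one hset.cast_ne]
    · have hzf : StarFactor.Fac r z := ⟨(ht.1 z hz).1, (ht.1 z hz).2.1, (ht.1 z hz).2.2, hz1⟩
      rw [hset.deg z hzf, hset.deg _ (hzf.star_fac hset.cast_ne hset.deg).1]
  · rw [← hM.char, ← Matrix.charpoly_toLin' M, ← hf, ← hint, LinearEquiv.charpoly_conj,
      LinearMap.charpoly_prodMap, LinearMap.charpoly_prodMap, hhc, hkc, hRc, Multiset.prod_add, Multiset.prod_add]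
  · rw [← qplus_top hcard, type_sum hcard hR hP ho hsupP hRd hPd, iff_true_right hPp,
      ← isPlus_coordQ (coord hRd) (Fintype.card_fin _),
      OrthPrimeClasses.type_of_datum hset (Fintype.card_fin _) hdD hu hz]

end Cfsg.Agent.Classical.IsoInvariant.TsFree
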