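import Mathlib
import Cfsg.Agent.Lib.Classical.IsoInvariant.TsFree
import Cfsg.Agent.Lib.Classical.IsoInvariant.TsArith
import Cfsg.Agent.Lib.Classical.IsoInvariant.FreeSplit

/-!
# When every element of odd prime order fixes a totally singular subspace
-/

set_option autoImplicit false
set_option linter.unusedSectionVars false

namespace Cfsg.Agent.Classical.IsoInvariant.TsElt

open Module Polynomial
open Cfsg.Agent.Forms
open Cfsg.Agent.Forms.Elusive Cfsg.Agent.Forms.Elusive.Pieces
open Cfsg.Agent.Classical.StarFactor (Fac)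
open Cfsg.Agent.Classical.OrthTypes
open Cfsg.Agent.Classical.IsoInvariant.NdType Cfsg.Agent.Classical.IsoInvariant.EvenDim
open Cfsg.Agent.Classical.IsoInvariant.QuadNd
open Cfsg.Agent.Classical.OrthPrimeClasses (Setting Good)

variable {F : Type*} [Field F] [Fintype F] {ι : Type} [Fintype ι] [DecidableEq ι]
  {Q : QuadraticForm F (ι → F)}

/-- every element of order `r` modulo scalars fixes a totally singular `m`-space -/
def AllFix (Q : QuadraticForm F (ι → F)) (m r : ℕ) : Prop :=
  ∀ x : GL ι F, x ∈ Cfsg.Geo.omegaGL ⇑Q →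
    (∃ z : F, ((x ^ r : GL ι F) : Matrix ι ι F) = z • (1 : Matrix ι ι F)) →
    (∀ z : F, (x : Matrix ι ι F) ≠ z • (1 : Matrix ι ι F)) →
    ∃ W : Submodule F (ι → F), (finrank F W = m ∧ ∀ w ∈ W, Q w = 0) ∧
      W.map (Matrix.toLin' (x : Matrix ι ι F)) ≤ W

variable {r i : ℕ}

/-- disjoint pairs inside an invariant multiset -/
theorem exists_pairs (hset : Setting F r i) {P : Finset F[X]} (hP : ∀ x, x ∈ P ↔ Fac r x) :
    ∀ (j : ℕ) {S : Multiset F[X]}, (∀ p ∈ S, Fac r p) → S.map (StarFactor.star r) = S →
      j ≤ TsArith.pairs i P.card (Multiset.card S) →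
      ∃ b u, S = b + b.map (StarFactor.star r) + u ∧ Multiset.card b = j ∧
        u.map (StarFactor.star r) = u := by
  classical
  intro j
  induction j with
  | zero => exact fun {S} _ hinv _ => ⟨0, S, by simp, rfl, hinv⟩
  | succ j ih =>
    intro S hS hinv hj
    have := Fact.mk hset.prime
    obtain ⟨p, hp, T, hST⟩ : ∃ p, Fac r p ∧ ∃ T, S = p ::ₘ StarFactor.star r p ::ₘ T := by
      rcases Nat.even_or_odd i with hev | hodd
      · rw [TsArith.pairs, if_pos hev] at hj
        have hfix : ∀ x, Fac r x → StarFactor.star r x = x := fun x hx =>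
          (hx.star_eq_iff hset.cast_ne hset.ne_two hset.deg).2 hev
        obtain ⟨p, hp, hp2⟩ : ∃ p ∈ S, 2 ≤ S.count p := by
          by_contra hcon
          push Not at hcon
          have hn : S.Nodup := Multiset.nodup_iff_count_le_one.2 fun x => by
            by_cases hx : x ∈ S
            · exact Nat.lt_succ_iff.1 (hcon x hx)
            · rw [Multiset.count_eq_zero.2 hx]; omega
          have := Finset.card_le_card (show (⟨S, hn⟩ : Finset F[X]) ⊆ P from fun x hx => (hP x).2 (hS x hx))
          rw [Finset.card_mk] at this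
          omega
        obtain ⟨T, hT⟩ := Multiset.le_iff_exists_add.1 (Multiset.le_count_iff_replicate_le.1 hp2)
        exact ⟨p, hS p hp, T, by rw [hfix p (hS p hp), hT]; simp [Multiset.replicate_succ]⟩
      · rw [TsArith.pairs, if_neg (Nat.not_even_iff_odd.2 hodd)] at hj
        obtain ⟨p, hp⟩ : ∃ p, p ∈ S := Multiset.exists_mem_of_ne_zero fun e => by
          rw [e, Multiset.card_zero] at hj; omega
        have hne : StarFactor.star r p ≠ p := fun e =>
          Nat.not_even_iff_odd.2 hodd (((hS p hp).star_eq_iff hset.cast_ne hset.ne_two hset.deg).1 e)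
        have hs' : StarFactor.star r p ∈ S := by rw [← hinv]; exact Multiset.mem_map_of_mem _ hp
        obtain ⟨T, rfl⟩ := Multiset.exists_cons_of_mem hp
        obtain ⟨T', rfl⟩ := Multiset.exists_cons_of_mem ((Multiset.mem_cons.1 hs').resolve_left hne)
        exact ⟨p, hS p hp, T', rfl⟩
    subst hST
    have hss : StarFactor.star r (StarFactor.star r p) = p := (hp.star_fac hset.cast_ne hset.deg).2
    rw [Multiset.map_cons, Multiset.map_cons, hss, Multiset.cons_swap, Multiset.cons_inj_right,
      Multiset.cons_inj_right] at hinv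
    obtain ⟨b, u, rfl, hb, hu⟩ := ih (fun x hx => hS x (Multiset.mem_cons_of_mem (Multiset.mem_cons_of_mem hx)))
      hinv (by
        simp only [TsArith.pairs, Multiset.card_cons] at hj ⊢
        split_ifs with hev <;> simp only [hev, if_true, if_false] at hj <;> omega)
    refine ⟨p ::ₘ b, u, ?_, by rw [Multiset.card_cons, hb], hu⟩
    simp [Multiset.map_cons, Multiset.cons_add, Multiset.add_cons]
    rw [Multiset.cons_swap]

/-- a test multiset with as few pairs as possible -/
theorem exists_test (hset : Setting F r i) {P : Finset F[X]} (hP : ∀ x, x ∈ P ↔ Fac r x) (hP0 : 0 < P.card)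
    {a : ℕ} (ha : 0 < a) (hev : Odd i → Even a) :
    ∃ S : Multiset F[X], (∀ p ∈ S, Fac r p) ∧ S.map (StarFactor.star r) = S ∧ Multiset.card S = a ∧
      ∀ b u, S = b + b.map (StarFactor.star r) + u → Multiset.card b ≤ TsArith.pairs i P.card a := by
  classical
  have := Fact.mk hset.prime
  obtain ⟨p₀, hp₀⟩ := Finset.card_pos.1 hP0
  rcases Nat.even_or_odd i with he | hodd
  · have hfix : ∀ x, Fac r x → StarFactor.star r x = x := fun x hx =>
      (hx.star_eq_iff hset.cast_ne hset.ne_two hset.deg).2 he
    obtain ⟨T, hT0, hTP, hTc⟩ := Finset.exists_subsuperset_card_eq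
      (Finset.singleton_subset_iff.2 hp₀) (n := min a P.card) (by rw [Finset.card_singleton]; omega) (min_le_right _ _)
    have hS : ∀ x ∈ T.val + Multiset.replicate (a - P.card) p₀, Fac r x := fun x hx => by
      rcases Multiset.mem_add.1 hx with hx | hx
      · exact (hP x).1 (hTP hx)
      · rw [Multiset.eq_of_mem_replicate hx]; exact (hP p₀).1 hp₀
    refine ⟨_, hS, by rw [Multiset.map_congr rfl fun x hx => hfix x (hS x hx), Multiset.map_id'],
      by rw [Multiset.card_add, Multiset.card_replicate, Finset.card_val, hTc]; omega, fun b u h => ?_⟩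
    rw [TsArith.pairs, if_pos he]
    have hb : ∀ x ∈ b, Fac r x := fun x hx => hS x (h ▸ Multiset.mem_add.2 (Or.inl (Multiset.mem_add.2 (Or.inl hx))))
    rw [Multiset.map_congr rfl fun x hx => hfix x (hb x hx), Multiset.map_id'] at h
    have hb0 : ∀ x ∈ b, x = p₀ := fun x hx => by
      by_contra hne
      have h1 := congrArg (Multiset.count x) h
      simp only [Multiset.count_add] at h1
      have h4 : ¬ p₀ = x := fun e => hne e.symm
      rw [Multiset.count_replicate, if_neg h4] at h1
      have h2 := Multiset.count_pos.2 hx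
      have h3 := Multiset.nodup_iff_count_le_one.1 T.nodup x
      omega
    have h1 := congrArg (Multiset.count p₀) h
    rw [Multiset.count_add, Multiset.count_add, Multiset.count_add, Multiset.count_replicate_self,
      Multiset.count_eq_card.2 (fun x hx => (hb0 x hx).symm)] at h1
    have h3 := Multiset.nodup_iff_count_le_one.1 T.nodup p₀
    rcases Nat.lt_or_ge a P.card with hlt | hge <;> omega
  · obtain ⟨a, rfl⟩ := (hev hodd).two_dvd
    obtain ⟨hQs, hQss⟩ := ((hP p₀).1 hp₀).star_fac hset.cast_ne hset.deg
    refine ⟨Multiset.replicate a p₀ + Multiset.replicate a (StarFactor.star r p₀), fun x hx => ?_, ?_, ?_,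
      fun b u h => ?_⟩
    · rcases Multiset.mem_add.1 hx with hx | hx <;> rw [Multiset.eq_of_mem_replicate hx]
      exacts [(hP p₀).1 hp₀, hQs]
    · rw [Multiset.map_add, Multiset.map_replicate, Multiset.map_replicate, hQss, add_comm]
    · rw [Multiset.card_add, Multiset.card_replicate, Multiset.card_replicate, two_mul]
    · have h1 := congrArg Multiset.card h
      simp only [Multiset.card_add, Multiset.card_replicate, Multiset.card_map] at h1
      rw [TsArith.pairs, if_neg (Nat.not_even_iff_odd.2 hodd)]
      omega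

theorem admissible_of_parts (hset : Setting F r i) {b : Multiset F[X]} (hb : ∀ p ∈ b, Fac r p) {l m : ℕ}
    (h : l + i * Multiset.card b = m) :
    PowScalarClasses.Admissible r m 1 (Multiset.replicate l (X - C (1 : F)) + b) := by
  refine ⟨fun q hq => ?_, ?_⟩
  · rcases Multiset.mem_add.1 hq with hq | hq
    · rw [Multiset.eq_of_mem_replicate hq]
      exact ⟨monic_X_sub_C 1, irreducible_X_sub_C 1, by rw [map_one]; exact sub_one_dvd_pow_sub_one _ _⟩
    · exact ⟨(hb q hq).monic, (hb q hq).irr, (hb q hq).dvd⟩
  · rw [Multiset.map_add, Multiset.sum_add, Multiset.map_replicate, natDegree_X_sub_C, Multiset.sum_replicate,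
      smul_eq_mul, mul_one, Multiset.map_congr rfl fun p hp => hset.deg p (hb p hp), Multiset.map_const',
      Multiset.sum_replicate, smul_eq_mul, mul_comm, h]

theorem even_double_add (b u : ℕ) : Even (b + b + u) ↔ Even u := by simp only [Nat.even_iff]; omega

/-- the criterion -/
theorem allFix_iff (hset : Setting F r i) {P : Finset F[X]} (hP : ∀ x, x ∈ P ↔ Fac r x) (hP0 : 0 < P.card)
    (hQ : (QuadraticMap.polarBilin Q).Nondegenerate) {d m : ℕ} (hd : 3 ≤ d) (hcard : Fintype.card ι = 2 * d)
    (hmd : m < d) : AllFix Q m r ↔ TsArith.AllOk (IsPlus Q d) i P.card d m := by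
  classical
  have := Fact.mk hset.prime
  have : Nonempty ι := Fintype.card_pos_iff.1 (by omega)
  have hodd : Odd r := hset.prime.odd_of_ne_two hset.ne_two
  have hi0 := OrthPrimeClasses.ne_of_pos hset
  constructor
  · intro H f a hfa ha hev hf0
    obtain ⟨S, hS, hinv, hSc, hSb⟩ := exists_test hset hP hP0 ha hev
    have hgood := FreeSplit.good_of_parts hset hS hinv (l := f) (n := 2 * d) (by rw [hSc]; exact hfa)
    obtain ⟨M, hM⟩ := OrthPrimeClasses.exists_datum_even hset hcard hQ hgood (by
      rcases Nat.eq_zero_or_pos f with h0 | h0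
      · refine Or.inr ((hf0 h0).trans ?_)
        rw [h0, zero_add] at hfa
        rw [← hfa, Nat.mul_div_cancel_left _ hi0]
      · exact Or.inl (Multiset.mem_add.2 (Or.inl (Multiset.mem_replicate.2 ⟨h0.ne', rfl⟩))))
    obtain ⟨x, hx, hxM⟩ := OrthRealise.exists_elt hset.prime.pos ⇑Q M hM.pres hM.pow
    obtain ⟨W, ⟨hWd, hWts⟩, hWi⟩ := H x ⟨x, mem_omega_of_odd hQ (by omega) hodd hx, rfl⟩
      ⟨1, by rw [← SubmonoidClass.coe_pow, hx, OneMemClass.coe_one, Units.val_one, one_smul]⟩
      fun z hz => by
        rw [hxM] at hz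
        have hzz : z * z = 1 := scalar_sq hQ (g := Matrix.toLin' M) (fun v => hM.pres v) fun v => by
          rw [Matrix.toLin'_apply, hz, Matrix.smul_mulVec, Matrix.one_mulVec]
        obtain ⟨e⟩ : Nonempty ι := inferInstance
        have hzr : z ^ r = 1 := by
          have h1 := congrArg (fun N : Matrix ι ι F => N e e) hM.pow
          simpa [hz, _root_.smul_pow] using h1
        obtain ⟨u, hu⟩ := hodd
        rw [hu, pow_succ, pow_mul, sq, hzz, one_pow, one_mul] at hzr
        rw [hzr, one_smul] at hz
        have h1 := hM.char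
        rw [hz, Matrix.charpoly_one] at h1
        obtain ⟨q, hq⟩ : ∃ q, q ∈ S := Multiset.exists_mem_of_ne_zero fun e => by
          rw [e, Multiset.card_zero] at hSc; omega
        have h2 : q ∣ (X - 1 : F[X]) ^ Fintype.card ι :=
          h1 ▸ Multiset.dvd_prod (Multiset.mem_add.2 (Or.inr hq))
        refine (hS q hq).ne (eq_of_monic_of_associated (hS q hq).monic (monic_X_sub_C 1) ?_)
        exact (hS q hq).irr.associated_of_dvd (irreducible_X_sub_C 1)
          (by rw [map_one]; exact (hS q hq).irr.prime.dvd_of_dvd_pow h2)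
    rw [hxM] at hWi
    obtain ⟨t, u, hss, ht, hu, htype⟩ := TsFree.split_of_fixed hset hcard (m := m) (n := d - m) (by omega) hgood hM
      hWd hWts hWi
    obtain ⟨g, u', hu', huf, -, hun, hg0⟩ := OrthPrimeClasses.split hset hu
    set l := t.count (X - C 1) with hl
    set b := t.filter fun z => z ≠ X - C 1 with hb
    have htb : t = Multiset.replicate l (X - C 1) + b := by
      rw [hl, hb, ← Multiset.filter_eq', Multiset.filter_add_not]
    have hbf : ∀ z ∈ b, Fac r z := fun z hz => by
      obtain ⟨hz, hne⟩ := Multiset.mem_filter.1 hz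
      exact ⟨(ht.1 z hz).1, (ht.1 z hz).2.1, (ht.1 z hz).2.2, hne⟩
    have hdeg := ht.2
    rw [htb, Multiset.map_add, Multiset.sum_add, Multiset.map_replicate, natDegree_X_sub_C, Multiset.sum_replicate,
      smul_eq_mul, mul_one, Multiset.map_congr rfl fun p hp => hset.deg p (hbf p hp), Multiset.map_const',
      Multiset.sum_replicate, smul_eq_mul, mul_comm] at hdeg
    have hsum : Multiset.replicate f (X - C 1) + S =
        Multiset.replicate (l + l + g) (X - C 1) + (b + b.map (StarFactor.star r) + u') := by
      rw [hss, htb, hu', Multiset.map_add, Multiset.map_replicate, StarFactor.star_X_sub_one hset.cast_ne,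
        Multiset.replicate_add, Multiset.replicate_add]
      abel
    have hnot : ∀ {v : Multiset F[X]}, (∀ p ∈ v, Fac r p) → v.count (X - C 1) = 0 := fun hv =>
      Multiset.count_eq_zero.2 fun h => (hv _ h).ne rfl
    have hfl : f = l + l + g := by
      have h1 := congrArg (Multiset.count (X - C (1 : F))) hsum
      simp only [Multiset.count_add, Multiset.count_replicate_self] at h1
      rw [hnot hS, hnot hbf, hnot huf, hnot (v := b.map (StarFactor.star r)) fun p hp => by
        obtain ⟨z, hz, rfl⟩ := Multiset.mem_map.1 hp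
        exact ((hbf z hz).star_fac hset.cast_ne hset.deg).1] at h1
      omega
    rw [← hfl, add_right_inj] at hsum
    have hcards : a = Multiset.card b + Multiset.card b + Multiset.card u' := by
      rw [← hSc, hsum, Multiset.card_add, Multiset.card_add, Multiset.card_map]
    refine ⟨Multiset.card b, hSb b u' hsum, by omega, by omega, fun h => ?_⟩
    rw [htype (hg0.1 (by omega))]
    rw [show 2 * (d - m) / i = Multiset.card u' by
      rw [hun, show g = 0 by omega, zero_add, Nat.mul_div_cancel_left _ hi0]]
    rw [hcards, even_double_add]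
  · intro H x hx hxr _
    obtain ⟨M, hMQ, hMr, hMi⟩ := QuadNd.exists_lift hQ hodd hx hxr
    obtain ⟨s, hs, hdat⟩ := OrthPrimeClasses.exists_good hset hQ hMQ hMr
    rw [hcard] at hs
    obtain ⟨f, j₀, S, hst, hS, hinv, -, hf0, hcS, hT⟩ := FreeSplit.shape hset rfl hs
    obtain ⟨f', S', hst', hS', -, hn', -⟩ := OrthPrimeClasses.split hset hs
    have hnot : ∀ {v : Multiset F[X]}, (∀ p ∈ v, Fac r p) → v.count (X - C 1) = 0 := fun hv =>
      Multiset.count_eq_zero.2 fun h => (hv _ h).ne rfl
    have hfa : f + i * Multiset.card S = 2 * d := by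
      have h1 := congrArg (Multiset.count (X - C (1 : F))) (hst.symm.trans hst')
      simp only [Multiset.count_add, Multiset.count_replicate_self] at h1
      rw [hnot hS, hnot hS'] at h1
      have h2 := congrArg Multiset.card (hst.symm.trans hst')
      simp only [Multiset.card_add, Multiset.card_replicate] at h2
      rw [show Multiset.card S = Multiset.card S' by omega, show f = f' by omega, hn']
    have hevS : Odd i → Even (Multiset.card S) := fun ho => by
      rw [if_neg (Nat.not_even_iff_odd.2 ho), mul_assoc, mul_left_comm] at hcS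
      exact ⟨j₀, (Nat.eq_of_mul_eq_mul_left hi0 hcS).trans (two_mul j₀)⟩
    obtain ⟨j, hjJ, hjm, hjf, hje⟩ : TsArith.Ok (IsPlus Q d) i m f (Multiset.card S)
        (TsArith.pairs i P.card (Multiset.card S)) := by
      rcases Nat.eq_zero_or_pos (Multiset.card S) with h0 | h0
      · rw [h0] at hfa ⊢
        exact ⟨0, Nat.zero_le _, by simp, by omega, fun h => absurd h (by omega)⟩
      · refine H f _ hfa h0 hevS fun h => ?_
        have h1 := OrthPrimeClasses.type_of_datum hset hcard hdat hs (hf0.1 h)
        rwa [show 2 * d / i = Multiset.card S by rw [← hfa, h, zero_add, Nat.mul_div_cancel_left _ hi0]] at h1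
    obtain ⟨b, u, hSbu, hbj, hu⟩ := exists_pairs hset hP j hS hinv hjJ
    have hbf : ∀ p ∈ b, Fac r p := fun p hp =>
      hS p (hSbu ▸ Multiset.mem_add.2 (Or.inl (Multiset.mem_add.2 (Or.inl hp))))
    have huf : ∀ p ∈ u, Fac r p := fun p hp => hS p (hSbu ▸ Multiset.mem_add.2 (Or.inr hp))
    have hcards : Multiset.card S = j + j + Multiset.card u := by
      rw [hSbu, Multiset.card_add, Multiset.card_add, Multiset.card_map, hbj]
    have hmul : i * Multiset.card S = i * j + i * j + i * Multiset.card u := by rw [hcards, mul_add, mul_add]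
    obtain ⟨g, hg⟩ : ∃ g, f = (m - i * j) + (m - i * j) + g := ⟨f - 2 * (m - i * j), by omega⟩
    have ht := admissible_of_parts hset hbf (l := m - i * j) (m := m) (by rw [hbj]; omega)
    have hgu := FreeSplit.good_of_parts hset huf hu (l := g) (n := 2 * (d - m)) (by omega)
    obtain ⟨W, hW, hWi⟩ := TsFree.exists_fixed hset hQ hcard (by omega) ht hgu (M := M) (by
      have : s = Multiset.replicate (m - i * j) (X - C 1) + b +
          (Multiset.replicate (m - i * j) (X - C 1) + b).map (StarFactor.star r) + (Multiset.replicate g (X - C 1) + u) := by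
        rw [hst, hg, hSbu, Multiset.replicate_add, Multiset.replicate_add, Multiset.map_add, Multiset.map_replicate,
          StarFactor.star_X_sub_one hset.cast_ne]
        abel
      exact this ▸ hdat) (by
      rcases Nat.eq_zero_or_pos g with h0 | h0
      · refine Or.inr ((hje (by omega)).trans ?_)
        rw [show 2 * (d - m) = i * Multiset.card u by omega, Nat.mul_div_cancel_left _ hi0, hcards, even_double_add]
      · exact Or.inl (Multiset.mem_add.2 (Or.inl (Multiset.mem_replicate.2 ⟨h0.ne', rfl⟩))))
    exact ⟨W, hW, hMi W hWi⟩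

end Cfsg.Agent.Classical.IsoInvariant.TsElt
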