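import Mathlib
import Cfsg.Agent.Lib.Classical.IsoInvariant.TsElt
import Cfsg.Agent.Lib.Classical.IsoInvariant.EvenTypeTwo

/-!
# Elements of order two modulo scalars fixing totally singular subspaces, odd characteristic
-/

set_option autoImplicit false
set_option linter.unusedSectionVars false

namespace Cfsg.Agent.Classical.IsoInvariant.TsTwo

open Module
open Cfsg.Agent.Forms
open Cfsg.Agent.Forms.Elusive Cfsg.Agent.Forms.Elusive.Pieces
open Cfsg.Agent.Forms.Reflections (act act_mul act_one act_apply act_map act_polar)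
open Cfsg.Agent.Forms.QuadStd
open Cfsg.Agent.Classical.OmegaCrit Cfsg.Agent.Classical.OddOrthSpectrum
open Cfsg.Agent.Classical.OrthTypes
open Cfsg.Agent.Classical.IsoInvariant.NdType Cfsg.Agent.Classical.IsoInvariant.EvenDim
open Cfsg.Agent.Classical.IsoInvariant.QuadNd
open Cfsg.Agent.Classical.IsoInvariant.TsElt (AllFix)

variable {F : Type*} [Field F] [Fintype F] {ι : Type} [Fintype ι] [DecidableEq ι]
  {Q : QuadraticForm F (ι → F)}

theorem card_ne_two (h2 : (2 : F) ≠ 0) : Fintype.card F ≠ 2 := fun e => h2 (by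
  have := FiniteField.cast_card_eq_zero F
  rwa [e, Nat.cast_ofNat] at this)

theorem exists_le_finrank {V : Type*} [AddCommGroup V] [Module F V] [FiniteDimensional F V] (E : Submodule F V)
    {m : ℕ} (hm : m ≤ finrank F E) : ∃ U : Submodule F V, U ≤ E ∧ finrank F U = m := by
  let b := Module.finBasis F E
  let v : Fin m → V := fun a => (b (Fin.castLE hm a) : V)
  have hli : LinearIndependent F v :=
    (b.linearIndependent.comp _ (Fin.castLE_injective hm)).map' E.subtype (Submodule.ker_subtype _)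
  refine ⟨Submodule.span F (Set.range v), Submodule.span_le.2 ?_, by rw [finrank_span_eq_card hli, Fintype.card_fin]⟩
  rintro _ ⟨a, rfl⟩
  exact (b (Fin.castLE hm a)).2

/-- totally singular subspaces of a nondegenerate one -/
theorem exists_sing_sub (h2 : (2 : F) ≠ 0) {E : Submodule F (ι → F)} (hE : NdOn (pB Q) E) {a j : ℕ}
    (hd : finrank F E = 2 * a) (hj : j ≤ a) (hp : j = a → QPlus Q E) :
    ∃ U : Submodule F (ι → F), U ≤ E ∧ (∀ w ∈ U, Q w = 0) ∧ finrank F U = j := by
  rcases Nat.eq_or_lt_of_le hj with rfl | hlt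
  · obtain ⟨U, hUE, hU, hUd⟩ := hp rfl
    exact ⟨U, hUE, hU, by omega⟩
  · obtain ⟨U, hUE, hU, hUd⟩ := Refl.exists_iso (pB_symm Q) hE (j := j) (Or.inr (by omega))
    exact ⟨U, hUE, (EvenDim.iso_iff h2 U).1 hU, hUd⟩

/-- the negated space of an involution in `Ω` -/
theorem neg_type (hQ : (QuadraticMap.polarBilin Q).Nondegenerate) (h2 : (2 : F) ≠ 0)
    {g : Cfsg.isometryGroup F ⇑Q} (hg : g ∈ Cfsg.Omega F ⇑Q) {D U : Submodule F (ι → F)} (hD : NdOn (pB Q) D)
    (ho : OrthTo (pB Q) U D) (hsup : D ⊔ U = ⊤) (hneg : ∀ v ∈ D, act g v = -v) (hfix : ∀ v ∈ U, act g v = v) :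
    ∃ b, finrank F D = 2 * b ∧ (QPlus Q D ↔ IsSquare ((-1 : F) ^ b)) := by
  have hS := pB_symm Q
  have hh : Fintype.card F ≠ 2 ∨ Fintype.card ι ≠ 4 := Or.inl (card_ne_two h2)
  obtain ⟨δ, hδ⟩ := exists_hasDisc h2 hS hD
  obtain ⟨n, v, hspan, hvo, hvv, hprod⟩ := id hδ
  have hvD : ∀ a, v a ∈ D := fun a => hspan ▸ Submodule.subset_span ⟨a, rfl⟩
  have hne : ∀ a, Q (v a) ≠ 0 := fun a h => hvv a (by rw [pB_self, h, mul_zero])
  have hθ := theta_neg hQ hh g v hvo hne U (fun x hx a => pB_refl Q _ _ (ho x hx _ (hvD a)))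
    (by rw [hspan, hsup]) (fun a => hneg _ (hvD a)) hfix
  rw [(mem_omega_iff hQ hh g).1 hg] at hθ
  have h1 : (1 : ℤˣ) = (-1) ^ n := congrArg Prod.fst hθ
  have h3 : chi (∏ a, Q (v a)) = 1 := (congrArg Prod.snd hθ).symm
  obtain ⟨b, hb⟩ := neg_one_pow_eq_one_iff_even (by decide) |>.1 h1.symm
  subst hb
  have hDd : finrank F D = 2 * b := by
    rw [← hspan, finrank_span_eq_card (Bases.linearIndependent_of_orth hvo hvv), Fintype.card_fin]; omega
  obtain ⟨s, hs⟩ := chi_eq_one_iff.1 h3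
  have hδs : δ = (2 ^ b * s) * (2 ^ b * s) := by
    rw [← hprod, Finset.prod_congr rfl (fun a _ => pB_self (v a)), Finset.prod_mul_distrib, Finset.prod_const,
      Finset.card_fin, hs, pow_add]
    ring
  exact ⟨b, hDd, EvenTypeTwo.plus_iff_sq h2 hD hDd (δ := 2 ^ b * s) (fun e => hδ.ne_zero (by rw [hδs, e, mul_zero]))
    (hδs ▸ hδ)⟩

/-- involutions fix one -/
theorem exists_invol (hQ : (QuadraticMap.polarBilin Q).Nondegenerate) (h2 : (2 : F) ≠ 0) {d m : ℕ}
    (hcard : Fintype.card ι = 2 * d) (hmd : m < d) (hcond : IsPlus Q d → Fintype.card F % 4 = 3 → m + 2 ≤ d)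
    {g : Cfsg.isometryGroup F ⇑Q} (hg : g ∈ Cfsg.Omega F ⇑Q) (hgg : ∀ v, act g (act g v) = v)
    (hns : ∀ z : F, ¬ ∀ v, act g v = z • v) :
    ∃ W : Submodule F (ι → F), (finrank F W = m ∧ ∀ w ∈ W, Q w = 0) ∧ W.map (act g) ≤ W := by
  have hS := pB_symm Q
  have hB := pB_refl Q
  have : Fact (Nat.Prime 2) := ⟨Nat.prime_two⟩
  obtain ⟨hF0, D, hD, hDi, hort, hdis, hfree, hsum⟩ := Refl.fix_free (g := act g) (r := 2) hQ hB
    (fun u w => act_polar g u w) (by exact_mod_cast h2) rfl
    (LinearMap.ext fun v => by rw [sq, Module.End.mul_apply, hgg, Module.End.one_apply])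
  rw [Module.finrank_pi, hcard] at hsum
  have hneg : ∀ v ∈ D, act g v = -v := fun v hv =>
    eq_neg_of_add_eq_zero_left (hfree _ (add_mem (hDi ⟨v, hv, rfl⟩) hv) (by rw [map_add, hgg, add_comm]))
  have hsup : D ⊔ fixSp (act g) = ⊤ := Submodule.eq_top_of_finrank_eq (by
    rw [finrank_sup_of_disjoint hdis.symm, Module.finrank_pi, hcard]; omega)
  obtain ⟨b, hDd, hDt⟩ := neg_type hQ h2 hg hD hort hsup hneg fun v hv => mem_fixSp.1 hv
  obtain ⟨a, hFd⟩ : ∃ a, finrank F (fixSp (act g)) = 2 * a := ⟨d - b, by omega⟩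
  have hab : a + b = d := by omega
  have ha : 1 ≤ a := by
    by_contra h0
    have h1 : D = ⊤ := Submodule.eq_top_of_finrank_eq (by rw [Module.finrank_pi, hcard]; omega)
    exact hns (-1) fun v => by rw [hneg v (h1 ▸ Submodule.mem_top), neg_one_smul]
  have hb : 1 ≤ b := by
    by_contra h0
    have h1 : fixSp (act g) = ⊤ := Submodule.eq_top_of_finrank_eq (by rw [Module.finrank_pi, hcard]; omega)
    exact hns 1 fun v => by rw [mem_fixSp.1 (h1 ▸ Submodule.mem_top), one_smul]
  have htype := type_sum hcard hF0 hD hort (by rw [sup_comm, hsup]) hFd hDd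
  rw [qplus_top hcard] at htype
  obtain ⟨a', ha', hat, b', hb', hbt, hm'⟩ : ∃ a', a' ≤ a ∧ (a' = a → QPlus Q (fixSp (act g))) ∧ ∃ b', b' ≤ b ∧
      (b' = b → QPlus Q D) ∧ a' + b' = m := by
    by_cases hPD : QPlus Q D
    · exact ⟨min m (a - 1), by omega, fun h => absurd h (by omega), m - min m (a - 1), by omega, fun _ => hPD,
        by omega⟩
    by_cases hPF : QPlus Q (fixSp (act g))
    · exact ⟨m - min m (b - 1), by omega, fun _ => hPF, min m (b - 1), by omega, fun h => absurd h (by omega),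
        by omega⟩
    have hq3 : Fintype.card F % 4 = 3 := by
      by_contra hq
      exact hPD (hDt.2 ((FiniteField.isSquare_neg_one_iff.2 hq).pow _))
    have := hcond (htype.2 (iff_of_false hPF hPD)) hq3
    exact ⟨min m (a - 1), by omega, fun h => absurd h (by omega), m - min m (a - 1), by omega,
      fun h => absurd h (by omega), by omega⟩
  obtain ⟨U, hU, hUs, hUd⟩ := exists_sing_sub h2 hF0 hFd ha' hat
  obtain ⟨U', hU', hUs', hUd'⟩ := exists_sing_sub h2 hD hDd hb' hbt
  refine ⟨U ⊔ U', ⟨by rw [finrank_sup_of_disjoint (hdis.mono hU hU'), hUd, hUd', hm'], ?_⟩, inv_sup ?_ ?_⟩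
  · exact (EvenDim.iso_iff h2 _).1 (Refl.iso_sup hB ((EvenDim.iso_iff h2 U).2 hUs) ((EvenDim.iso_iff h2 U').2 hUs')
      fun u hu w hw => hort u (hU hu) w (hU' hw))
  · rintro _ ⟨v, hv, rfl⟩
    rw [mem_fixSp.1 (hU hv)]; exact hv
  · rintro _ ⟨v, hv, rfl⟩
    rw [hneg v (hU' hv)]; exact neg_mem hv

/-- an involution fixing no almost maximal one -/
theorem exists_derangement (hQ : (QuadraticMap.polarBilin Q).Nondegenerate) (h2 : (2 : F) ≠ 0) {d m : ℕ}
    (hcard : Fintype.card ι = 2 * d) (hd : 2 ≤ d) (hplus : IsPlus Q d) (hq : Fintype.card F % 4 = 3)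
    (hm : d ≤ m + 1) :
    ∃ g : Cfsg.isometryGroup F ⇑Q, g ∈ Cfsg.Omega F ⇑Q ∧ (∀ v, act g (act g v) = v) ∧
      (∀ z : F, ¬ ∀ v, act g v = z • v) ∧
      ¬ ∃ W : Submodule F (ι → F), (finrank F W = m ∧ ∀ w ∈ W, Q w = 0) ∧ W.map (act g) ≤ W := by
  have hS := pB_symm Q
  have hB := pB_refl Q
  obtain ⟨D, hDd, hD, hDt⟩ := TypeSplit.exists_of_type hQ hcard (a := 1) le_rfl (by omega) False
  rw [iff_false] at hDt
  obtain ⟨hP, ho, hsup, hdim⟩ := perp_nd hB (ndOn_top hQ) hD le_top
  rw [finrank_top, Module.finrank_pi, hcard, hDd] at hdim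
  set P := (⊤ : Submodule F (ι → F)) ⊓ (pB Q).orthogonal D with hPdef
  have hPd : finrank F P = 2 * (d - 1) := by omega
  have hPt : ¬ QPlus Q P := fun hp => hDt ((type_sum hcard hD hP ho hsup hDd hPd).1
    ((qplus_top hcard).2 hplus) |>.2 hp)
  obtain ⟨δ, hδ⟩ := exists_hasDisc h2 hS hD
  obtain ⟨n, v, hspan, hvo, hvv, hprod⟩ := id hδ
  have hn : n = 2 := by
    have := congrArg (fun S : Submodule F (ι → F) => finrank F S) hspan
    simp only [finrank_span_eq_card (Bases.linearIndependent_of_orth hvo hvv), Fintype.card_fin, hDd] at this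
    omega
  subst hn
  have hne : ∀ a, Q (v a) ≠ 0 := fun a h => hvv a (by rw [pB_self, h, mul_zero])
  have hvD : ∀ a, v a ∈ D := fun a => hspan ▸ Submodule.subset_span ⟨a, rfl⟩
  have hl : ∀ a ∈ List.ofFn v, Q a ≠ 0 := fun a ha => by
    rw [List.mem_ofFn] at ha; obtain ⟨i, rfl⟩ := ha; exact hne i
  obtain ⟨hA, hAn⟩ := act_prod_reflect (Q := Q) (List.ofFn v) hl (List.pairwise_ofFn.2 fun i j hij => hvo i j hij.ne)
  set g := ((List.ofFn v).map (reflect Q)).prod with hgdef
  have hfix : ∀ x ∈ P, act g x = x := fun x hx => hA x fun y hy => by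
    rw [List.mem_ofFn] at hy; obtain ⟨i, rfl⟩ := hy
    exact ho _ (hvD i) x hx
  have hneg : ∀ x ∈ D, act g x = -x := fun x hx => by
    rw [← hspan] at hx
    exact LinearMap.eqOn_span (R := F) (f := act g) (g := -LinearMap.id) (fun z hz => by
      obtain ⟨i, rfl⟩ := hz; exact hAn _ ((List.mem_ofFn).2 ⟨i, rfl⟩)) hx
  have hh : Fintype.card F ≠ 2 ∨ Fintype.card ι ≠ 4 := Or.inl (card_ne_two h2)
  have hdec : ∀ x, ∃ a ∈ D, ∃ b ∈ P, x = a + b := fun x => by
    obtain ⟨a, ha, b, hb, h⟩ := Submodule.mem_sup.1 (hsup.symm ▸ (Submodule.mem_top : x ∈ ⊤))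
    exact ⟨a, ha, b, hb, h.symm⟩
  refine ⟨g, ?_, fun x => ?_, fun z hz => ?_, ?_⟩
  · rw [mem_omega_iff hQ hh, hgdef, theta_list hQ hh _ hl, List.length_ofFn, List.map_ofFn, List.prod_ofFn,
      Prod.mk_eq_one, chi_eq_one_iff]
    refine ⟨by norm_num, ?_⟩
    have hδ' := hδ.ne_zero
    have hδ2 : δ = 2 * 2 * ∏ a, Q (v a) := by
      rw [← hprod, Finset.prod_congr rfl (fun a _ => pB_self (v a)), Finset.prod_mul_distrib, Finset.prod_const,
        Finset.card_fin, sq]
    have h1 : ¬ IsSquare (-δ) := fun hsq => hDt ((EvenDim.type_iff h2 D).2 ((plus_iff h2 hS hD hδ (by omega)).2 (by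
      simpa using hsq)))
    have hn1 : ¬ IsSquare (-1 : F) := by rw [FiniteField.isSquare_neg_one_iff]; omega
    obtain ⟨t, ht⟩ : IsSquare δ := by
      obtain ⟨t, ht⟩ := Bases.isSquare_mul_of_not hn1 h1
      exact ⟨t, by linear_combination ht⟩
    exact ⟨t / 2, by simp only [Function.comp_apply]; field_simp; linear_combination ht - hδ2⟩
  · obtain ⟨a, ha, b, hb, rfl⟩ := hdec x
    rw [map_add, hneg a ha, hfix b hb, map_add, map_neg, hneg a ha, neg_neg, hfix b hb]
  · have h0 : v 0 ≠ 0 := fun e => hne 0 (by rw [e, QuadraticMap.map_zero])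
    obtain ⟨y, hy, hy0⟩ := Submodule.exists_mem_ne_zero_of_ne_bot
      (show P ≠ ⊥ from fun e => by rw [e, finrank_bot] at hPd; omega)
    have e1 : z = -1 := by
      have := hz (v 0)
      rw [hneg _ (hvD 0), ← neg_one_smul F (v 0)] at this
      exact (smul_left_injective F h0 this).symm
    have e2 : z = 1 := by
      have := hz y
      rw [hfix _ hy] at this
      conv_lhs at this => rw [← one_smul F y]
      exact (smul_left_injective F hy0 this).symm
    exact h2 (by linear_combination e2.symm.trans e1)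
  · rintro ⟨W, ⟨hWd, hW⟩, hWi⟩
    have hWP : W ≤ P := fun w hw => by
      obtain ⟨a, ha, b, hb, rfl⟩ := hdec w
      have hw' := sub_mem hw (hWi ⟨_, hw, rfl⟩)
      rw [map_add, hneg a ha, hfix b hb, show a + b - (-a + b) = (2 : F) • a by rw [two_smul]; abel] at hw'
      have haW : a ∈ W := by simpa [smul_smul, h2] using W.smul_mem (2⁻¹ : F) hw'
      by_contra hcon
      refine hDt ⟨F ∙ a, (Submodule.span_singleton_le_iff_mem _ _).2 ha, fun u hu => ?_, ?_⟩
      · obtain ⟨c, rfl⟩ := Submodule.mem_span_singleton.1 hu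
        rw [QuadraticMap.map_smul, hW a haW, smul_zero]
      · have ha0 : a ≠ 0 := fun e => hcon (by rw [e, zero_add]; exact hb)
        rw [finrank_span_singleton ha0, hDd]
    obtain ⟨U, hU, hUd⟩ := exists_le_finrank W (m := d - 1) (by omega)
    exact hPt ⟨U, hU.trans hWP, fun u hu => hW u (hU hu), by omega⟩

/-- square roots of `-1` when `-1` is a square -/
theorem exists_root_one (h2 : (2 : F) ≠ 0) {d m : ℕ} (hcard : Fintype.card ι = 2 * d) (hmd : m < d)
    (hq : Fintype.card F % 4 ≠ 3) {g : Cfsg.isometryGroup F ⇑Q} (hgg : ∀ v, act g (act g v) = -v) :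
    ∃ W : Submodule F (ι → F), (finrank F W = m ∧ ∀ w ∈ W, Q w = 0) ∧ W.map (act g) ≤ W := by
  obtain ⟨j, hj⟩ := FiniteField.isSquare_neg_one_iff.2 hq
  let E : F → Submodule F (ι → F) := fun c => LinearMap.ker (act g - c • LinearMap.id)
  have hE : ∀ c v, v ∈ E c ↔ act g v = c • v := fun c v => by
    simp [E, sub_eq_zero]
  have hsup : E j ⊔ E (-j) = ⊤ := eq_top_iff.2 fun v _ => by
    have hj0 : j ≠ 0 := fun e => by rw [e, mul_zero] at hj; exact neg_ne_zero.2 one_ne_zero hj
    refine Submodule.mem_sup.2 ⟨(2 * j)⁻¹ • (j • v + act g v), (hE _ _).2 ?_, (2 * j)⁻¹ • (j • v - act g v),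
      (hE _ _).2 ?_, ?_⟩
    · rw [map_smul, map_add, map_smul, hgg, smul_comm j (2 * j)⁻¹]
      congr 1
      rw [smul_add, smul_smul, ← hj, neg_one_smul]; abel
    · rw [map_smul, map_sub, map_smul, hgg, smul_comm (-j) (2 * j)⁻¹]
      congr 1
      rw [smul_sub, smul_smul, neg_mul, ← hj, neg_neg, one_smul, neg_smul]; abel
    · rw [← smul_add, show j • v + act g v + (j • v - act g v) = (2 * j) • v by rw [two_mul, add_smul]; abel,
        smul_smul, inv_mul_cancel₀ (mul_ne_zero h2 hj0), one_smul]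
  have hdim := Submodule.finrank_sup_add_finrank_inf_eq (E j) (E (-j))
  rw [hsup, finrank_top, Module.finrank_pi, hcard] at hdim
  obtain ⟨c, hc, hcd⟩ : ∃ c : F, c * c = -1 ∧ m ≤ finrank F (E c) := by
    rcases le_or_gt m (finrank F (E j)) with h | h
    · exact ⟨j, hj.symm, h⟩
    · exact ⟨-j, by rw [neg_mul_neg]; exact hj.symm, by omega⟩
  obtain ⟨U, hU, hUd⟩ := exists_le_finrank (E c) hcd
  refine ⟨U, ⟨hUd, fun u hu => ?_⟩, ?_⟩
  · have h1 := act_map g u
    rw [(hE c u).1 (hU hu), QuadraticMap.map_smul, hc, smul_eq_mul] at h1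
    exact (mul_eq_zero.1 (show (2 : F) * Q u = 0 by linear_combination -h1)).resolve_left h2
  · rintro _ ⟨u, hu, rfl⟩
    rw [(hE c u).1 (hU hu)]
    exact U.smul_mem c hu

/-- square roots of `-1` fix even-dimensional ones -/
theorem exists_root_even (hQ : (QuadraticMap.polarBilin Q).Nondegenerate) (h2 : (2 : F) ≠ 0) {d h : ℕ}
    (hcard : Fintype.card ι = 2 * d) (hmd : 2 * h ≤ d) {g : Cfsg.isometryGroup F ⇑Q}
    (hgg : ∀ v, act g (act g v) = -v) :
    ∃ W : Submodule F (ι → F), (finrank F W = 2 * h ∧ ∀ w ∈ W, Q w = 0) ∧ W.map (act g) ≤ W := by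
  have hS := pB_symm Q
  have hB := pB_refl Q
  obtain ⟨k, v, hk, -, hvv, hvg, hvo, -⟩ := FourthRoot.exists_planes hS h2 (g := act g)
    (fun u w => act_polar g u w) hgg _ le_rfl (ndOn_top hQ) le_top
  rw [finrank_top, Module.finrank_pi, hcard] at hk
  have hvg' : ∀ a b, pB Q (act g (v a)) (v b) = 0 := fun a b => hB _ _ (hvg b a)
  have hgv : ∀ a b, pB Q (act g (v a)) (act g (v b)) = pB Q (v a) (v b) := fun a b => act_polar g _ _
  let e0 : Fin h → Fin k := fun c => ⟨2 * c, by omega⟩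
  let e1 : Fin h → Fin k := fun c => ⟨2 * c + 1, by omega⟩
  have h01 : ∀ a b, e0 a ≠ e1 b := fun a b hh => by have := congrArg Fin.val hh; simp [e0, e1] at this; omega
  have h00 : ∀ a b, a ≠ b → e0 a ≠ e0 b := fun a b hh h' => hh (Fin.ext (by
    have := congrArg Fin.val h'; simp [e0] at this; omega))
  have h11 : ∀ a b, a ≠ b → e1 a ≠ e1 b := fun a b hh h' => hh (Fin.ext (by
    have := congrArg Fin.val h'; simp [e1] at this; omega))
  have hrep : ∀ a, ∃ s t : F, (s * s + t * t) * pB Q (v (e0 a)) (v (e0 a)) = - pB Q (v (e1 a)) (v (e1 a)) := by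
    intro a
    obtain ⟨s, t, hst⟩ := FiniteField.exists_root_sum_quadratic
      (f := (Polynomial.X ^ 2 : Polynomial F))
      (g := (Polynomial.X ^ 2 + Polynomial.C (pB Q (v (e1 a)) (v (e1 a)) / pB Q (v (e0 a)) (v (e0 a))) : Polynomial F))
      (Polynomial.degree_X_pow 2) (Polynomial.degree_X_pow_add_C (by norm_num) _)
      (Nat.odd_iff.1 (Nat.not_even_iff_odd.1 fun he => h2 (by
        obtain ⟨n, hp, hn⟩ := FiniteField.card F (ringChar F)
        have h3 : ringChar F = 2 := ((Nat.prime_dvd_prime_iff_eq Nat.prime_two hp).1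
          (Nat.prime_two.dvd_of_dvd_pow (hn ▸ even_iff_two_dvd.1 he))).symm
        have := (CharP.cast_eq_zero_iff F (ringChar F) 2).2 (dvd_of_eq h3)
        exact_mod_cast this)))
    refine ⟨s, t, ?_⟩
    simp only [Polynomial.eval_pow, Polynomial.eval_X, Polynomial.eval_add, Polynomial.eval_C] at hst
    linear_combination (pB Q (v (e0 a)) (v (e0 a))) * hst -
      mul_div_cancel₀ (pB Q (v (e1 a)) (v (e1 a))) (hvv (e0 a))
  choose s t hst using hrep
  let x : Fin h → (ι → F) := fun a => s a • v (e0 a) + t a • act g (v (e0 a)) + v (e1 a)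
  have hgx : ∀ a, act g (x a) = s a • act g (v (e0 a)) - t a • v (e0 a) + act g (v (e1 a)) := fun a => by
    simp only [x, map_add, map_smul, hgg, smul_neg, sub_eq_add_neg]
  have hxx : ∀ a b, pB Q (x a) (x b) = 0 ∧ pB Q (x a) (act g (x b)) = 0 := by
    intro a b
    rcases eq_or_ne a b with rfl | hab
    · constructor
      · simp only [x, map_add, map_smul, LinearMap.add_apply, LinearMap.smul_apply, smul_eq_mul, hvg, hvg', hgv,
          hvo _ _ (h01 a a), hvo _ _ (h01 a a).symm]
        linear_combination hst a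
      · rw [hgx]
        simp only [x, map_add, map_sub, map_smul, LinearMap.add_apply, LinearMap.smul_apply, smul_eq_mul, hvg, hvg',
          hgv, hvo _ _ (h01 a a), hvo _ _ (h01 a a).symm]
        ring
    · constructor
      · simp only [x, map_add, map_smul, LinearMap.add_apply, LinearMap.smul_apply, smul_eq_mul, hvg, hvg', hgv,
          hvo _ _ (h01 a b), hvo _ _ (h01 b a).symm, hvo _ _ (h00 a b hab), hvo _ _ (h11 a b hab)]
        ring
      · rw [hgx]
        simp only [x, map_add, map_sub, map_smul, LinearMap.add_apply, LinearMap.smul_apply, smul_eq_mul, hvg, hvg',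
          hgv, hvo _ _ (h01 a b), hvo _ _ (h01 b a).symm, hvo _ _ (h00 a b hab), hvo _ _ (h11 a b hab)]
        ring
  let u : Fin h ⊕ Fin h → (ι → F) := Sum.elim x (fun a => act g (x a))
  have huu : ∀ a b, pB Q (u a) (u b) = 0 := by
    rintro (a | a) (b | b)
    · exact (hxx a b).1
    · exact (hxx a b).2
    · exact hB _ _ (hxx b a).2
    · exact (act_polar g _ _).trans (hxx a b).1
  have hu0 : ∀ a, Q (u a) = 0 := fun a => by
    have := huu a a
    rw [pB_self] at this
    exact (mul_eq_zero.1 this).resolve_left h2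
  have hli : LinearIndependent F u := by
    rw [Fintype.linearIndependent_iff]
    intro c hc
    have key : ∀ a, pB Q (v (e1 a)) (∑ b, c b • u b) = c (Sum.inl a) * pB Q (v (e1 a)) (v (e1 a)) ∧
        pB Q (act g (v (e1 a))) (∑ b, c b • u b) = c (Sum.inr a) * pB Q (v (e1 a)) (v (e1 a)) := by
      intro a
      constructor <;>
      · simp only [Fintype.sum_sum_type, u, Sum.elim_inl, Sum.elim_inr, hgx, map_add, map_sum, map_smul, smul_eq_mul]
        rw [Finset.sum_eq_single a, Finset.sum_eq_single a]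
        · simp only [x, map_add, map_sub, map_smul, smul_eq_mul, hvg, hvg', hgv, hvo _ _ (h01 a a).symm]
          ring
        all_goals first
          | exact fun h => absurd (Finset.mem_univ a) h
          | (intro b _ hb
             simp only [x, map_add, map_sub, map_smul, smul_eq_mul, hvg, hvg', hgv, hvo _ _ (h01 b a).symm,
               hvo _ _ (h11 a b hb.symm)]
             ring)
    rw [hc] at key
    simp only [map_zero] at key
    rintro (a | a)
    · exact (mul_eq_zero.1 (key a).1.symm).resolve_right (hvv _)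
    · exact (mul_eq_zero.1 (key a).2.symm).resolve_right (hvv _)
  refine ⟨Submodule.span F (Set.range u), ⟨?_, TsCount.sing_span hu0 huu⟩, ?_⟩
  · rw [finrank_span_eq_card hli, Fintype.card_sum, Fintype.card_fin, two_mul]
  · rw [Submodule.map_span, Submodule.span_le]
    rintro _ ⟨_, ⟨a | a, rfl⟩, rfl⟩
    · exact Submodule.subset_span ⟨Sum.inr a, rfl⟩
    · show act g (act g (x a)) ∈ _
      rw [hgg]
      exact neg_mem (Submodule.subset_span ⟨Sum.inl a, rfl⟩)

/-- order two, odd characteristic -/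
theorem allFix_two (hQ : (QuadraticMap.polarBilin Q).Nondegenerate) (h2 : (2 : F) ≠ 0) {d m : ℕ}
    (hcard : Fintype.card ι = 2 * d) (hd : 2 ≤ d) (hmd : m < d) :
    AllFix Q m 2 ↔ (Fintype.card F % 4 = 3 → (IsPlus Q d → m + 2 ≤ d) ∧ (Odd m →
      ¬ ∃ g : Cfsg.isometryGroup F ⇑Q, g ∈ Cfsg.Omega F ⇑Q ∧ ∀ v, act g (act g v) = -v)) := by
  have : Nonempty ι := Fintype.card_pos_iff.1 (by omega)
  have hap : ∀ (g : Cfsg.isometryGroup F ⇑Q) (z : F), (∀ v, act g (act g v) = z • v) →
      (((g : GL ι F) ^ 2 : GL ι F) : Matrix ι ι F) = z • (1 : Matrix ι ι F) := fun g z h => by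
    refine Matrix.toLin'.injective (LinearMap.ext fun v => ?_)
    rw [sq, Units.val_mul, Matrix.toLin'_mul, LinearMap.comp_apply, map_smul, Matrix.toLin'_one,
      LinearMap.smul_apply, LinearMap.id_apply]
    exact h v
  constructor
  · intro H hq
    refine ⟨fun hplus => ?_, fun hm => ?_⟩
    · by_contra hlt
      obtain ⟨g, hg, hgg, hns, hno⟩ := exists_derangement hQ h2 hcard hd hplus hq (m := m) (by omega)
      obtain ⟨W, hW, hWi⟩ := H (g : GL ι F) ⟨g, hg, rfl⟩ ⟨1, hap g 1 fun v => by rw [hgg, one_smul]⟩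
        fun z hz => hns z fun v => by rw [act_apply, hz, Matrix.smul_mulVec, Matrix.one_mulVec]
      exact hno ⟨W, hW, hWi⟩
    · rintro ⟨g, hg, hgg⟩
      obtain ⟨W, ⟨hWd, -⟩, hWi⟩ := H (g : GL ι F) ⟨g, hg, rfl⟩ ⟨-1, hap g (-1) fun v => by rw [hgg, neg_one_smul]⟩
        fun z hz => by
          have hgz : ∀ v, act g v = z • v := fun v => by
            rw [act_apply, hz, Matrix.smul_mulVec, Matrix.one_mulVec]
          have h1 := QuadNd.scalar_sq hQ (act_map g) hgz
          obtain ⟨i⟩ : Nonempty ι := inferInstance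
          have h3 := congrFun (hgg (Pi.single i 1)) i
          rw [hgz, hgz, smul_smul, h1] at h3
          simp at h3
          exact h2 (by linear_combination h3)
      have hev := Inv.even_finrank (a := (0 : F)) (N := (1 : F))
        (θ := (act g).restrict fun v hv => hWi ⟨v, hv, rfl⟩) (fun v => Subtype.ext (by
          show act g (act g (v : ι → F)) = _
          rw [hgg]
          simp)) fun s hs => by
        have := FiniteField.isSquare_neg_one_iff.1 ⟨s, (show s * s = -1 by linear_combination hs).symm⟩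
        exact this hq
      rw [hWd] at hev
      exact Nat.not_even_iff_odd.2 hm hev
  · intro hcond x hx hx2 hxs
    obtain ⟨z, hz⟩ := hx2
    obtain ⟨g, hg, rfl⟩ := hx
    have hgg : ∀ v, act g (act g v) = z • v := fun v => by
      rw [act_apply, act_apply, Matrix.mulVec_mulVec, ← Units.val_mul, ← sq]
      simp only [Subgroup.coe_subtype] at hz
      rw [hz, Matrix.smul_mulVec, Matrix.one_mulVec]
    have hzz := QuadNd.scalar_sq hQ (g := act g ∘ₗ act g) (fun v => by rw [LinearMap.comp_apply, act_map, act_map])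
      (fun v => hgg v)
    rcases mul_self_eq_one_iff.1 hzz with rfl | rfl
    · simp only [one_smul] at hgg
      exact exists_invol hQ h2 hcard hmd (fun hp hq => (hcond hq).1 hp) hg hgg fun c hc => hxs c (by
        refine Matrix.toLin'.injective (LinearMap.ext fun v => ?_)
        rw [map_smul, Matrix.toLin'_one, LinearMap.smul_apply, LinearMap.id_apply]
        exact hc v)
    · have hgg' : ∀ v, act g (act g v) = -v := fun v => by rw [hgg, neg_one_smul]
      by_cases hq : Fintype.card F % 4 = 3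
      · rcases Nat.even_or_odd m with hev | hodd
        · obtain ⟨h, rfl⟩ := hev.two_dvd
          exact exists_root_even hQ h2 hcard (by omega) hgg'
        · exact absurd ⟨g, hg, hgg'⟩ ((hcond hq).2 hodd)
      · exact exists_root_one h2 hcard hmd hq hgg'

end Cfsg.Agent.Classical.IsoInvariant.TsTwo
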